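import Groth.Agent.NodeChar.Geom
import Groth.Agent.SmDesc.Scheme
import Groth.Agent.AlgSpLib.SourceDesc

/-!
Points of a scheme over a field that are smooth or nodes: invariance under field extension and étale maps.
-/

set_option autoImplicit false
set_option linter.style.haveILetI false
set_option backward.isDefEq.respectTransparency false
set_option backward.isDefEq.respectTransparency.types false

universe u

open CategoryTheory CategoryTheory.Limits AlgebraicGeometry

namespace Groth.Agent.NodeFib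

open NodeChar

section

variable {K : Type u} [Field K]

/-- smooth or a node -/
def SN {P : Scheme.{u}} (q : P ⟶ Spec (CommRingCat.of K)) (p : P) : Prop :=
  (∃ U : P.Opens, p ∈ U ∧ Smooth (U.ι ≫ q)) ∨ @Curv2.IsNode K _ P ⟨q⟩ p

theorem smooth_iff_mem {P S : Scheme.{u}} (q : P ⟶ S) [LocallyOfFinitePresentation q] (p : P) :
    (∃ U : P.Opens, p ∈ U ∧ Smooth (U.ι ≫ q)) ↔ p ∈ q.smoothLocus :=
  ⟨fun ⟨_, hp, _⟩ => SmDesc.mem_smoothLocus_of_smooth_ι q hp, fun h => ⟨_, h, SmDesc.smooth_smoothLocus q⟩⟩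

/-- nodes along an étale map -/
theorem isNode_etale {P Q : Scheme.{u}} (q : P ⟶ Spec (CommRingCat.of K)) [LocallyOfFiniteType q]
    (π : Q ⟶ P) [Etale π] (y : Q) :
    @Curv2.IsNode K _ P ⟨q⟩ (π y) ↔ @Curv2.IsNode K _ Q ⟨π ≫ q⟩ y := by
  letI : P.Over (Spec (CommRingCat.of K)) := ⟨q⟩
  letI : Q.Over (Spec (CommRingCat.of K)) := ⟨π ≫ q⟩
  haveI : LocallyOfFiniteType (P ↘ Spec (CommRingCat.of K)) := ‹LocallyOfFiniteType q›
  haveI : LocallyOfFiniteType (Q ↘ Spec (CommRingCat.of K)) := inferInstanceAs (LocallyOfFiniteType (π ≫ q))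
  rw [NodeChar.isNode_iff K P (π y), NodeChar.isNode_iff K Q y]
  let A := P.presheaf.stalk (π y)
  let B := Q.presheaf.stalk y
  letI := Curv2.stalkAlgebra K P (π y)
  letI := Curv2.stalkAlgebra K Q y
  haveI := NodeChar.isNoetherianRing_stalk K P (π y)
  letI : Algebra A B := (π.stalkMap y).hom.toAlgebra
  haveI : IsLocalHom (algebraMap A B) := inferInstanceAs (IsLocalHom (π.stalkMap y).hom)
  haveI : Module.Flat A B := Flat.stalkMap π y
  haveI : Algebra.EssFiniteType A B := LocallyOfFiniteType.stalkMap π y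
  haveI : Algebra.FormallyUnramified A B := RingHom.formallyUnramified_algebraMap.1 (by
    rw [RingHom.algebraMap_toAlgebra]; exact FormallyUnramified.stalkMap π y)
  haveI : IsScalarTower K A B := IsScalarTower.of_algebraMap_eq fun t => by
    show Q.presheaf.germ ⊤ y trivial ((π ≫ q).appTop ((Scheme.ΓSpecIso (CommRingCat.of K)).inv t)) =
      π.stalkMap y (P.presheaf.germ ⊤ (π y) trivial (q.appTop ((Scheme.ΓSpecIso (CommRingCat.of K)).inv t)))
    rw [Scheme.Hom.germ_stalkMap_apply π ⊤ y trivial, Scheme.Hom.comp_appTop]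
    rfl
  have hm := Algebra.FormallyUnramified.map_maximalIdeal (R := A) (S := B)
  haveI : IsScalarTower K (IsLocalRing.ResidueField A) (IsLocalRing.ResidueField B) :=
    IsScalarTower.of_algebraMap_eq fun t => congrArg (IsLocalRing.residue _) (IsScalarTower.algebraMap_apply K A B t)
  refine and_congr ⟨fun h => Algebra.IsSeparable.trans K (IsLocalRing.ResidueField A) (IsLocalRing.ResidueField B),
    fun h => Algebra.isSeparable_tower_bot_of_isSeparable K (IsLocalRing.ResidueField A)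
      (IsLocalRing.ResidueField B)⟩ ⟨fun h => h.map hm, fun h => h.descend hm⟩

/-- the smooth locus along an étale map -/
theorem mem_smoothLocus_etale {P Q S : Scheme.{u}} (q : P ⟶ S) [LocallyOfFinitePresentation q]
    (π : Q ⟶ P) [Etale π] (y : Q) : y ∈ (π ≫ q).smoothLocus ↔ π y ∈ q.smoothLocus := by
  constructor
  · intro hy
    let U := (π ≫ q).smoothLocus
    haveI : Smooth (U.ι ≫ π ≫ q) := SmDesc.smooth_smoothLocus _
    let V : P.Opens := ⟨π '' U, π.isOpenMap _ U.2⟩
    have hle : U ≤ π ⁻¹ᵁ V := fun z hz => ⟨z, hz, rfl⟩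
    let r := π.resLE V U hle
    haveI : Etale r := by
      show Etale (Q.homOfLE hle ≫ π ∣_ V)
      infer_instance
    haveI : Surjective r := ⟨fun v => by
      obtain ⟨z, hz, e⟩ := v.2
      refine ⟨⟨z, hz⟩, Subtype.ext ?_⟩
      rw [← e]
      exact congr($(π.resLE_comp_ι (U := V) (V := U) hle) ⟨z, hz⟩)⟩
    haveI : Smooth (r ≫ V.ι ≫ q) := by
      rw [π.resLE_comp_ι_assoc]
      infer_instance
    haveI := AlgSpLib.SrcDesc.smooth r (V.ι ≫ q)
    exact SmDesc.mem_smoothLocus_of_smooth_ι q (U := V) ⟨y, hy, rfl⟩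
  · intro hy
    haveI : Smooth (q.smoothLocus.ι ≫ q) := SmDesc.smooth_smoothLocus _
    haveI : Smooth ((π ⁻¹ᵁ q.smoothLocus).ι ≫ π ≫ q) := by
      rw [← morphismRestrict_ι_assoc]
      infer_instance
    exact SmDesc.mem_smoothLocus_of_smooth_ι (π ≫ q) (U := π ⁻¹ᵁ q.smoothLocus) hy

theorem sn_etale {P Q : Scheme.{u}} (q : P ⟶ Spec (CommRingCat.of K)) [LocallyOfFinitePresentation q]
    (π : Q ⟶ P) [Etale π] (y : Q) : SN (π ≫ q) y ↔ SN q (π y) := by
  rw [SN, SN, smooth_iff_mem, smooth_iff_mem, mem_smoothLocus_etale, isNode_etale]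

theorem sn_of_iso {P Q : Scheme.{u}} (q : P ⟶ Spec (CommRingCat.of K)) [LocallyOfFinitePresentation q]
    (q' : Q ⟶ Spec (CommRingCat.of K)) (e : Q ≅ P) (h : e.hom ≫ q = q') (y : Q) : SN q' y ↔ SN q (e.hom y) := by
  subst h
  exact sn_etale q e.hom y

end

/-- nodes along a field extension -/
theorem isNode_bc (K : Type u) [Field K] (P : Scheme.{u}) [P.Over (Spec (CommRingCat.of K))]
    [LocallyOfFiniteType (P ↘ Spec (CommRingCat.of K))] (L : Type u) [Field L] [Algebra K L] (y : Curv2.bc K P L) :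
    Curv2.IsNode K P (Curv2.bcFst K P L y) ↔ @Curv2.IsNode L _ (Curv2.bc K P L) ⟨Curv2.bcSnd K P L⟩ y := by
  letI : (Curv2.bc K P L).Over (Spec (CommRingCat.of L)) := ⟨Curv2.bcSnd K P L⟩
  haveI : LocallyOfFiniteType ((Curv2.bc K P L) ↘ Spec (CommRingCat.of L)) :=
    inferInstanceAs (LocallyOfFiniteType (Curv2.bcSnd K P L))
  rw [NodeChar.isNode_iff K P, NodeChar.isNode_iff L (Curv2.bc K P L)]
  exact NodeChar.point_iff K P L y

/-- smooth or node, along a field extension -/
theorem sn_of_isPullback {K L : Type u} [Field K] [Field L] {P P' : Scheme.{u}}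
    (q : P ⟶ Spec (CommRingCat.of K)) [LocallyOfFinitePresentation q]
    (h : Spec (CommRingCat.of L) ⟶ Spec (CommRingCat.of K))
    (e : P' ⟶ P) (q' : P' ⟶ Spec (CommRingCat.of L)) (sq : IsPullback e q' q h) (p' : P') :
    SN q' p' ↔ SN q (e p') := by
  obtain ⟨φ, rfl⟩ := Spec.map_surjective h
  letI : Algebra K L := φ.hom.toAlgebra
  haveI : Flat (Spec.map φ) := Flat.SpecMap_iff.2 (RingHom.Flat.of_isField (Field.toIsField _) _)
  letI : P.Over (Spec (CommRingCat.of K)) := ⟨q⟩
  haveI : LocallyOfFiniteType (P ↘ Spec (CommRingCat.of K)) := inferInstanceAs (LocallyOfFiniteType q)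
  haveI : LocallyOfFinitePresentation q' := MorphismProperty.of_isPullback sq ‹_›
  haveI : LocallyOfFinitePresentation (Curv2.bcSnd K P L) :=
    inferInstanceAs (LocallyOfFinitePresentation (pullback.snd q (Spec.map φ)))
  let i : P' ≅ Curv2.bc K P L := sq.isoPullback
  have hi : i.hom ≫ Curv2.bcSnd K P L = q' := sq.isoPullback_hom_snd
  have hif : Curv2.bcFst K P L (i.hom p') = e p' := by
    rw [← Scheme.Hom.comp_apply]
    exact congr($(sq.isoPullback_hom_fst) p')
  rw [sn_of_iso _ q' i hi, ← hif, SN, SN, smooth_iff_mem, smooth_iff_mem]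
  refine or_congr ⟨fun hs => ?_, fun hs => ?_⟩ (isNode_bc K P L (i.hom p')).symm
  · exact SmDesc.mem_smoothLocus_of_isPullback (IsPullback.of_hasPullback q (Spec.map φ)) hs
  · exact SmDesc.preimage_smoothLocus_le (IsPullback.of_hasPullback q (Spec.map φ)) hs

end Groth.Agent.NodeFib
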