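import Mathlib

/-!
Étale coordinate charts: `z : Fin n → T` such that `R[X₁, …, Xₙ] → T` is étale.
-/

set_option autoImplicit false
set_option linter.style.haveILetI false
set_option backward.isDefEq.respectTransparency false
set_option backward.isDefEq.respectTransparency.types false

universe u

open MvPolynomial KaehlerDifferential TensorProduct

namespace Groth.Agent.NodeFib

/-- `z` is an étale system of coordinates of `T` over `R`. -/
def IsChart (R : Type u) [CommRing R] {T : Type u} [CommRing T] [Algebra R T] {n : ℕ} (z : Fin n → T) : Prop :=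
  (aeval z : MvPolynomial (Fin n) R →ₐ[R] T).toRingHom.Etale

variable {R T : Type u} [CommRing R] [CommRing T] [Algebra R T] {n : ℕ} {z : Fin n → T}

namespace IsChart

variable (h : IsChart R z)
include h

theorem formallySmooth : Algebra.FormallySmooth R T := by
  letI := (aeval z : MvPolynomial (Fin n) R →ₐ[R] T).toRingHom.toAlgebra
  haveI : IsScalarTower R (MvPolynomial (Fin n) R) T :=
    IsScalarTower.of_algebraMap_eq fun r => ((aeval z : MvPolynomial (Fin n) R →ₐ[R] T).commutes r).symm
  haveI : Algebra.Etale (MvPolynomial (Fin n) R) T := h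
  exact Algebra.FormallySmooth.comp R (MvPolynomial (Fin n) R) T

theorem finitePresentation : Algebra.FinitePresentation R T := by
  letI := (aeval z : MvPolynomial (Fin n) R →ₐ[R] T).toRingHom.toAlgebra
  haveI : IsScalarTower R (MvPolynomial (Fin n) R) T :=
    IsScalarTower.of_algebraMap_eq fun r => ((aeval z : MvPolynomial (Fin n) R →ₐ[R] T).commutes r).symm
  haveI : Algebra.Etale (MvPolynomial (Fin n) R) T := h
  exact Algebra.FinitePresentation.trans R (MvPolynomial (Fin n) R) T

theorem exists_basis : ∃ b : Module.Basis (Fin n) T Ω[T⁄R], ∀ i, b i = D R T (z i) := by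
  letI := (aeval z : MvPolynomial (Fin n) R →ₐ[R] T).toRingHom.toAlgebra
  haveI : IsScalarTower R (MvPolynomial (Fin n) R) T :=
    IsScalarTower.of_algebraMap_eq fun r => ((aeval z : MvPolynomial (Fin n) R →ₐ[R] T).commutes r).symm
  haveI : Algebra.Etale (MvPolynomial (Fin n) R) T := h
  refine ⟨((mvPolynomialBasis R (Fin n)).baseChange T).map
    (tensorKaehlerEquivOfFormallyEtale R (MvPolynomial (Fin n) R) T), fun i => ?_⟩
  rw [Module.Basis.map_apply, Module.Basis.baseChange_apply, mvPolynomialBasis_apply,
    tensorKaehlerEquivOfFormallyEtale_apply, mapBaseChange_tmul, one_smul, map_D]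
  exact congrArg (D R T) (aeval_X z i)

/-- the basis of differentials of the coordinates -/
noncomputable def basis : Module.Basis (Fin n) T Ω[T⁄R] := h.exists_basis.choose

theorem basis_apply (i : Fin n) : h.basis i = D R T (z i) := h.exists_basis.choose_spec i

/-- the partial derivatives -/
noncomputable def pd (i : Fin n) : Derivation R T T := (h.basis.coord i).compDer (D R T)

theorem pd_apply (i : Fin n) (t : T) : h.pd i t = h.basis.repr (D R T t) i := rfl

theorem pd_z (i j : Fin n) : h.pd i (z j) = if i = j then 1 else 0 := by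
  rw [pd_apply, ← h.basis_apply, h.basis.repr_self, Finsupp.single_apply]
  simp only [eq_comm]

theorem der_ext {M : Type*} [AddCommGroup M] [Module T M] [Module R M] [IsScalarTower R T M]
    (D₁ D₂ : Derivation R T M) (hz : ∀ i, D₁ (z i) = D₂ (z i)) : D₁ = D₂ := by
  refine Derivation.ext fun t => ?_
  rw [← D₁.liftKaehlerDifferential_comp_D, ← D₂.liftKaehlerDifferential_comp_D]
  refine LinearMap.congr_fun (h.basis.ext fun i => ?_) _
  rw [h.basis_apply, Derivation.liftKaehlerDifferential_comp_D, Derivation.liftKaehlerDifferential_comp_D]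
  exact hz i

theorem D_eq (t : T) : D R T t = ∑ i, h.pd i t • D R T (z i) := by
  conv_lhs => rw [← h.basis.sum_repr (D R T t)]
  exact Finset.sum_congr rfl fun i _ => by rw [h.basis_apply, pd_apply]

/-- elements with invertible Jacobian form a chart -/
theorem jac (g : Fin n → T) (hu : IsUnit (Matrix.of fun i j => h.pd i (g j)).det) : IsChart R g := by
  classical
  haveI hfs : Algebra.FormallySmooth R T := h.formallySmooth
  haveI hfp : Algebra.FinitePresentation R T := h.finitePresentation
  let bT := h.basis
  have hbT : ∀ i j, bT.repr (D R T (g j)) i = h.pd i (g j) := fun _ _ => rfl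
  letI := (aeval g : MvPolynomial (Fin n) R →ₐ[R] T).toRingHom.toAlgebra
  let P := MvPolynomial (Fin n) R
  haveI : IsScalarTower R P T :=
    IsScalarTower.of_algebraMap_eq fun r => ((aeval g : MvPolynomial (Fin n) R →ₐ[R] T).commutes r).symm
  let bP := (mvPolynomialBasis R (Fin n)).baseChange T
  have hX : ∀ j, mapBaseChange R P T (bP j) = D R T (g j) := fun j => by
    rw [Module.Basis.baseChange_apply, mvPolynomialBasis_apply, mapBaseChange_tmul, one_smul, map_D]
    exact congrArg (D R T) (aeval_X g j)
  have hM : LinearMap.toMatrix bP bT (mapBaseChange R P T) = Matrix.of fun i j => h.pd i (g j) := by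
    ext i j
    rw [LinearMap.toMatrix_apply, hX]
    exact hbT i j
  have hbij : Function.Bijective (mapBaseChange R P T) :=
    (LinearEquiv.ofIsUnitDet (f := mapBaseChange R P T) (v := bP) (v' := bT) (hM ▸ hu)).bijective
  haveI : Subsingleton (KaehlerDifferential P T) := by
    refine subsingleton_of_forall_eq 0 fun w => ?_
    obtain ⟨w', rfl⟩ := KaehlerDifferential.map_surjective R P T w
    obtain ⟨v, rfl⟩ := hbij.2 w'
    exact (KaehlerDifferential.exact_mapBaseChange_map R P T).apply_apply_eq_zero v
  haveI : Subsingleton (Algebra.H1Cotangent P T) := by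
    refine subsingleton_of_forall_eq 0 fun w => ?_
    have h0 : mapBaseChange R P T (Algebra.H1Cotangent.δ R P T w) = 0 :=
      (Algebra.H1Cotangent.exact_δ_mapBaseChange R P T).apply_apply_eq_zero w
    obtain ⟨v, rfl⟩ := (Algebra.H1Cotangent.exact_map_δ R P T w).1
      (hbij.1 (h0.trans (map_zero _).symm))
    rw [Subsingleton.elim v 0, map_zero]
  haveI : Algebra.FormallyEtale P T := (Algebra.formallyEtale_iff P T).2 ⟨inferInstance, inferInstance⟩
  exact ⟨inferInstance, Algebra.FinitePresentation.of_restrict_scalars_finitePresentation R P T⟩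

/-- charts go up along étale algebras -/
theorem comp {B : Type u} [CommRing B] [Algebra R B] (φ : T →ₐ[R] B) (hφ : φ.toRingHom.Etale) :
    IsChart R (φ ∘ z) := by
  unfold IsChart
  rw [show (aeval (φ ∘ z) : MvPolynomial (Fin n) R →ₐ[R] B) = φ.comp (aeval z) from
    MvPolynomial.algHom_ext fun i => by simp]
  exact RingHom.Etale.stableUnderComposition _ _ h hφ

theorem away (f : T) : IsChart R (algebraMap T (Localization.Away f) ∘ z) :=
  h.comp (IsScalarTower.toAlgHom R T (Localization.Away f))
    (RingHom.etale_algebraMap.2 inferInstance)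

end IsChart

/-- quotients of étale maps -/
theorem quot_etale {Z : Type u} [CommRing Z] (φ : Z →+* T) (hφ : φ.Etale) (J : Ideal Z) (K : Ideal T)
    (hK : K = J.map φ) :
    (Ideal.quotientMap K φ (hK ▸ Ideal.le_comap_map)).Etale := by
  subst hK
  letI := φ.toAlgebra
  haveI : Algebra.Etale Z T := hφ
  haveI : Algebra.Etale (Z ⧸ J) ((Z ⧸ J) ⊗[Z] T) := inferInstance
  have e := Algebra.Etale.of_equiv (Algebra.TensorProduct.quotIdealMapEquivQuotTensor T J).symm
  exact RingHom.etale_algebraMap.2 e

/-- quotients of a chart by some of the coordinates -/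
theorem IsChart.quot {m l : ℕ} {z : Fin (m + l) → T} (h : IsChart R z) :
    IsChart R (fun i => Ideal.Quotient.mk (Ideal.span (Set.range (z ∘ Fin.natAdd m))) (z (Fin.castAdd l i))) := by
  let P := MvPolynomial (Fin (m + l)) R
  let J : Ideal P := Ideal.span (Set.range (X ∘ Fin.natAdd m))
  let φ : P →+* T := (aeval z : P →ₐ[R] T).toRingHom
  have hK : Ideal.span (Set.range (z ∘ Fin.natAdd m)) = J.map φ := by
    rw [Ideal.map_span, ← Set.range_comp]
    congr 2
    funext i
    exact (aeval_X z (Fin.natAdd m i)).symm
  let ι : MvPolynomial (Fin m) R →ₐ[R] P ⧸ J := (Ideal.Quotient.mkₐ R J).comp (rename (Fin.castAdd l))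
  let ρ : P ⧸ J →ₐ[R] MvPolynomial (Fin m) R :=
    Ideal.Quotient.liftₐ J (aeval (Fin.append X 0)) fun p hp => by
      refine RingHom.mem_ker.1 ((Ideal.span_le.2 ?_) hp)
      rintro _ ⟨i, rfl⟩
      show aeval (Fin.append X 0) (X (Fin.natAdd m i)) = 0
      rw [aeval_X, Fin.append_right, Pi.zero_apply]
  have h1 : ρ.comp ι = AlgHom.id R _ := MvPolynomial.algHom_ext fun i => by
    show aeval (Fin.append X 0) (rename (Fin.castAdd l) (X i)) = X i
    rw [rename_X, aeval_X, Fin.append_left]
  have h2 : ι.comp ρ = AlgHom.id R _ := by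
    refine Ideal.Quotient.algHom_ext _ (MvPolynomial.algHom_ext fun i => ?_)
    induction i using Fin.addCases with
    | left i =>
      show Ideal.Quotient.mk J (rename (Fin.castAdd l) (aeval (Fin.append X 0) (X (Fin.castAdd l i)))) =
        Ideal.Quotient.mk J (X (Fin.castAdd l i))
      rw [aeval_X, Fin.append_left, rename_X]
    | right i =>
      show Ideal.Quotient.mk J (rename (Fin.castAdd l) (aeval (Fin.append X 0) (X (Fin.natAdd m i)))) =
        Ideal.Quotient.mk J (X (Fin.natAdd m i))
      rw [aeval_X, Fin.append_right, Pi.zero_apply, map_zero, map_zero]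
      exact (Ideal.Quotient.eq_zero_iff_mem.2
        (show X (Fin.natAdd m i) ∈ J from Ideal.subset_span ⟨i, rfl⟩)).symm
  have hbij : Function.Bijective ι.toRingHom :=
    ⟨Function.LeftInverse.injective (g := ρ) fun x => AlgHom.congr_fun h1 x,
      Function.RightInverse.surjective (g := ρ) fun x => AlgHom.congr_fun h2 x⟩
  have he := RingHom.Etale.stableUnderComposition ι.toRingHom _ (RingHom.Etale.of_bijective hbij)
    (quot_etale φ h J _ hK)
  unfold IsChart
  refine Eq.subst (motive := fun f => RingHom.Etale f) ?_ he
  refine MvPolynomial.ringHom_ext (fun r => ?_) (fun i => ?_)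
  · show Ideal.Quotient.mk _ (aeval z (rename (Fin.castAdd l) (MvPolynomial.C r))) = aeval _ (MvPolynomial.C r)
    rw [rename_C, aeval_C, aeval_C]
    rfl
  · show Ideal.Quotient.mk _ (aeval z (rename (Fin.castAdd l) (X i))) = aeval _ (X i)
    rw [rename_X, aeval_X, aeval_X]

/-- coordinates of a polynomial ring over an étale algebra -/
theorem isChart_poly (R C : Type u) [CommRing R] [CommRing C] [Algebra R C] [Algebra.Etale R C] (n : ℕ) :
    IsChart R (X : Fin n → MvPolynomial (Fin n) C) := by
  letI : Algebra (MvPolynomial (Fin n) R) (MvPolynomial (Fin n) C) := MvPolynomial.algebraMvPolynomial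
  have := RingHom.Etale.isStableUnderBaseChange R C (MvPolynomial (Fin n) R) (MvPolynomial (Fin n) C)
    (RingHom.etale_algebraMap.2 inferInstance)
  unfold IsChart
  refine Eq.subst (motive := fun f => RingHom.Etale f) ?_ this
  refine MvPolynomial.ringHom_ext (fun r => ?_) (fun i => ?_)
  · show MvPolynomial.map (algebraMap R C) (MvPolynomial.C r) = _
    simp
  · show MvPolynomial.map (algebraMap R C) (X i) = _
    simp

/-- algebras with an empty chart are étale -/
theorem IsChart.etale_of_zero {z : Fin 0 → T} (h : IsChart R z) : Algebra.Etale R T := by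
  have hb : Function.Bijective (algebraMap R (MvPolynomial (Fin 0) R)) :=
    ⟨C_injective _ _, C_surjective _⟩
  have := RingHom.Etale.stableUnderComposition _ _ (RingHom.Etale.of_bijective hb) h
  rw [show ((aeval z : MvPolynomial (Fin 0) R →ₐ[R] T).toRingHom).comp (algebraMap R _) = algebraMap R T from
    RingHom.ext fun r => (aeval z : MvPolynomial (Fin 0) R →ₐ[R] T).commutes r] at this
  exact RingHom.etale_algebraMap.1 this

end Groth.Agent.NodeFib
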