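import Groth.Agent.NodeFib.Open
import Groth.Agent.LimMore.Smooth

/-!
Nodal families descend along cofiltered limits.
-/

set_option autoImplicit false
set_option linter.style.haveILetI false

universe u

open CategoryTheory CategoryTheory.Limits AlgebraicGeometry

namespace Groth.Agent.NodeFib

open LimDesc

variable {I : Type u} [SmallCategory I] [IsCofiltered I] (D : I ⥤ Scheme.{u})
  [∀ {i j} (f : i ⟶ j), IsAffineHom (D.map f)] {i₀ : I}
variable (c : Cone D) (hc : IsLimit c)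
variable {X₀ Y₀ : Scheme.{u}} (f₀ : X₀ ⟶ Y₀) (g₀ : Y₀ ⟶ D.obj i₀)
variable {X Y : Scheme.{u}} {f : X ⟶ Y} {g : Y ⟶ c.pt} {qY : Y ⟶ Y₀} {qX : X ⟶ X₀}
variable (hY : IsPullback qY g g₀ (c.π.app i₀)) (hX : IsPullback qX f f₀ qY)

include hc hY hX in
theorem exists_isNodalFamily [CompactSpace X₀] [LocallyOfFinitePresentation f₀] (hf : Curv2.IsNodalFamily f) :
    ∃ j : Over i₀, Curv2.IsNodalFamily (stageMap D g₀ f₀ j) := by
  obtain ⟨hflat, hfp, hgood⟩ := (isNodalFamily_iff f).1 hf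
  haveI := hflat
  obtain ⟨l, hl⟩ := FlatSpread.exists_flat D c hc f₀ g₀ hY hX
  haveI := hl
  have hXS := isPullback_comp D g₀ c hY f₀ hX
  let fl := stageMap D g₀ f₀ l
  have : LocallyOfFinitePresentation fl :=
    MorphismProperty.of_isPullback (P := @LocallyOfFinitePresentation) (isPullback_stageMap D g₀ f₀ l) inferInstance
  let U : (stage D (f₀ ≫ g₀) l).Opens := ⟨_, isOpen_good fl⟩
  have : ∀ {i k : Over i₀} (e : i ⟶ k), IsAffineHom ((tower D (f₀ ≫ g₀)).map e) :=
    fun e => isAffineHom_tower_map D (f₀ ≫ g₀) e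
  have : ∀ k, CompactSpace ((tower D (f₀ ≫ g₀)).obj k) := fun k => compactSpace_stage D (f₀ ≫ g₀) k
  obtain ⟨k, e, he⟩ := exists_map_eq_top (tower D (f₀ ≫ g₀)) (towerCone D (f₀ ≫ g₀) c hXS)
    (isLimitTowerCone D (f₀ ≫ g₀) c hXS hc) U (by
      refine eq_top_iff.2 fun x _ => ?_
      exact (good_baseChange fl _ _ f (isPullback_proj_stageMap D g₀ c hY f₀ hX l) (show X from x)).1 (hgood _))
  refine ⟨k, (isNodalFamily_iff _).2 ?_⟩
  have hk := isPullback_trans_stageMap D g₀ f₀ e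
  refine ⟨MorphismProperty.of_isPullback (P := @Flat) hk hl,
    MorphismProperty.of_isPullback (P := @LocallyOfFinitePresentation) hk inferInstance, fun x => ?_⟩
  refine (good_baseChange fl _ _ _ hk x).2 ?_
  have he' : trans D (f₀ ≫ g₀) e ⁻¹ᵁ U = ⊤ := he
  exact (SetLike.ext_iff.1 he' x).2 trivial

end Groth.Agent.NodeFib
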