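import Groth.Agent.FittLib.Basic
import Groth.Agent.CotT.PointSmooth
import Mathlib.RingTheory.Etale.Field

/-!
Differentials of a local algebra with separable residue field and a regular system of generators.
-/

set_option autoImplicit false
set_option linter.style.haveILetI false

universe u

open IsLocalRing TensorProduct

namespace Groth.Agent.NodeFib

variable {k A : Type u} [Field k] [CommRing A] [IsLocalRing A] [Algebra k A]
  [Algebra.IsSeparable k (ResidueField A)]

/-- minimal generators have independent differentials modulo the maximal ideal -/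
theorem linearIndependent_D [IsNoetherianRing A] {e : ℕ} (x : Fin e → A)
    (hx : Ideal.span (Set.range x) = maximalIdeal A) (he : (maximalIdeal A).spanFinrank = e) :
    LinearIndependent (ResidueField A) (fun i => (1 : ResidueField A) ⊗ₜ[A] KaehlerDifferential.D k A (x i)) := by
  haveI : Algebra.FormallyEtale k (ResidueField A) := Algebra.FormallyEtale.of_isSeparable k _
  let I := RingHom.ker (algebraMap A (ResidueField A))
  have hI : I = maximalIdeal A := IsLocalRing.ker_residue
  have hsurj : Function.Surjective (algebraMap A (ResidueField A)) := IsLocalRing.residue_surjective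
  obtain ⟨l, hl⟩ : ∃ l, l ∘ₗ KaehlerDifferential.kerCotangentToTensor k A (ResidueField A) = LinearMap.id := by
    let π := (IsScalarTower.toAlgHom k A (ResidueField A)).kerSquareLift
    have hπ : Function.Surjective π := fun y => by
      obtain ⟨a, rfl⟩ := hsurj y
      exact ⟨Ideal.Quotient.mk _ a, rfl⟩
    have hnil : IsNilpotent (RingHom.ker π) := ⟨2, by
      rw [show RingHom.ker π = RingHom.ker π.toRingHom from rfl, AlgHom.ker_kerSquareLift, Ideal.cotangentIdeal_square]; rfl⟩
    exact ⟨_, ((retractionKerCotangentToTensorEquivSection (R := k) hsurj).symm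
      ⟨Algebra.FormallySmooth.liftOfSurjective (AlgHom.id _ _) π hπ hnil,
        AlgHom.ext fun y => Algebra.FormallySmooth.liftOfSurjective_apply (AlgHom.id _ _) π hπ hnil y⟩).2⟩
  have hxm : ∀ i, x i ∈ maximalIdeal A := fun i => hx ▸ Ideal.subset_span ⟨i, rfl⟩
  rw [Fintype.linearIndependent_iff]
  intro c hc
  choose a ha using fun i => hsurj (c i)
  have hy : ∑ i, a i * x i ∈ I := by
    rw [hI]; exact Ideal.sum_mem _ fun i _ => Ideal.mul_mem_left _ _ (hxm i)
  have hz : KaehlerDifferential.kerCotangentToTensor k A (ResidueField A) (I.toCotangent ⟨_, hy⟩) = 0 := by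
    rw [KaehlerDifferential.kerCotangentToTensor_toCotangent, map_sum, TensorProduct.tmul_sum, ← hc]
    refine Finset.sum_congr rfl fun i _ => ?_
    rw [Derivation.leibniz, TensorProduct.tmul_add, TensorProduct.tmul_smul, TensorProduct.tmul_smul, ← ha i,
      algebraMap_smul, algebra_compatible_smul (ResidueField A) (x i),
      show algebraMap A (ResidueField A) (x i) = 0 from (IsLocalRing.residue_eq_zero_iff _).2 (hxm i), zero_smul,
      add_zero]
  have h0 : I.toCotangent ⟨_, hy⟩ = 0 := by
    have := LinearMap.congr_fun hl (I.toCotangent ⟨_, hy⟩)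
    rwa [LinearMap.comp_apply, hz, map_zero, LinearMap.id_apply, eq_comm] at this
  rw [Ideal.toCotangent_eq_zero] at h0
  have h2 : ∑ i, a i * x i ∈ maximalIdeal A ^ 2 := by rw [← hI]; exact h0
  -- the classes of the generators are independent in the cotangent space
  let v : Fin e → CotangentSpace A := fun i => (maximalIdeal A).toCotangent ⟨x i, hxm i⟩
  have hsp : Submodule.span (ResidueField A) (Set.range v) = ⊤ := by
    rw [show v = (maximalIdeal A).toCotangent ∘ fun i => (⟨x i, hxm i⟩ : maximalIdeal A) from rfl, Set.range_comp,
      CotangentSpace.span_image_eq_top_iff, ← (Submodule.map_injective_of_injective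
        (Submodule.injective_subtype (maximalIdeal A))).eq_iff, Submodule.map_span, ← Set.range_comp,
      Submodule.map_top, Submodule.range_subtype]
    exact hx
  have hli : LinearIndependent (ResidueField A) v :=
    linearIndependent_of_top_le_span_of_card_eq_finrank hsp.ge (by
      rw [← IsLocalRing.spanFinrank_maximalIdeal_eq_finrank_cotangentSpace_of_fg (IsNoetherian.noetherian _), he,
        Fintype.card_fin])
  intro i
  rw [← ha i]
  refine (Fintype.linearIndependent_iff.1 hli (fun i => residue A (a i)) ?_ i)
  have hy' : ∑ i, a i * x i ∈ maximalIdeal A := Ideal.sum_mem _ fun i _ => Ideal.mul_mem_left _ _ (hxm i)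
  have h0 : (maximalIdeal A).toCotangent ⟨_, hy'⟩ = 0 := ((maximalIdeal A).toCotangent_eq_zero _).2 h2
  rw [← h0, show (⟨_, hy'⟩ : maximalIdeal A) = ∑ i, a i • ⟨x i, hxm i⟩ from Subtype.ext (by simp), map_sum]
  refine Finset.sum_congr rfl fun i _ => ?_
  rw [map_smul, ← algebraMap_smul (ResidueField A) (a i)]
  rfl

/-- every relation between differentials of minimal generators has coefficients in the maximal ideal -/
theorem coeff_mem_of_sum_D [IsNoetherianRing A] {e : ℕ} (x : Fin e → A)
    (hx : Ideal.span (Set.range x) = maximalIdeal A) (he : (maximalIdeal A).spanFinrank = e) (z : Fin e → A)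
    (hz : ∑ i, z i • KaehlerDifferential.D k A (x i) = 0) (i : Fin e) : z i ∈ maximalIdeal A := by
  rw [← residue_eq_zero_iff]
  refine Fintype.linearIndependent_iff.1 (linearIndependent_D (k := k) x hx he) (fun i => residue A (z i)) ?_ i
  have h := congrArg (fun w => (1 : ResidueField A) ⊗ₜ[A] w) hz
  rw [TensorProduct.tmul_sum, TensorProduct.tmul_zero] at h
  refine Eq.trans (Finset.sum_congr rfl fun i _ => ?_) h
  rw [TensorProduct.tmul_smul, ← algebraMap_smul (ResidueField A) (z i)]
  rfl

/-- the differentials of generators of the maximal ideal generate -/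
theorem span_D [Module.Finite A Ω[A⁄k]] {ι : Type*} (x : ι → A)
    (hx : Ideal.span (Set.range x) = maximalIdeal A) :
    Submodule.span A (Set.range fun i => KaehlerDifferential.D k A (x i)) = ⊤ := by
  haveI : Algebra.FormallyUnramified k (ResidueField A) := Algebra.FormallyUnramified.of_isSeparable k _
  set N := Submodule.span A (Set.range fun i => KaehlerDifferential.D k A (x i))
  refine eq_top_iff.2 (Submodule.le_of_le_smul_of_le_jacobson_bot Module.Finite.fg_top
    (maximalIdeal_le_jacobson _) fun w _ => ?_)
  have hK : Function.Surjective (algebraMap A (ResidueField A)) := residue_surjective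
  obtain ⟨c, hc⟩ := (KaehlerDifferential.exact_kerCotangentToTensor_mapBaseChange k A (ResidueField A) hK
    ((1 : ResidueField A) ⊗ₜ w)).1 (Subsingleton.elim _ _)
  obtain ⟨⟨i, hi⟩, rfl⟩ := Ideal.toCotangent_surjective _ c
  rw [KaehlerDifferential.kerCotangentToTensor_toCotangent] at hc
  have hd : KaehlerDifferential.D k A i ∈ N ⊔ maximalIdeal A • ⊤ := by
    have him : i ∈ Ideal.span (Set.range x) := by
      rw [hx, ← IsLocalRing.ker_residue]; exact hi
    clear hc hi
    induction him using Submodule.span_induction with
    | mem y hy => obtain ⟨j, rfl⟩ := hy; exact Submodule.mem_sup_left (Submodule.subset_span ⟨j, rfl⟩)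
    | zero => rw [map_zero]; exact zero_mem _
    | add y z _ _ h1 h2 => rw [map_add]; exact add_mem h1 h2
    | smul a y hy h1 =>
      rw [smul_eq_mul, Derivation.leibniz]
      exact add_mem (Submodule.smul_mem _ a h1)
        (Submodule.mem_sup_right (Submodule.smul_mem_smul (hx ▸ (hy : y ∈ Ideal.span (Set.range x))) Submodule.mem_top))
  have h0 : (1 : ResidueField A) ⊗ₜ[A] (w - KaehlerDifferential.D k A i) = 0 := by
    rw [TensorProduct.tmul_sub, hc, sub_self]
  rw [CotT.one_tmul_zero_iff hK, show RingHom.ker (algebraMap A (ResidueField A)) = maximalIdeal A from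
    IsLocalRing.ker_residue] at h0
  rw [← sub_add_cancel w (KaehlerDifferential.D k A i)]
  exact add_mem (Submodule.mem_sup_right h0) hd

omit [Algebra.IsSeparable k (ResidueField A)] in
/-- differentials of elements of higher order -/
theorem D_mem_pow_smul {n : ℕ} {w : A} (hw : w ∈ maximalIdeal A ^ (n + 1)) :
    KaehlerDifferential.D k A w ∈ maximalIdeal A ^ n • (⊤ : Submodule A Ω[A⁄k]) := by
  induction n generalizing w with
  | zero => rw [pow_zero, Ideal.one_eq_top, Submodule.top_smul]; trivial
  | succ n ih =>
    rw [pow_succ] at hw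
    induction hw using Submodule.mul_induction_on' with
    | mem_mul_mem a ha b hb =>
      rw [Derivation.leibniz]
      refine add_mem (Submodule.smul_mem_smul ha Submodule.mem_top) ?_
      rw [pow_succ', Submodule.mul_smul]
      exact Submodule.smul_mem_smul hb (ih ha)
    | add a _ b _ ha hb => rw [map_add]; exact add_mem ha hb

end Groth.Agent.NodeFib
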