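import Groth.Agent.NodeFib.SmoothChart
import Mathlib.RingTheory.DiscreteValuationRing.TFAE

/-!
The étale normal form of a family of nodal curves over a discrete valuation ring.
-/

set_option autoImplicit false
set_option linter.style.haveILetI false
set_option backward.isDefEq.respectTransparency false
set_option backward.isDefEq.respectTransparency.types false
set_option maxRecDepth 4000

universe u

open MvPolynomial

namespace Groth.Agent.NodeFib

/-- cancellation for étale maps -/
theorem etale_cancel {A B C : Type u} [CommRing A] [CommRing B] [CommRing C] (f : A →+* B) (g : B →+* C)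
    (hf : f.Etale) (hgf : (g.comp f).Etale) : g.Etale := by
  letI : Algebra A B := f.toAlgebra
  letI : Algebra B C := g.toAlgebra
  letI : Algebra A C := (g.comp f).toAlgebra
  haveI : IsScalarTower A B C := IsScalarTower.of_algebraMap_eq' rfl
  haveI : Algebra.Etale A B := hf
  haveI : Algebra.Etale A C := hgf
  exact Algebra.Etale.of_restrictScalars (R := A) (A := B) (B := C)

/-- an étale algebra over a discrete valuation ring is one near a closed point of the special fibre -/
theorem exists_dvr_piece {R C : Type u} [CommRing R] [IsDomain R] [IsDiscreteValuationRing R] (ϖ : R)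
    (hϖ : Irreducible ϖ) [CommRing C] [Algebra R C] [Algebra.Etale R C] (c : Ideal C) [c.IsPrime]
    (hc : c.comap (algebraMap R C) = IsLocalRing.maximalIdeal R) :
    ∃ g : C, g ∉ c ∧ ∃ (_ : IsDomain (Localization.Away g)) (_ : IsDiscreteValuationRing (Localization.Away g)),
      Irreducible (algebraMap R (Localization.Away g) ϖ) := by
  classical
  haveI : IsNoetherianRing C := Algebra.FiniteType.isNoetherianRing R C
  haveI : Algebra.QuasiFinite R C := inferInstance
  haveI : Finite (PrimeSpectrum R) := by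
    exact Finite.of_injective (fun p : PrimeSpectrum R => (decide (ϖ ∈ p.asIdeal) : Bool)) fun p q hpq => by
      have hnz : ∀ P : PrimeSpectrum R, ϖ ∉ P.asIdeal → ∀ x, x ∈ P.asIdeal ↔ x = 0 := fun P hP x =>
        ⟨fun hx => by
          by_contra h0
          obtain ⟨k, w, rfl⟩ := IsDiscreteValuationRing.eq_unit_mul_pow_irreducible h0 hϖ
          rcases P.isPrime.mem_or_mem hx with h | h
          · exact P.isPrime.ne_top (Ideal.eq_top_of_isUnit_mem _ h w.isUnit)
          · exact hP (P.isPrime.mem_of_pow_mem k h), fun h => h ▸ P.asIdeal.zero_mem⟩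
      have hmax : ∀ P : PrimeSpectrum R, ϖ ∈ P.asIdeal → P.asIdeal = IsLocalRing.maximalIdeal R := fun P hP =>
        le_antisymm (IsLocalRing.le_maximalIdeal P.isPrime.ne_top) (by
          rw [hϖ.maximalIdeal_eq, Ideal.span_singleton_le_iff_mem]; exact hP)
      refine PrimeSpectrum.ext ?_
      by_cases hp : ϖ ∈ p.asIdeal
      · have hq : ϖ ∈ q.asIdeal := by simpa [hp] using hpq
        rw [hmax p hp, hmax q hq]
      · have hq : ϖ ∉ q.asIdeal := by simpa [hp] using hpq
        exact Ideal.ext fun x => (hnz p hp x).trans (hnz q hq x).symm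
  haveI : Finite (PrimeSpectrum C) := by
    let f : PrimeSpectrum C → PrimeSpectrum R := PrimeSpectrum.comap (algebraMap R C)
    have hfib : ∀ p, (f ⁻¹' {p}).Finite := fun p => Algebra.QuasiFinite.finite_comap_preimage_singleton p
    exact Set.finite_univ_iff.1 ((Set.finite_univ.preimage' fun p _ => hfib p).subset fun x _ => trivial)
  haveI : Fintype (PrimeSpectrum C) := Fintype.ofFinite _
  have hpick : ∀ P : PrimeSpectrum C, ∃ g, g ∉ c ∧ (¬P.asIdeal ≤ c → g ∈ P.asIdeal) := fun P => by
    by_cases h : P.asIdeal ≤ c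
    · exact ⟨1, fun h1 => Ideal.IsPrime.ne_top (I := c) inferInstance ((Ideal.eq_top_iff_one _).2 h1), fun h' => absurd h h'⟩
    · obtain ⟨g, hg, hgc⟩ := SetLike.not_le_iff_exists.1 h
      exact ⟨g, hgc, fun _ => hg⟩
  choose gP hgP hgP' using hpick
  let g := ∏ P, gP P
  have hg : g ∉ c := fun h => by
    obtain ⟨P, -, hP⟩ := (Ideal.IsPrime.prod_mem_iff (p := c)).1 h
    exact hgP P hP
  let S := Localization.Away g
  have hd : Disjoint ((Submonoid.powers g : Submonoid C) : Set C) c := by
    rw [Set.disjoint_left]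
    rintro _ ⟨k, rfl⟩ hk
    exact hg (Ideal.IsPrime.mem_of_pow_mem inferInstance k hk)
  let m : Ideal S := c.map (algebraMap C S)
  haveI hm : m.IsPrime := IsLocalization.isPrime_of_isPrime_disjoint _ S c inferInstance hd
  have hle : ∀ P : Ideal S, P.IsPrime → P ≤ m := fun P hP => by
    haveI := hP
    let Q : PrimeSpectrum C := ⟨P.comap (algebraMap C S), inferInstance⟩
    have hQ : Q.asIdeal ≤ c := by
      by_contra h
      have h1 : g ∈ Q.asIdeal := Ideal.prod_mem (I := Q.asIdeal) (Finset.mem_univ Q) (hgP' Q h)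
      exact hP.ne_top (Ideal.eq_top_of_isUnit_mem _ h1 (IsLocalization.Away.algebraMap_isUnit g))
    rw [← IsLocalization.map_under (Submonoid.powers g) S P]
    exact Ideal.map_mono hQ
  haveI : IsLocalRing S := by
    refine IsLocalRing.of_unique_max_ideal ⟨m, ?_, fun M hM => hM.eq_of_le hm.ne_top (hle M hM.isPrime)⟩
    obtain ⟨M, hM, hmM⟩ := Ideal.exists_le_maximal m hm.ne_top
    rwa [le_antisymm (hle M hM.isPrime) hmM] at hM
  have hmax : IsLocalRing.maximalIdeal S = m :=
    le_antisymm (hle _ inferInstance) (IsLocalRing.le_maximalIdeal hm.ne_top)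
  haveI : Algebra.Etale R S := Algebra.Etale.comp R C S
  haveI : IsLocalHom (algebraMap R S) := ⟨fun r hr => by
    by_contra hn
    have h1 : algebraMap R C r ∈ c := by
      show r ∈ c.comap (algebraMap R C)
      rw [hc]
      exact hn
    have h2 : algebraMap R S r ∈ m := by
      rw [IsScalarTower.algebraMap_apply R C S]
      exact Ideal.mem_map_of_mem _ h1
    exact hm.ne_top (Ideal.eq_top_of_isUnit_mem _ h2 hr)⟩
  let π := algebraMap R S ϖ
  have hπm : IsLocalRing.maximalIdeal S = Ideal.span {π} := by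
    rw [← Algebra.FormallyUnramified.map_maximalIdeal (R := R) (S := S), hϖ.maximalIdeal_eq, Ideal.map_span,
      Set.image_singleton]
  have hreg : ∀ x : S, π * x = 0 → x = 0 := fun x hx => by
    have h1 : IsSMulRegular S π := IsSMulRegular.of_flat (fun a b hab => mul_left_cancel₀ hϖ.ne_zero hab)
    exact h1 (show π • x = π • (0 : S) by rw [smul_eq_mul, hx, smul_zero])
  have hpow : ∀ k, ∀ x : S, π ^ k * x = 0 → x = 0 := fun k => by
    induction k with
    | zero => intro x hx; simpa using hx
    | succ k ih => intro x hx; rw [pow_succ, mul_assoc] at hx; exact hreg x (ih _ hx)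
  haveI : IsNoetherianRing S := IsLocalization.isNoetherianRing (Submonoid.powers g) S inferInstance
  have hfac : ∀ x : S, x ≠ 0 → ∃ (k : ℕ) (w : Sˣ), π ^ k * w = x := fun x hx => by
    have h0 : ∃ k, x ∉ IsLocalRing.maximalIdeal S ^ k := by
      by_contra h
      simp only [not_exists, not_not] at h
      have h1 := Ideal.iInf_pow_eq_bot_of_isLocalRing (IsLocalRing.maximalIdeal S) (IsLocalRing.maximalIdeal.isMaximal S).ne_top
      exact hx ((Submodule.mem_bot S).1 (h1 ▸ (Submodule.mem_iInf _).2 h))
    have hk0 := Nat.find_spec h0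
    obtain ⟨k, hk⟩ : ∃ k, Nat.find h0 = k + 1 := ⟨Nat.find h0 - 1, (Nat.succ_pred_eq_of_ne_zero (fun h => by
      rw [h, pow_zero, Ideal.one_eq_top] at hk0; exact hk0 trivial)).symm⟩
    have hxk : x ∈ IsLocalRing.maximalIdeal S ^ k := not_not.1 (Nat.find_min h0 (by omega))
    rw [hπm, Ideal.span_singleton_pow, Ideal.mem_span_singleton] at hxk
    obtain ⟨w, rfl⟩ := hxk
    have hw : IsUnit w := by
      by_contra hw
      refine hk0 ?_
      rw [hk, hπm, Ideal.span_singleton_pow, Ideal.mem_span_singleton, pow_succ]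
      exact mul_dvd_mul_left _ (Ideal.mem_span_singleton.1 (hπm ▸ (IsLocalRing.mem_maximalIdeal w).2 hw))
    exact ⟨k, hw.unit, rfl⟩
  haveI : NoZeroDivisors S := ⟨fun {a b} hab => by
    by_contra h
    rw [not_or] at h
    obtain ⟨i, v, rfl⟩ := hfac a h.1
    exact h.2 (hpow i b (by
      have h2 := congrArg (fun y => (↑v⁻¹ : S) * y) hab
      simpa [mul_comm, mul_left_comm, mul_assoc] using h2))⟩
  haveI : IsDomain S := NoZeroDivisors.to_isDomain S
  have hπ0 : π ≠ 0 := fun h => one_ne_zero (hreg 1 (by rw [h, zero_mul]))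
  have hπi : Irreducible π :=
    ((Ideal.span_singleton_prime hπ0).1 (hπm ▸ (IsLocalRing.maximalIdeal.isMaximal S).isPrime)).irreducible
  refine ⟨g, hg, inferInstance, IsDiscreteValuationRing.ofHasUnitMulPowIrreducibleFactorization ⟨π, hπi, ?_⟩, hπi⟩
  intro x hx
  obtain ⟨k, w, hw⟩ := hfac x hx
  exact ⟨k, ⟨w, hw⟩⟩

variable {R : Type u} [CommRing R]

/-- rescaling a node model -/
theorem exists_rescale (t s : R) (w : Rˣ) (ht : t = w * s) (h : MvPolynomial (Fin 2) R) (hh : h = MvPolynomial.C s) :
    ∃ θ : (MvPolynomial (Fin 2) R ⧸ Ideal.span {X 0 * X 1 - h}) →ₐ[R] StrictSS.NodeAlg R t,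
      Function.Bijective θ := by
  subst hh
  have hrel : ∀ a, (Ideal.Quotient.mk (Ideal.span {(X 0 * X 1 - MvPolynomial.C a : MvPolynomial (Fin 2) R)}) (X 0)) *
      Ideal.Quotient.mk _ (X 1) = algebraMap R _ a := fun a => by
    rw [← map_mul]
    exact Ideal.Quotient.eq.2 (Ideal.subset_span rfl)
  let F : (a b : R) → (c : R) → c * b = a →
      ((MvPolynomial (Fin 2) R ⧸ Ideal.span {(X 0 * X 1 - MvPolynomial.C a : MvPolynomial (Fin 2) R)}) →ₐ[R]
        (MvPolynomial (Fin 2) R ⧸ Ideal.span {(X 0 * X 1 - MvPolynomial.C b : MvPolynomial (Fin 2) R)})) :=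
    fun a b c hc => Ideal.Quotient.liftₐ _
      (aeval ![algebraMap R _ c * Ideal.Quotient.mk _ (X 0), Ideal.Quotient.mk _ (X 1)]) fun p hp => by
        obtain ⟨q, rfl⟩ := Ideal.mem_span_singleton'.1 hp
        simp only [map_mul, map_sub, aeval_X, aeval_C, Matrix.cons_val_zero, Matrix.cons_val_one, mul_assoc, hrel]
        rw [← map_mul, hc, sub_self, mul_zero]
  have h1 : (↑w⁻¹ : R) * t = s := by rw [ht, ← mul_assoc, Units.inv_mul, one_mul]
  have h2 : (w : R) * s = t := ht.symm
  have key : ∀ a b c c' (hc : c * b = a) (hc' : c' * a = b), c * c' = 1 →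
      ∀ x, F b a c' hc' (F a b c hc x) = x := fun a b c c' hc hc' hcc x => by
    refine AlgHom.congr_fun (show (F b a c' hc').comp (F a b c hc) = AlgHom.id R _ from ?_) x
    refine Ideal.Quotient.algHom_ext _ (MvPolynomial.algHom_ext fun i => ?_)
    fin_cases i
    · show F b a c' hc' (aeval _ (X 0)) = _
      rw [aeval_X, Matrix.cons_val_zero, map_mul, AlgHom.commutes]
      show algebraMap R _ c * aeval _ (X 0) = _
      rw [aeval_X, Matrix.cons_val_zero, ← mul_assoc, ← map_mul, hcc, map_one, one_mul]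
      rfl
    · show F b a c' hc' (aeval _ (X 1)) = _
      rw [aeval_X, Matrix.cons_val_one, Matrix.cons_val_fin_one]
      show aeval _ (X 1) = _
      rw [aeval_X, Matrix.cons_val_one, Matrix.cons_val_fin_one]
      rfl
  refine ⟨F s t ↑w⁻¹ h1, Function.bijective_iff_has_inverse.2 ⟨F t s w h2, fun x => ?_, fun x => ?_⟩⟩
  · exact key s t _ _ h1 h2 (Units.inv_mul w) x
  · exact key t s _ _ h2 h1 (Units.mul_inv w) x

theorem node_rel {R : Type u} [CommRing R] (a : R) :
    (Ideal.Quotient.mk _ (X 0) : StrictSS.NodeAlg R a) * Ideal.Quotient.mk _ (X 1) =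
      algebraMap R (StrictSS.NodeAlg R a) a := by
  rw [← map_mul]
  exact Ideal.Quotient.eq.2 (Ideal.subset_span rfl)

/-- the torus `uv = 1` has the coordinate `u` -/
theorem isChart_torus (R : Type u) [CommRing R] :
    IsChart R (fun _ : Fin 1 => (Ideal.Quotient.mk _ (X 0) : StrictSS.NodeAlg R 1)) := by
  let Z := MvPolynomial (Fin 1) R
  let L := Localization.Away (X 0 : Z)
  let u : StrictSS.NodeAlg R 1 := Ideal.Quotient.mk _ (X 0)
  let v : StrictSS.NodeAlg R 1 := Ideal.Quotient.mk _ (X 1)
  have huv : u * v = 1 := (node_rel (1 : R)).trans (map_one _)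
  let f : Z →ₐ[R] StrictSS.NodeAlg R 1 := aeval fun _ => u
  have hf : IsUnit (f (X 0)) := by rw [aeval_X]; exact IsUnit.of_mul_eq_one _ huv
  let ρ : L →ₐ[R] StrictSS.NodeAlg R 1 := IsLocalization.Away.liftAlgHom (f := f) (X 0 : Z) hf
  have hρ : ∀ x, ρ (algebraMap Z L x) = f x := fun x =>
    IsLocalization.Away.lift_eq (g := f.toRingHom) (X 0 : Z) hf x
  let x : L := algebraMap Z L (X 0)
  obtain ⟨y, hy⟩ := (IsLocalization.Away.algebraMap_isUnit (S := L) (X 0 : Z)).exists_right_inv
  let σ : StrictSS.NodeAlg R 1 →ₐ[R] L := Ideal.Quotient.liftₐ _ (aeval ![x, y]) fun p hp => by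
    obtain ⟨q, rfl⟩ := Ideal.mem_span_singleton'.1 hp
    simp only [map_mul, map_sub, aeval_X, aeval_C, Matrix.cons_val_zero, Matrix.cons_val_one,
      Matrix.cons_val_fin_one, map_one, x]
    rw [hy, sub_self, mul_zero]
  have hρy : ρ y = v := by
    have h1 : u * ρ y = 1 := by
      have h := congrArg ρ hy
      rw [map_mul, hρ, aeval_X] at h
      exact h.trans (map_one ρ)
    calc ρ y = (u * v) * ρ y := by rw [huv, one_mul]
      _ = v * (u * ρ y) := by ring
      _ = v := by rw [h1, mul_one]
  have hρσ : ρ.comp σ = AlgHom.id R _ := by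
    refine Ideal.Quotient.algHom_ext _ (MvPolynomial.algHom_ext fun i => ?_)
    fin_cases i
    · show ρ (aeval _ (X 0)) = _
      rw [aeval_X, Matrix.cons_val_zero, hρ, aeval_X]
      rfl
    · show ρ (aeval _ (X 1)) = _
      rw [aeval_X, Matrix.cons_val_one, Matrix.cons_val_fin_one, hρy]
      rfl
  have hσρ : σ.comp ρ = AlgHom.id R _ := by
    refine IsLocalization.algHom_ext (Submonoid.powers (X 0 : Z)) (MvPolynomial.algHom_ext fun i => ?_)
    fin_cases i
    show σ (ρ (algebraMap Z L (X 0))) = algebraMap Z L (X 0)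
    rw [hρ, aeval_X]
    show aeval _ (X 0) = _
    rw [aeval_X, Matrix.cons_val_zero]
  have hbij : Function.Bijective ρ.toRingHom :=
    ⟨Function.LeftInverse.injective (g := σ) fun a => AlgHom.congr_fun hσρ a,
      Function.RightInverse.surjective (g := σ) fun a => AlgHom.congr_fun hρσ a⟩
  have h := ((isChart_poly R R 1).away (X 0)).comp ρ (RingHom.Etale.of_bijective hbij)
  convert h using 1
  funext i
  show u = ρ (algebraMap Z L (X i))
  rw [hρ, aeval_X]

open AlgebraicGeometry CategoryTheory in
/-- **the normal form over a discrete valuation ring**, affine version -/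
theorem exists_dvr_chart [IsDomain R] [IsDiscreteValuationRing R] (ϖ : R) (hϖ : Irreducible ϖ) {A : Type u}
    [CommRing A] [Algebra R A] [Algebra.FinitePresentation R A] [Module.Flat R A] (q : PrimeSpectrum A)
    (hg : Good (relMor R A) q) (hq : q.asIdeal.comap (algebraMap R A) = IsLocalRing.maximalIdeal R) :
    ∃ (R' : Type u) (_ : CommRing R') (_ : IsDomain R') (_ : IsDiscreteValuationRing R') (_ : Algebra R R')
      (_ : Algebra.Etale R R') (_ : Irreducible (algebraMap R R' ϖ)) (t : R') (E : Type u) (_ : CommRing E)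
      (_ : Algebra R E) (ψ : A →ₐ[R] E) (φ : StrictSS.NodeAlg R' t →ₐ[R] E),
      ψ.toRingHom.Etale ∧ φ.toRingHom.Etale ∧ ∃ p : PrimeSpectrum E, PrimeSpectrum.comap ψ.toRingHom p = q := by
  classical
  by_cases hn : Node (relMor R A) q
  · obtain ⟨C, _, _, _, t, E, _, _, ψ, φ, hψ, hφ, p, hp⟩ := exists_normal_chart q hg hn
    let j : C →ₐ[R] E := φ.comp (IsScalarTower.toAlgHom R C (StrictSS.NodeAlg C t))
    let c : Ideal C := p.asIdeal.comap j.toRingHom
    have hc : c.comap (algebraMap R C) = IsLocalRing.maximalIdeal R := by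
      rw [Ideal.comap_comap, AlgHom.toRingHom_eq_coe, AlgHom.comp_algebraMap, ← ψ.comp_algebraMap,
        ← Ideal.comap_comap, ← hq, ← hp]
      rfl
    obtain ⟨g, hgc, i1, i2, hirr⟩ := exists_dvr_piece ϖ hϖ c hc
    let C' := Localization.Away g
    let t' := algebraMap C C' t
    let E' := Localization.Away (j g)
    letI : Algebra C E := j.toRingHom.toAlgebra
    have hjg : IsUnit (algebraMap E E' (j g)) := IsLocalization.Away.algebraMap_isUnit _
    let j' : C' →ₐ[R] E' :=
      IsLocalization.Away.liftAlgHom (f := (IsScalarTower.toAlgHom R E E').comp j) g hjg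
    have hj' : ∀ a, j' (algebraMap C C' a) = algebraMap E E' (j a) := fun a =>
      IsLocalization.Away.lift_eq (g := ((IsScalarTower.toAlgHom R E E').comp j).toRingHom) g hjg a
    let N := StrictSS.NodeAlg C t
    let N' := StrictSS.NodeAlg C' t'
    letI : Algebra C' E' := j'.toRingHom.toAlgebra
    let U : Fin 2 → E' := fun i => algebraMap E E' (φ (Ideal.Quotient.mk _ (X i)))
    have hUrel : U 0 * U 1 = algebraMap C' E' t' := by
      show _ = j' (algebraMap C C' t)
      rw [hj', ← map_mul, ← map_mul, ← map_mul]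
      refine congrArg (fun a => algebraMap E E' (φ a)) ?_
      exact Ideal.Quotient.eq.2 (Ideal.subset_span rfl)
    haveI : IsScalarTower R C' E' := IsScalarTower.of_algebraMap_eq fun r => (j'.commutes r).symm
    let φ₀ : N' →ₐ[C'] E' := Ideal.Quotient.liftₐ _ (aeval U) fun x hx => by
      obtain ⟨a, rfl⟩ := Ideal.mem_span_singleton'.1 hx
      rw [map_mul, map_sub, map_mul, aeval_X, aeval_X, aeval_C, hUrel, sub_self, mul_zero]
    let φ' : N' →ₐ[R] E' := φ₀.restrictScalars R
    let μ : MvPolynomial (Fin 2) C →ₐ[C] MvPolynomial (Fin 2) C' := aeval X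
    have hμ : μ.toRingHom.Etale := isChart_poly C C' 2
    let J : Ideal (MvPolynomial (Fin 2) C) := Ideal.span {X 0 * X 1 - MvPolynomial.C t}
    let J' : Ideal (MvPolynomial (Fin 2) C') := Ideal.span {X 0 * X 1 - MvPolynomial.C t'}
    have hJ : J' = J.map μ.toRingHom := by
      rw [Ideal.map_span, Set.image_singleton]
      simp [μ, J', t', MvPolynomial.algebraMap_eq]
    have hnu := quot_etale μ.toRingHom hμ J J' hJ
    let ν : N →+* N' := Ideal.quotientMap J' μ.toRingHom (hJ ▸ Ideal.le_comap_map)
    have hcomp : φ'.toRingHom.comp ν = (algebraMap E E').comp φ.toRingHom := by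
      refine Ideal.Quotient.ringHom_ext (MvPolynomial.ringHom_ext (fun a => ?_) fun i => ?_)
      · show aeval U (μ (MvPolynomial.C a)) = algebraMap E E' (φ (Ideal.Quotient.mk _ (MvPolynomial.C a)))
        rw [show μ (MvPolynomial.C a) = MvPolynomial.C (algebraMap C C' a) by
          simp [μ, MvPolynomial.algebraMap_eq], aeval_C]
        exact hj' a
      · show aeval U (μ (X i)) = algebraMap E E' (φ (Ideal.Quotient.mk _ (X i)))
        rw [aeval_X, aeval_X]
    have hφ' : φ'.toRingHom.Etale := by
      refine etale_cancel ν φ'.toRingHom hnu ?_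
      rw [hcomp]
      exact RingHom.Etale.stableUnderComposition _ _ hφ
        (RingHom.etale_algebraMap.2 (inferInstanceAs (Algebra.Etale E (Localization.Away (j g)))))
    obtain ⟨p', hp'⟩ : p ∈ Set.range (PrimeSpectrum.comap (algebraMap E E')) := by
      rw [PrimeSpectrum.localization_away_comap_range E' (j g)]
      exact hgc
    haveI : Algebra.Etale R C' := Algebra.Etale.comp R C C'
    refine ⟨C', inferInstance, i1, i2, inferInstance, inferInstance, hirr, t', E', inferInstance, inferInstance,
      (IsScalarTower.toAlgHom R E E').comp ψ, φ', RingHom.Etale.stableUnderComposition _ _ hψ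
        (RingHom.etale_algebraMap.2 (inferInstanceAs (Algebra.Etale E (Localization.Away (j g))))), hφ', p', ?_⟩
    rw [← hp, ← hp']
    rfl
  · obtain ⟨E, _, _, ψ, z, hψ, hz, ⟨w, hw⟩, p, hp⟩ := exists_line_chart q hg hn
    let N := StrictSS.NodeAlg R (1 : R)
    let φ : N →ₐ[R] E := Ideal.Quotient.liftₐ _ (aeval ![(w : E), ↑w⁻¹]) fun x hx => by
      obtain ⟨a, rfl⟩ := Ideal.mem_span_singleton'.1 hx
      simp
    have hN := isChart_torus R
    have hφ : φ.toRingHom.Etale := by
      let fN : MvPolynomial (Fin 1) R →ₐ[R] N := aeval fun _ => Ideal.Quotient.mk _ (X 0)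
      refine etale_cancel fN.toRingHom φ.toRingHom hN ?_
      refine Eq.subst (motive := fun f => RingHom.Etale f) ?_ hz
      refine congrArg AlgHom.toRingHom (show aeval z = φ.comp fN from MvPolynomial.algHom_ext fun i => ?_)
      rw [Subsingleton.elim i 0, AlgHom.comp_apply, aeval_X, aeval_X]
      show z 0 = aeval _ (X 0)
      rw [aeval_X, Matrix.cons_val_zero, hw]
    exact ⟨R, inferInstance, inferInstance, inferInstance, inferInstance, inferInstance, hϖ, 1, E, inferInstance,
      inferInstance, ψ, φ, hψ, hφ, p, hp⟩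

end Groth.Agent.NodeFib
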