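import Groth.Agent.NodeFib.Split
import Groth.Agent.Hensel.FiniteEtale

/-!
Splitting a non degenerate binary quadratic form of chart coordinates, étale locally.
-/

set_option autoImplicit false
set_option linter.style.haveILetI false
set_option backward.isDefEq.respectTransparency false
set_option backward.isDefEq.respectTransparency.types false

universe u

open Polynomial

namespace Groth.Agent.NodeFib

variable {C P : Type u} [CommRing C] [CommRing P] [Algebra C P] {u : Fin 2 → P}

/-- factorisation when the leading coefficient is invertible -/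
theorem exists_factor_of_not_mem (hu : IsChart C u) (a b c : P) (p : Ideal P) [p.IsPrime] (hup : ∀ i, u i ∈ p)
    (ha : a ∉ p) (hd : b ^ 2 - 4 * a * c ∉ p) :
    ∃ (B : Type u) (_ : CommRing B) (_ : Algebra C B) (φ : P →ₐ[C] B) (U : Fin 2 → B) (_ : IsChart C U),
      φ.toRingHom.Etale ∧ φ (a * u 0 ^ 2 + b * (u 0 * u 1) + c * u 1 ^ 2) = U 0 * U 1 ∧
        ∃ p' : Ideal B, p'.IsPrime ∧ p'.comap φ.toRingHom = p := by
  classical
  let d := b ^ 2 - 4 * a * c
  let P₂ := Localization.Away (a * d)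
  let l : P → P₂ := algebraMap P P₂
  have hau : IsUnit (l a) ∧ IsUnit (l d) := by
    have h1 := IsLocalization.Away.algebraMap_isUnit (S := P₂) (a * d)
    rw [map_mul, IsUnit.mul_iff] at h1
    exact h1
  obtain ⟨ai, hai⟩ := hau.1.exists_left_inv
  obtain ⟨di, hdi⟩ := hau.2.exists_left_inv
  let β := l b * ai
  let γ := l c * ai
  let f : P₂[X] := X ^ 2 + Polynomial.C β * X + Polynomial.C γ
  have hf : f.Monic := by simp only [f]; monicity!
  have hdisc : (β ^ 2 - 4 * γ) * (di * l a ^ 2) = 1 := by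
    have h1 : l d = l b ^ 2 - 4 * l a * l c := by
      simp only [l, d, map_sub, map_mul, map_pow, map_ofNat]
    simp only [β, γ]
    linear_combination (di * (l b ^ 2) * (ai * l a + 1) - 4 * di * l a * l c) * hai + hdi - di * h1
  have hder : derivative f = Polynomial.C 2 * X + Polynomial.C β := by
    simp [f, one_add_one_eq_two, map_ofNat]
  have hcop : IsCoprime f (derivative f) := by
    refine ⟨-Polynomial.C (4 * (di * l a ^ 2)),
      Polynomial.C (di * l a ^ 2) * (Polynomial.C 2 * X + Polynomial.C β), ?_⟩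
    rw [hder]
    have h2 : (Polynomial.C ((β ^ 2 - 4 * γ) * (di * l a ^ 2)) : P₂[X]) = 1 := by rw [hdisc, map_one]
    simp only [f, map_mul, map_sub, map_neg, map_pow, map_ofNat] at h2 ⊢
    linear_combination h2
  let B₀ := AdjoinRoot f
  haveI : Algebra.Etale P₂ B₀ := Hensel.etale_adjoinRoot hf hcop
  haveI : Module.Finite P₂ B₀ := hf.finite_adjoinRoot
  haveI : Module.Free P₂ B₀ := hf.free_adjoinRoot
  let φ₀ : P →ₐ[C] B₀ := (IsScalarTower.toAlgHom C P₂ B₀).comp (IsScalarTower.toAlgHom C P P₂)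
  have hφ₀ : φ₀.toRingHom.Etale :=
    RingHom.Etale.stableUnderComposition _ _
      (RingHom.etale_algebraMap.2 (inferInstanceAs (Algebra.Etale P (Localization.Away (a * d)))))
      (RingHom.etale_algebraMap.2 (inferInstanceAs (Algebra.Etale P₂ B₀)))
  -- a prime above `p`
  have hmem : a * d ∉ p := fun h => (Ideal.IsPrime.mem_or_mem inferInstance h).elim ha hd
  have hdis : Disjoint ((Submonoid.powers (a * d) : Submonoid P) : Set P) p := by
    rw [Set.disjoint_left]
    rintro _ ⟨k, rfl⟩ hk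
    exact hmem (Ideal.IsPrime.mem_of_pow_mem inferInstance k hk)
  haveI : (p.map (algebraMap P P₂)).IsPrime :=
    IsLocalization.isPrime_of_isPrime_disjoint _ P₂ p inferInstance hdis
  have hinj : Function.Injective (algebraMap P₂ B₀) := by
    haveI : Nontrivial P₂ := nontrivial_of_ne (0 : P₂) 1 fun h =>
      Ideal.IsPrime.ne_top (I := p.map (algebraMap P P₂)) inferInstance ((Ideal.eq_top_iff_one _).2 (h ▸ zero_mem _))
    refine (injective_iff_map_eq_zero _).2 fun r hr => ?_
    by_contra hne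
    have hdeg : f.natDegree = 2 := by simp only [f]; compute_degree!
    exact AdjoinRoot.mk_ne_zero_of_natDegree_lt hf (Polynomial.C_ne_zero.2 hne)
      (by rw [Polynomial.natDegree_C, hdeg]; omega) hr
  haveI : Algebra.IsIntegral P₂ B₀ := Algebra.IsIntegral.of_finite P₂ B₀
  obtain ⟨Q, -, hQ, hQp⟩ := Ideal.exists_ideal_over_prime_of_isIntegral (S := B₀)
    (p.map (algebraMap P P₂)) ⊥ (by
      rw [← RingHom.ker_eq_comap_bot, (RingHom.injective_iff_ker_eq_bot _).1 hinj]; exact bot_le)
  have hQc : Q.comap φ₀.toRingHom = p := by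
    rw [show φ₀.toRingHom = (algebraMap P₂ B₀).comp (algebraMap P P₂) from rfl, ← Ideal.comap_comap, hQp]
    exact IsLocalization.under_map_of_isPrime_disjoint (Submonoid.powers (a * d)) P₂ inferInstance hdis
  -- the two factors
  let lam : B₀ := AdjoinRoot.root f
  let lam' : B₀ := -(algebraMap P₂ B₀ β) - lam
  have hroot : lam ^ 2 + algebraMap P₂ B₀ β * lam + algebraMap P₂ B₀ γ = 0 := by
    have h1 : Polynomial.eval₂ (algebraMap P₂ B₀) lam f = 0 := AdjoinRoot.eval₂_root f
    simp only [f, Polynomial.eval₂_add, Polynomial.eval₂_mul, Polynomial.eval₂_pow, Polynomial.eval₂_X,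
      Polynomial.eval₂_C] at h1
    exact h1
  let A := φ₀ a
  let x := φ₀ (u 0)
  let y := φ₀ (u 1)
  let U : Fin 2 → B₀ := ![A * (x - lam * y), x - lam' * y]
  have hUV : φ₀ (a * u 0 ^ 2 + b * (u 0 * u 1) + c * u 1 ^ 2) = U 0 * U 1 := by
    have hb : φ₀ b = A * algebraMap P₂ B₀ β := by
      show algebraMap P₂ B₀ (l b) = algebraMap P₂ B₀ (l a) * algebraMap P₂ B₀ β
      rw [← map_mul]; congr 1
      simp only [β]; linear_combination (-l b) * hai
    have hc : φ₀ c = A * algebraMap P₂ B₀ γ := by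
      show algebraMap P₂ B₀ (l c) = algebraMap P₂ B₀ (l a) * algebraMap P₂ B₀ γ
      rw [← map_mul]; congr 1
      simp only [γ]; linear_combination (-l c) * hai
    simp only [map_add, map_mul, map_pow, hb, hc, U, Matrix.cons_val_zero, Matrix.cons_val_one, lam', A, x, y]
    linear_combination (φ₀ a * φ₀ (u 1) ^ 2) * hroot
  have hB : IsChart C (φ₀ ∘ u) := hu.comp φ₀ hφ₀
  let M : Matrix (Fin 2) (Fin 2) B₀ := Matrix.of fun i j => hB.pd i (U j)
  -- the Jacobian at the prime
  have hM : M.det ∉ Q := by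
    intro hmemQ
    let r := Ideal.Quotient.mk Q
    have hr : ∀ i, r (φ₀ (u i)) = 0 := fun i => Ideal.Quotient.eq_zero_iff_mem.2 (by
      show u i ∈ Q.comap φ₀.toRingHom
      rw [hQc]; exact hup i)
    have hpd : ∀ i (s : B₀) (j : Fin 2), r (hB.pd i (s * φ₀ (u j))) = r s * (if i = j then 1 else 0) := by
      intro i s j
      rw [Derivation.leibniz, smul_eq_mul, smul_eq_mul, map_add, map_mul, map_mul,
        show φ₀ (u j) = (φ₀ ∘ u) j from rfl, hB.pd_z, show r ((φ₀ ∘ u) j) = 0 from hr j, zero_mul, add_zero]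
      split_ifs <;> simp
    have e0 : U 0 = A * φ₀ (u 0) - (A * lam) * φ₀ (u 1) := by
      simp only [U, Matrix.cons_val_zero, x, y]; ring
    have e1 : U 1 = 1 * φ₀ (u 0) - lam' * φ₀ (u 1) := by
      simp only [U, Matrix.cons_val_one, Matrix.cons_val_fin_one, x, y]; ring
    have hdet : r M.det = r (A * (2 * lam + algebraMap P₂ B₀ β)) := by
      rw [Matrix.det_fin_two]
      simp only [M, Matrix.of_apply, map_sub, map_mul, e0, e1, hpd]
      simp [lam', map_ofNat]
      ring
    have h0 : r (A * (2 * lam + algebraMap P₂ B₀ β)) = 0 := hdet.symm.trans (Ideal.Quotient.eq_zero_iff_mem.2 hmemQ)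
    haveI := hQ
    rcases hQ.mem_or_mem (Ideal.Quotient.eq_zero_iff_mem.1 h0) with h1 | h1
    · exact ha (hQc ▸ h1)
    · refine hQ.ne_top ((Ideal.eq_top_iff_one _).2 ?_)
      have h2 := Q.mul_mem_right (algebraMap P₂ B₀ (di * l a ^ 2)) (Q.mul_mem_left (2 * lam + algebraMap P₂ B₀ β) h1)
      have e : (2 * lam + algebraMap P₂ B₀ β) * (2 * lam + algebraMap P₂ B₀ β) * algebraMap P₂ B₀ (di * l a ^ 2) = 1 := by
        have h3 := congrArg (algebraMap P₂ B₀) hdisc
        simp only [map_mul, map_sub, map_pow, map_one, map_ofNat] at h3 ⊢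
        linear_combination h3 + 4 * (algebraMap P₂ B₀ di * algebraMap P₂ B₀ (l a) ^ 2) * hroot
      rwa [e] at h2
  let B := Localization.Away M.det
  let ψ : B₀ →ₐ[C] B := IsScalarTower.toAlgHom C B₀ B
  have hψ : ψ.toRingHom.Etale := RingHom.etale_algebraMap.2 (inferInstanceAs (Algebra.Etale B₀ (Localization.Away M.det)))
  have hB' : IsChart C (ψ ∘ (φ₀ ∘ u)) := hB.comp ψ hψ
  have hpdB : ∀ i t, hB'.pd i (ψ t) = ψ (hB.pd i t) := fun i t =>
    pd_map hB hB' ψ i (fun j => hB'.pd_z i j) t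
  have hU : IsChart C (ψ ∘ U) := hB'.jac _ (by
    rw [show (Matrix.of fun i j => hB'.pd i ((ψ ∘ U) j)) = ψ.toRingHom.mapMatrix M from
      Matrix.ext fun i j => hpdB i (U j), ← RingHom.map_det]
    exact IsLocalization.Away.algebraMap_isUnit M.det)
  refine ⟨B, inferInstance, inferInstance, ψ.comp φ₀, ψ ∘ U, hU,
    RingHom.Etale.stableUnderComposition _ _ hφ₀ hψ, ?_, ?_⟩
  · rw [AlgHom.comp_apply, hUV, map_mul]; rfl
  · haveI := hQ
    have hd' : Disjoint ((Submonoid.powers M.det : Submonoid B₀) : Set B₀) Q := by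
      rw [Set.disjoint_left]
      rintro _ ⟨k, rfl⟩ hk
      exact hM (Ideal.IsPrime.mem_of_pow_mem inferInstance k hk)
    refine ⟨Q.map (algebraMap B₀ B), IsLocalization.isPrime_of_isPrime_disjoint _ B Q inferInstance hd', ?_⟩
    rw [show (ψ.comp φ₀).toRingHom = (algebraMap B₀ B).comp φ₀.toRingHom from rfl, ← Ideal.comap_comap,
      show (Q.map (algebraMap B₀ B)).comap (algebraMap B₀ B) = Q from
        IsLocalization.under_map_of_isPrime_disjoint (Submonoid.powers M.det) B inferInstance hd', hQc]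

/-- **factorisation of a non degenerate form** -/
theorem exists_factor (hu : IsChart C u) (a b c : P) (p : Ideal P) [p.IsPrime] (hup : ∀ i, u i ∈ p)
    (hd : b ^ 2 - 4 * a * c ∉ p) :
    ∃ (B : Type u) (_ : CommRing B) (_ : Algebra C B) (φ : P →ₐ[C] B) (U : Fin 2 → B) (_ : IsChart C U),
      φ.toRingHom.Etale ∧ φ (a * u 0 ^ 2 + b * (u 0 * u 1) + c * u 1 ^ 2) = U 0 * U 1 ∧
        ∃ p' : Ideal B, p'.IsPrime ∧ p'.comap φ.toRingHom = p := by
  classical
  by_cases ha : a ∈ p
  swap
  · exact exists_factor_of_not_mem hu a b c p hup ha hd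
  by_cases hc : c ∈ p
  · have hb : b ∉ p := fun h => hd (sub_mem (Ideal.pow_mem_of_mem p h 2 two_pos) (Ideal.mul_mem_left _ _ hc))
    have hu' : IsChart C ![u 0, u 1 - u 0] := hu.jac _ (by
      rw [Matrix.det_fin_two]; simp [hu.pd_z])
    obtain ⟨B, i1, i2, φ, U, hU, h1, h2, h3⟩ := exists_factor_of_not_mem hu' (a + b + c) (b + 2 * c) c p
      (fun i => by fin_cases i; exacts [hup 0, sub_mem (hup 1) (hup 0)])
      (fun h => hb (by
        have := sub_mem (sub_mem h ha) hc
        rwa [add_sub_right_comm, show a + b - a + c - c = b by ring] at this))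
      (by rwa [show (b + 2 * c) ^ 2 - 4 * (a + b + c) * c = b ^ 2 - 4 * a * c by ring])
    refine ⟨B, i1, i2, φ, U, hU, h1, ?_, h3⟩
    rw [← h2]
    congr 1
    simp only [Matrix.cons_val_zero, Matrix.cons_val_one, Matrix.cons_val_fin_one]
    ring
  · have hu' : IsChart C ![u 1, u 0] := hu.jac _ (by
      rw [Matrix.det_fin_two]; simp [hu.pd_z])
    obtain ⟨B, i1, i2, φ, U, hU, h1, h2, h3⟩ := exists_factor_of_not_mem hu' c b a p
      (fun i => by fin_cases i; exacts [hup 1, hup 0]) hc
      (by rwa [show b ^ 2 - 4 * c * a = b ^ 2 - 4 * a * c by ring])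
    refine ⟨B, i1, i2, φ, U, hU, h1, ?_, h3⟩
    rw [← h2]
    congr 1
    simp only [Matrix.cons_val_zero, Matrix.cons_val_one, Matrix.cons_val_fin_one]
    ring

end Groth.Agent.NodeFib
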