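import Groth.Agent.NodeFib.Point
import Groth.Agent.SpRelDim.Scheme
import Groth.Agent.TopDegRep.Basic
import Groth.Agent.S1589
import Groth.Agent.GeomProp.SmoothPoint

/-!
Nodal families are the flat, locally finitely presented morphisms all of whose points are good.
-/

set_option autoImplicit false
set_option linter.style.haveILetI false
set_option backward.isDefEq.respectTransparency false
set_option backward.isDefEq.respectTransparency.types false

universe u

open CategoryTheory CategoryTheory.Limits AlgebraicGeometry

namespace Groth.Agent.NodeFib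

/-- fibre dimension one, smooth or node in the fibre -/
def Good {X S : Scheme.{u}} (f : X ⟶ S) (x : X) : Prop :=
  FlatMor.fibreDimAt f x = 1 ∧ SN (K := S.residueField (f x)) (f.fiberToSpecResidueField (f x)) (f.asFiber x)

variable {X S : Scheme.{u}}

theorem good_iff_fiber (f : X ⟶ S) [LocallyOfFinitePresentation f] (s : S) (p : f.fiber s) :
    Good f (f.fiberι s p) ↔
      FlatMor.localDim (f.fiber s) p = 1 ∧ SN (K := S.residueField s) (f.fiberToSpecResidueField s) p := by
  obtain ⟨x, hx⟩ : ∃ x, f.fiberι s p = x := ⟨_, rfl⟩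
  have hs : f x = s := by
    rw [← hx]
    have : f.fiberι s p ∈ Set.range (f.fiberι s) := ⟨p, rfl⟩
    rwa [f.range_fiberι] at this
  rw [hx]
  subst hs
  obtain rfl : p = f.asFiber x := (f.fiberι _).isEmbedding.injective (hx.trans (f.fiberι_asFiber x).symm)
  exact Iff.rfl

theorem good_baseChange {X' S' : Scheme.{u}} (f : X ⟶ S) [LocallyOfFinitePresentation f] (g : S' ⟶ S)
    (g' : X' ⟶ X) (f' : X' ⟶ S') (sq : IsPullback g' f' f g) (x' : X') : Good f' x' ↔ Good f (g' x') := by
  have H := ConsEngine.isPullback_fiberBC sq (f' x')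
  have e : g' x' = f.fiberι (g (f' x')) (ConsEngine.fiberBC sq (f' x') (f'.asFiber x')) := by
    have h0 := congr($(ConsEngine.fiberBC_fiberι sq (f' x')) (f'.asFiber x'))
    exact (h0.trans (congrArg g' (f'.fiberι_asFiber x'))).symm
  have h1 := LocalDimBC.fibreDimAt_of_isPullback f g g' f' sq x'
  have h2 := sn_of_isPullback (K := S.residueField (g (f' x'))) (L := S'.residueField (f' x'))
    (f.fiberToSpecResidueField (g (f' x'))) _ _ _ H (f'.asFiber x')
  constructor
  · rintro ⟨hd, hn⟩
    rw [h1] at hd
    rw [e, good_iff_fiber]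
    refine ⟨?_, h2.1 hn⟩
    rw [← hd, e]
    exact (SpRelDim.fibreDimAt_eq_localDim_of_isPullback (K := S.residueField (g (f' x'))) f
      (IsPullback.of_hasPullback f (S.fromSpecResidueField (g (f' x')))) _).symm
  · intro hg
    refine ⟨h1.trans hg.1, h2.2 ?_⟩
    rw [e, good_iff_fiber] at hg
    exact hg.2

theorem good_etale_comp {W : Scheme.{u}} (e : W ⟶ X) [Etale e] (f : X ⟶ S) [LocallyOfFinitePresentation f] (w : W) :
    Good (e ≫ f) w ↔ Good f (e w) := by
  let s := (e ≫ f) w
  have sq := FibCrit.isPullback_fiberMap e f s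
  haveI : Etale (MoreMor.fiberMap e f s) := MorphismProperty.of_isPullback sq ‹_›
  have hq : MoreMor.fiberMap e f s ≫ f.fiberToSpecResidueField s = (e ≫ f).fiberToSpecResidueField s :=
    pullback.lift_snd _ _ _
  have hp : MoreMor.fiberMap e f s ((e ≫ f).asFiber w) = f.asFiber (e w) := by
    refine (f.fiberι s).isEmbedding.injective ?_
    refine Eq.trans ?_ (f.fiberι_asFiber (e w)).symm
    rw [← Scheme.Hom.comp_apply, ← sq.w, Scheme.Hom.comp_apply, (e ≫ f).fiberι_asFiber]
  have h2 := sn_etale (K := S.residueField s) (f.fiberToSpecResidueField s) (MoreMor.fiberMap e f s)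
    ((e ≫ f).asFiber w)
  rw [hq, hp] at h2
  exact and_congr (by rw [SpRelDim.fibreDimAt_etale_comp]) h2

theorem good_comp_etale {Z : Scheme.{u}} (f : X ⟶ S) [LocallyOfFinitePresentation f] (g : S ⟶ Z) [Etale g] (x : X) :
    Good (f ≫ g) x ↔ Good f x := by
  let Γ : X ⟶ pullback (f ≫ g) g := pullback.lift (𝟙 X) f (Category.id_comp _)
  have : MorphismProperty.HasOfPostcompProperty @IsOpenImmersion @Etale :=
    MorphismProperty.hasOfPostcompProperty_iff_le_diagonal.2 fun _ _ h (hh : Etale h) =>
      (inferInstance : IsOpenImmersion (pullback.diagonal h))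
  have : IsOpenImmersion Γ := MorphismProperty.of_postcomp (W := @IsOpenImmersion) (W' := @Etale) Γ
    (pullback.fst (f ≫ g) g) (MorphismProperty.pullback_fst _ _ ‹_›) (by rw [pullback.lift_fst]; infer_instance)
  have h1 := good_baseChange (f ≫ g) g (pullback.fst (f ≫ g) g) (pullback.snd (f ≫ g) g)
    (IsPullback.of_hasPullback _ _) (Γ x)
  have h2 := good_etale_comp Γ (pullback.snd (f ≫ g) g) x
  rw [pullback.lift_snd] at h2
  rw [← Scheme.Hom.comp_apply, pullback.lift_fst] at h1
  exact h1.symm.trans h2.symm

theorem good_openImmersion_comp (U : X.Opens) (f : X ⟶ S) [LocallyOfFinitePresentation f] (x : U) :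
    Good (U.ι ≫ f) x ↔ Good f (x : X) :=
  good_etale_comp U.ι f x

/-- equidimensional at worst nodal curves over a field, pointwise -/
theorem curve_iff {K : Type u} [Field K] {P : Scheme.{u}} (q : P ⟶ Spec (CommRingCat.of K)) [LocallyOfFinitePresentation q] :
    ((∀ Z ∈ irreducibleComponents (P : Type u), topologicalKrullDim Z = 1) ∧ @Curv2.AtWorstNodal K _ P ⟨q⟩) ↔
      ∀ p : P, FlatMor.localDim P p = 1 ∧ SN q p := by
  letI : P.Over (Spec (CommRingCat.of K)) := ⟨q⟩
  haveI : LocallyOfFiniteType (P ↘ Spec (CommRingCat.of K)) := inferInstanceAs (LocallyOfFiniteType q)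
  haveI : IsLocallyNoetherian P := LocallyOfFiniteType.isLocallyNoetherian q
  haveI : JacobsonSpace P := LocallyOfFiniteType.jacobsonSpace q
  constructor
  · rintro ⟨hequi, hnod⟩ p
    have htop := TopDegRep.topologicalKrullDim_le_of_components P 1 hequi
    have hle : FlatMor.localDim P p ≤ 1 :=
      (iInf_le (fun U : {U : TopologicalSpace.Opens P // p ∈ U} => topologicalKrullDim (U.1 : Set P)) ⟨⊤, trivial⟩).trans
        ((topologicalKrullDim_subspace_le P _).trans htop)
    obtain ⟨C, hC, hpC⟩ := exists_mem_irreducibleComponents_subset_of_isIrreducible _ (isIrreducible_singleton (x := p))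
    obtain ⟨z, hz⟩ := QuasiSober.sober hC.1 (isClosed_of_mem_irreducibleComponents C hC)
    have hzp : z ⤳ p := hz.specializes (hpC rfl)
    have hmax : Unibranch.IsMaxPt z := by
      intro w hw
      have hsub : C ⊆ closure {w} := by
        rw [← hz.def]
        exact closure_minimal (Set.singleton_subset_iff.mpr hw.mem_closure) isClosed_closure
      have hwC : w ∈ C := hC.2 isIrreducible_singleton.closure hsub (subset_closure rfl)
      exact (Specializes.antisymm hw (hz.specializes hwC)).eq
    have h1 : (1 : WithBot ℕ∞) ≤ FlatMor.localDim P z := by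
      rw [← LocalDimBC.topologicalKrullDim_closure_eq q z hmax, hz.def, hequi C hC]
    have hmono : FlatMor.localDim P z ≤ FlatMor.localDim P p :=
      le_iInf fun U => iInf_le_of_le ⟨U.1, hzp.mem_open U.1.2 U.2⟩ le_rfl
    refine ⟨le_antisymm hle (h1.trans hmono), ?_⟩
    by_cases hp : IsClosed ({p} : Set P)
    · exact hnod p hp
    left
    rw [smooth_iff_mem]
    haveI : GeometricallyReduced (P ↘ Spec (CommRingCat.of K)) := (S1589.result K P hequi hnod).2
    haveI : ∀ x : P, _root_.IsReduced (P.presheaf.stalk x) := NodalRed.isReduced_stalk K P hnod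
    haveI : AlgebraicGeometry.IsReduced P := isReduced_of_isReduced_stalk P
    obtain ⟨U, hU, hUs⟩ := (GeomProp.geometricallyReduced_iff_dense_smooth K P).1 ‹_›
    have hpg : p ∈ genericPoints P := by
      by_contra hng
      have hne : z ≠ p := fun e => hng (by
        rw [← e]
        show closure ({z} : Set P) ∈ irreducibleComponents P
        rw [hz.def]
        exact hC)
      obtain ⟨c, hc, hcl⟩ := nonempty_inter_closedPoints (Z := closure ({p} : Set P))
        ⟨p, subset_closure rfl⟩ isClosed_closure.isLocallyClosed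
      have hne2 : p ≠ c := fun e => hp (e ▸ hcl)
      let s1 : TopologicalSpace.IrreducibleCloseds P := ⟨closure {z}, isIrreducible_singleton.closure, isClosed_closure⟩
      let s2 : TopologicalSpace.IrreducibleCloseds P := ⟨closure {p}, isIrreducible_singleton.closure, isClosed_closure⟩
      let s3 : TopologicalSpace.IrreducibleCloseds P := ⟨closure {c}, isIrreducible_singleton.closure, isClosed_closure⟩
      have h32 : s3 < s2 := lt_of_le_of_ne
        (show closure ({c} : Set P) ⊆ closure {p} from
          closure_minimal (Set.singleton_subset_iff.2 hc) isClosed_closure)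
        (fun e => hne2 (Specializes.antisymm
          (specializes_iff_mem_closure.2 hc)
          (specializes_iff_mem_closure.2 ((SetLike.ext_iff.1 e p).2 (subset_closure rfl)))).eq)
      have h21 : s2 < s1 := lt_of_le_of_ne
        (show closure ({p} : Set P) ⊆ closure {z} from
          closure_minimal (Set.singleton_subset_iff.2 hzp.mem_closure) isClosed_closure)
        (fun e => hne (Specializes.antisymm hzp
          (specializes_iff_mem_closure.2 ((SetLike.ext_iff.1 e z).2 (subset_closure rfl)))).eq)
      let ser : LTSeries (TopologicalSpace.IrreducibleCloseds P) :=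
        { length := 2
          toFun := ![s3, s2, s1]
          step := fun i => by fin_cases i; exacts [h32, h21] }
      have h2 : ((2 : ℕ) : WithBot ℕ∞) ≤ topologicalKrullDim P :=
        le_iSup (fun r : LTSeries (TopologicalSpace.IrreducibleCloseds P) => (r.length : WithBot ℕ∞)) ser
      exact absurd (h2.trans htop) (by norm_cast)
    haveI : Smooth (U.ι ≫ q) := hUs
    exact SmDesc.mem_smoothLocus_of_smooth_ι q (GeomProp.genericPoint_mem_of_dense P hpg U hU)
  · intro h
    refine ⟨fun C hC => ?_, fun p _ => (h p).2⟩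
    obtain ⟨z, hz⟩ := QuasiSober.sober hC.1 (isClosed_of_mem_irreducibleComponents C hC)
    have hmax : Unibranch.IsMaxPt z := by
      intro w hw
      have hsub : C ⊆ closure {w} := by
        rw [← hz.def]
        exact closure_minimal (Set.singleton_subset_iff.mpr hw.mem_closure) isClosed_closure
      have hwC : w ∈ C := hC.2 isIrreducible_singleton.closure hsub (subset_closure rfl)
      exact (Specializes.antisymm hw (hz.specializes hwC)).eq
    rw [← hz.def, LocalDimBC.topologicalKrullDim_closure_eq q z hmax, (h z).1]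

/-- **nodal families, pointwise** -/
theorem isNodalFamily_iff (f : X ⟶ S) :
    Curv2.IsNodalFamily f ↔ Flat f ∧ LocallyOfFinitePresentation f ∧ ∀ x, Good f x := by
  refine ⟨fun ⟨hf, hp, h⟩ => ⟨hf, hp, fun x => ?_⟩, fun ⟨hf, hp, h⟩ => ⟨hf, hp, fun s => ?_⟩⟩
  · exact (curve_iff (K := S.residueField (f x)) (f.fiberToSpecResidueField (f x))).1 (h (f x)) (f.asFiber x)
  · exact (curve_iff (K := S.residueField s) (f.fiberToSpecResidueField s)).2
      fun p => (good_iff_fiber f s p).1 (h _)

end Groth.Agent.NodeFib
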