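import Groth.Agent.NodeFib.Open
import Groth.Agent.SyntLib.CIMor
import Groth.Agent.AlgSpLib.FibreNoeth
import Groth.Agent.UnivInjMor.MonoUnram

/-!
Nodal families as the syntomic morphisms with unramified singular scheme.
-/

set_option autoImplicit false
set_option linter.style.haveILetI false
set_option backward.isDefEq.respectTransparency false
set_option backward.isDefEq.respectTransparency.types false

universe u

open CategoryTheory CategoryTheory.Limits AlgebraicGeometry TensorProduct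

namespace Groth.Agent.NodeFib

variable {X S : Scheme.{u}}

/-- unramifiedness of a closed subscheme over the base, chart by chart -/
theorem formallyUnramified_subscheme_iff (f : X ⟶ S) (I : X.IdealSheafData) :
    FormallyUnramified (I.subschemeι ≫ f) ↔
      ∀ (U : S.affineOpens) (V : X.affineOpens) (e : V.1 ≤ f ⁻¹ᵁ U.1),
        letI := (f.appLE U.1 V.1 e).hom.toAlgebra
        Algebra.FormallyUnramified Γ(S, U.1) (Γ(X, V.1) ⧸ I.ideal V) := by
  have hc : ∀ (U : S.affineOpens) (V : X.affineOpens) (e : V.1 ≤ f ⁻¹ᵁ U.1),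
      I.subschemeCover.f V ≫ I.subschemeι ≫ f =
        Spec.map (f.appLE U.1 V.1 e ≫ CommRingCat.ofHom (Ideal.Quotient.mk (I.ideal V))) ≫ U.2.fromSpec :=
    fun U V e => by
      rw [← Category.assoc, Scheme.IdealSheafData.subschemeCover_map_subschemeι,
        Scheme.IdealSheafData.glueDataObjι_ι, Category.assoc,
        ← IsAffineOpen.SpecMap_appLE_fromSpec f U.2 V.2 e, ← Spec.map_comp_assoc]
  constructor
  · intro h U V e
    have h1 : FormallyUnramified (I.subschemeCover.f V ≫ I.subschemeι ≫ f) :=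
      IsZariskiLocalAtSource.comp h _
    rw [hc U V e] at h1
    have h2 : FormallyUnramified
        (Spec.map (f.appLE U.1 V.1 e ≫ CommRingCat.ofHom (Ideal.Quotient.mk (I.ideal V)))) :=
      FormallyUnramified.of_comp _ U.2.fromSpec
    rw [HasRingHomProperty.Spec_iff (P := @FormallyUnramified)] at h2
    exact h2
  · intro h
    have hch : ∀ x : X, ∃ (U : S.Opens) (_ : IsAffineOpen U) (V : X.Opens) (_ : IsAffineOpen V)
        (_ : V ≤ f ⁻¹ᵁ U), x ∈ V := fun x => by
      obtain ⟨_, ⟨U, hU, rfl⟩, hxU, -⟩ :=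
        S.isBasis_affineOpens.exists_subset_of_mem_open (Set.mem_univ (f x)) isOpen_univ
      obtain ⟨V, hV, hxV, hVU⟩ := exists_isAffineOpen_mem_and_subset (show x ∈ f ⁻¹ᵁ U from hxU)
      exact ⟨U, hU, V, hV, hVU, hxV⟩
    choose U hU V hV e hx using hch
    refine IsZariskiLocalAtSource.of_iSup_eq_top (fun x => (I.subschemeCover.f ⟨V x, hV x⟩).opensRange) ?_ fun x => ?_
    · refine eq_top_iff.2 fun w _ => TopologicalSpace.Opens.mem_iSup.2 ⟨I.subschemeι w, ?_⟩
      rw [Scheme.IdealSheafData.opensRange_subschemeCover_map]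
      exact hx _
    · rw [← MorphismProperty.cancel_left_of_respectsIso @FormallyUnramified
        (I.subschemeCover.f ⟨V x, hV x⟩).isoOpensRange.hom, Scheme.Hom.isoOpensRange_hom_ι_assoc,
        hc ⟨U x, hU x⟩ ⟨V x, hV x⟩ (e x)]
      exact MorphismProperty.comp_mem @FormallyUnramified _ _
        ((HasRingHomProperty.Spec_iff (P := @FormallyUnramified)).2 (h ⟨U x, hU x⟩ ⟨V x, hV x⟩ (e x))) inferInstance

variable (f : X ⟶ S) [LocallyOfFinitePresentation f]

/-- the good points in a chart -/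
theorem good_chart_iff [Flat f] {U : S.Opens} (hU : IsAffineOpen U) {V : X.Opens} (hV : IsAffineOpen V)
    (e : V ≤ f ⁻¹ᵁ U) :
    letI := (f.appLE U V e).hom.toAlgebra
    ∀ q : PrimeSpectrum Γ(X, V),
      (FlatMor.fibreDimAt (relMor Γ(S, U) Γ(X, V)) q = FlatMor.fibreDimAt f (hV.fromSpec q)) ∧
      (Good (relMor Γ(S, U) Γ(X, V)) q ↔ Good f (hV.fromSpec q)) := by
  letI := (f.appLE U V e).hom.toAlgebra
  haveI : Algebra.FinitePresentation Γ(S, U) Γ(X, V) := f.finitePresentation_appLE hU hV e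
  intro q
  have he : relMor Γ(S, U) Γ(X, V) ≫ hU.fromSpec = hV.fromSpec ≫ f :=
    IsAffineOpen.SpecMap_appLE_fromSpec f hU hV e
  refine ⟨?_, ?_⟩
  · rw [← LocalDimBC.fibreDimAt_openImmersion_comp hV.fromSpec f q,
      LocalDimBC.fibreDimAt_comp_openImmersion (relMor Γ(S, U) Γ(X, V)) hU.fromSpec q]
    simp only [he]
  · rw [← good_etale_comp hV.fromSpec f q, ← good_comp_etale (relMor Γ(S, U) Γ(X, V)) hU.fromSpec q]
    simp only [he]

/-- nodal families are syntomic -/
theorem isSyntomicMor_of_good [Flat f] (h : ∀ x, Good f x) : Synt.IsSyntomicMor f := by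
  intro x
  obtain ⟨_, ⟨U, hU, rfl⟩, hxU, -⟩ :=
    S.isBasis_affineOpens.exists_subset_of_mem_open (Set.mem_univ (f x)) isOpen_univ
  obtain ⟨V, hV, hxV, e⟩ := exists_isAffineOpen_mem_and_subset (show x ∈ f ⁻¹ᵁ U from hxU)
  algebraize [(f.appLE U V e).hom]
  haveI : Algebra.FinitePresentation Γ(S, U) Γ(X, V) := f.finitePresentation_appLE hU hV e
  haveI : Module.Flat Γ(S, U) Γ(X, V) := f.flat_appLE hU hV e
  let q := hV.primeIdealOf ⟨x, hxV⟩
  obtain ⟨Q, hQ⟩ := exists_prime_fibre q (PrimeSpectrum.comap (algebraMap Γ(S, U) Γ(X, V)) q) rfl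
  obtain ⟨-, hci, -⟩ := (good_affine_iff q _ Q hQ).1 ((good_chart_iff f hU hV e q).2.2 (h _))
  haveI : q.asIdeal.LiesOver (PrimeSpectrum.comap (algebraMap Γ(S, U) Γ(X, V)) q).asIdeal := ⟨rfl⟩
  haveI : Algebra.FinitePresentation Γ(S, U) (Localization.Away (1 : Γ(X, V))) :=
    Algebra.FinitePresentation.trans Γ(S, U) Γ(X, V) (Localization.Away (1 : Γ(X, V)))
  haveI : Module.Flat Γ(X, V) (Localization.AtPrime q.asIdeal) := IsLocalization.flat _ q.asIdeal.primeCompl
  haveI : Module.Flat Γ(S, U) (Localization.AtPrime q.asIdeal) := Module.Flat.trans Γ(S, U) Γ(X, V) _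
  obtain ⟨g, hgq, hsyn⟩ := (S9169.result Γ(S, U) Γ(X, V) (PrimeSpectrum.comap (algebraMap Γ(S, U) Γ(X, V)) q).asIdeal
    q.asIdeal Q.asIdeal hQ).2.2
      ⟨1, fun h1 => q.isPrime.ne_top ((Ideal.eq_top_iff_one _).2 h1), inferInstance, inferInstance, hci⟩
  have hxg : x ∈ X.basicOpen g := by
    have h2 : q ∈ hV.fromSpec ⁻¹ᵁ X.basicOpen g := by
      rw [hV.fromSpec_preimage_basicOpen]
      exact hgq
    have h3 : hV.fromSpec q ∈ X.basicOpen g := h2
    rwa [hV.fromSpec_primeIdealOf ⟨x, hxV⟩] at h3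
  refine ⟨⟨X.basicOpen g, hV.basicOpen g⟩, ⟨U, hU⟩, (X.basicOpen_le g).trans e, hxg, ?_⟩
  letI : Algebra Γ(S, U) Γ(X, X.basicOpen g) := (f.appLE U (X.basicOpen g) ((X.basicOpen_le g).trans e)).hom.toAlgebra
  letI : Algebra Γ(X, V) Γ(X, X.basicOpen g) := (X.presheaf.map (homOfLE (X.basicOpen_le g)).op).hom.toAlgebra
  haveI : IsScalarTower Γ(S, U) Γ(X, V) Γ(X, X.basicOpen g) := IsScalarTower.of_algebraMap_eq' (by
    show (f.appLE U (X.basicOpen g) _).hom =
      (f.appLE U V e ≫ X.presheaf.map (homOfLE (X.basicOpen_le g)).op).hom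
    rw [Scheme.Hom.appLE_map])
  haveI : IsLocalization.Away g Γ(X, X.basicOpen g) := hV.isLocalization_basicOpen g
  exact SyntLib.isSyntomic_of_algEquiv
    ((IsLocalization.algEquiv (Submonoid.powers g) (Localization.Away g) Γ(X, X.basicOpen g)).restrictScalars _) hsyn

/-- **criterion for nodal families**, for any ideal sheaf with the Fitting values of the differentials -/
theorem isNodalFamily_iff_of_ideal {X S : Scheme.{u}} (f : X ⟶ S) (I : X.IdealSheafData)
    (hI : LocallyOfFinitePresentation f → ∀ (U : S.affineOpens) (V : X.affineOpens) (e : V.1 ≤ f ⁻¹ᵁ U.1),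
      letI := (f.appLE U.1 V.1 e).hom.toAlgebra
      I.ideal V = Fitt.ideal Γ(X, V.1) Ω[Γ(X, V.1)⁄Γ(S, U.1)] 1) :
    Curv2.IsNodalFamily f ↔
      Synt.IsSyntomicMor f ∧ (∀ x : X, FlatMor.fibreDimAt f x = 1) ∧ FormallyUnramified (I.subschemeι ≫ f) := by
  constructor
  · intro hf
    obtain ⟨hflat, hfp, hgood⟩ := (isNodalFamily_iff f).1 hf
    refine ⟨isSyntomicMor_of_good f hgood, fun x => (hgood x).1, (formallyUnramified_subscheme_iff f I).2 fun U V e => ?_⟩
    algebraize [(f.appLE U.1 V.1 e).hom]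
    rw [hI hfp U V e]
    haveI : Algebra.FinitePresentation Γ(S, U.1) Γ(X, V.1) := f.finitePresentation_appLE U.2 V.2 e
    rw [Algebra.formallyUnramified_iff, ← Module.support_eq_empty_iff (R := Γ(X, V.1))]
    refine Set.eq_empty_iff_forall_notMem.2 fun q => ?_
    obtain ⟨Q, hQ⟩ := exists_prime_fibre q (PrimeSpectrum.comap (algebraMap Γ(S, U.1) Γ(X, V.1)) q) rfl
    exact ((good_affine_iff q _ Q hQ).1 ((good_chart_iff f U.2 V.2 e q).2.2 (hgood _))).2.2
  · rintro ⟨hsyn, hdim, hunr⟩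
    have hs : SyntLib.SynMor f := (SyntLib.isSyntomicMor_iff f).1 hsyn
    haveI hfp := SyntLib.lfp_of_synMor f hs
    haveI : Flat f := by
      rw [IsZariskiLocalAtSource.iff_exists_resLE (P := @Flat)]
      intro x
      obtain ⟨V, U, e, hx, hflat, -⟩ := hsyn x
      refine ⟨U.1, V.1, hx, e, ?_⟩
      haveI : IsAffine _ := U.2
      haveI : IsAffine _ := V.2
      rw [HasRingHomProperty.iff_of_isAffine (P := @Flat)]
      exact (RingHom.Flat.respectsIso.arrow_mk_iso_iff (arrowResLEAppIso f U.1 V.1 e)).mpr hflat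
    refine (isNodalFamily_iff f).2 ⟨inferInstance, hfp, fun x => ?_⟩
    obtain ⟨V, U, e, hxV, hsV⟩ := hsyn x
    algebraize [(f.appLE U.1 V.1 e).hom]
    haveI : Algebra.FinitePresentation Γ(S, U.1) Γ(X, V.1) := f.finitePresentation_appLE U.2 V.2 e
    let q := V.2.primeIdealOf ⟨x, hxV⟩
    have hx : V.2.fromSpec q = x := V.2.fromSpec_primeIdealOf ⟨x, hxV⟩
    obtain ⟨Q, hQ⟩ := exists_prime_fibre q (PrimeSpectrum.comap (algebraMap Γ(S, U.1) Γ(X, V.1)) q) rfl
    haveI : q.asIdeal.LiesOver (PrimeSpectrum.comap (algebraMap Γ(S, U.1) Γ(X, V.1)) q).asIdeal := ⟨rfl⟩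
    obtain ⟨_, _, _, _, hci⟩ := (S9169.result Γ(S, U.1) Γ(X, V.1)
      (PrimeSpectrum.comap (algebraMap Γ(S, U.1) Γ(X, V.1)) q).asIdeal q.asIdeal Q.asIdeal hQ).2.1
        ⟨1, fun h1 => q.isPrime.ne_top ((Ideal.eq_top_iff_one _).2 h1), SyntLib.isSyntomic_of_algEquiv
          ((IsLocalization.atUnits Γ(X, V.1) (Submonoid.powers (1 : Γ(X, V.1)))
            (S := Localization.Away (1 : Γ(X, V.1))) (by simp)).restrictScalars _) hsV⟩
    rw [← hx, ← (good_chart_iff f U.2 V.2 e q).2, good_affine_iff q _ Q hQ]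
    refine ⟨by rw [(good_chart_iff f U.2 V.2 e q).1, hdim], hci, ?_⟩
    have hu := (formallyUnramified_subscheme_iff f I).1 hunr U V e
    rw [hI hfp U V e, Algebra.formallyUnramified_iff, ← Module.support_eq_empty_iff (R := Γ(X, V.1))] at hu
    rw [hu]
    exact Set.notMem_empty q

end Groth.Agent.NodeFib
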