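import Groth.Agent.NodeFib.Quad
import Groth.Agent.NodeFib.Point
import Groth.Agent.FittLib.SmoothCrit
import Groth.Agent.SepReg.Basic
import Groth.Agent.S2063

/-!
Smooth points and nodes of a curve over a field, in terms of the first Fitting ideal of the differentials.
-/

set_option autoImplicit false
set_option linter.style.haveILetI false
set_option backward.isDefEq.respectTransparency false
set_option backward.isDefEq.respectTransparency.types false

universe u

open CategoryTheory CategoryTheory.Limits AlgebraicGeometry TensorProduct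

namespace Groth.Agent.NodeFib

open NodeChar

section Local

variable {K O : Type u} [Field K] [CommRing O] [IsLocalRing O] [Algebra K O] [Algebra.EssFiniteType K O]

/-- unramified quotients of a local algebra over a field -/
theorem formallyUnramified_quot_iff (J : Ideal O) (hJ : J ≤ IsLocalRing.maximalIdeal O) :
    Algebra.FormallyUnramified K (O ⧸ J) ↔
      J = IsLocalRing.maximalIdeal O ∧ Algebra.IsSeparable K (IsLocalRing.ResidueField O) := by
  constructor
  · intro h
    haveI : Nontrivial (O ⧸ J) :=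
      Ideal.Quotient.nontrivial_iff.2 (ne_top_of_le_ne_top (IsLocalRing.maximalIdeal.isMaximal O).ne_top hJ)
    haveI : IsLocalRing (O ⧸ J) := .of_surjective' _ Ideal.Quotient.mk_surjective
    haveI : Algebra.EssFiniteType K (O ⧸ J) := Algebra.EssFiniteType.comp K O _
    haveI : Module.Finite K (O ⧸ J) := Algebra.FormallyUnramified.finite_of_free _ _
    haveI : IsReduced (O ⧸ J) := Algebra.FormallyUnramified.isReduced_of_field K (O ⧸ J)
    haveI : IsArtinianRing (O ⧸ J) := isArtinian_of_tower K inferInstance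
    have hmax : J.IsMaximal := by
      rw [Ideal.Quotient.maximal_ideal_iff_isField_quotient, IsLocalRing.isField_iff_maximalIdeal_eq,
        ← IsLocalRing.jacobson_eq_maximalIdeal _ bot_ne_top, IsArtinianRing.jacobson_eq_radical,
        ← Ideal.zero_eq_bot, ← nilradical, nilradical_eq_zero]
    have e := IsLocalRing.eq_maximalIdeal hmax
    subst e
    refine ⟨rfl, ?_⟩
    haveI : Algebra.EssFiniteType K (IsLocalRing.ResidueField O) := ‹Algebra.EssFiniteType K (O ⧸ _)›
    haveI : Algebra.FormallyUnramified K (IsLocalRing.ResidueField O) := h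
    exact Algebra.FormallyUnramified.isSeparable K _
  · rintro ⟨rfl, hs⟩
    haveI := hs
    exact (Algebra.FormallyUnramified.of_isSeparable K (IsLocalRing.ResidueField O) :)

end Local

variable {K F : Type u} [Field K] [CommRing F] [Algebra K F] [Algebra.FiniteType K F]

/-- the structure morphism -/
noncomputable abbrev specMor (K F : Type u) [Field K] [CommRing F] [Algebra K F] :
    Spec (CommRingCat.of F) ⟶ Spec (CommRingCat.of K) :=
  Spec.map (CommRingCat.ofHom (algebraMap K F))

omit [Algebra.FiniteType K F] in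
theorem exists_stalk_equiv (Q : PrimeSpectrum F) :
    letI : (Spec (CommRingCat.of F)).Over (Spec (CommRingCat.of K)) := ⟨specMor K F⟩
    letI := Curv2.stalkAlgebra K (Spec (CommRingCat.of F)) Q
    Nonempty (Localization.AtPrime Q.asIdeal ≃ₐ[K] (Spec (CommRingCat.of F)).presheaf.stalk Q) := by
  letI : (Spec (CommRingCat.of F)).Over (Spec (CommRingCat.of K)) := ⟨specMor K F⟩
  letI := Curv2.stalkAlgebra K (Spec (CommRingCat.of F)) Q
  let e : Localization.AtPrime Q.asIdeal ≃ₐ[F] (Spec.structureSheaf F).presheaf.stalk Q :=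
    StructureSheaf.stalkIso F Q
  refine ⟨AlgEquiv.ofRingEquiv (f := e.toRingEquiv) fun c => ?_⟩
  have h1 : (specMor K F).appTop ((Scheme.ΓSpecIso (CommRingCat.of K)).inv c) =
      (Scheme.ΓSpecIso (CommRingCat.of F)).inv (algebraMap K F c) :=
    (congr($(Scheme.ΓSpecIso_inv_naturality (CommRingCat.ofHom (algebraMap K F))) c)).symm
  show e (algebraMap K (Localization.AtPrime Q.asIdeal) c) =
    (Spec (CommRingCat.of F)).presheaf.germ ⊤ Q trivial
      ((specMor K F).appTop ((Scheme.ΓSpecIso (CommRingCat.of K)).inv c))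
  rw [h1, IsScalarTower.algebraMap_apply K F (Localization.AtPrime Q.asIdeal), e.commutes]
  rfl

/-- nodes of an affine scheme -/
theorem isNode_spec_iff (Q : PrimeSpectrum F) :
    @Curv2.IsNode K _ (Spec (CommRingCat.of F)) ⟨specMor K F⟩ Q ↔
      Algebra.IsSeparable K Q.asIdeal.ResidueField ∧ IsQuadLocal (Localization.AtPrime Q.asIdeal) := by
  letI : (Spec (CommRingCat.of F)).Over (Spec (CommRingCat.of K)) := ⟨specMor K F⟩
  letI := Curv2.stalkAlgebra K (Spec (CommRingCat.of F)) Q
  haveI : LocallyOfFiniteType ((Spec (CommRingCat.of F)) ↘ Spec (CommRingCat.of K)) :=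
    (HasRingHomProperty.Spec_iff (P := @LocallyOfFiniteType)).mpr (RingHom.finiteType_algebraMap.mpr inferInstance)
  obtain ⟨e⟩ := exists_stalk_equiv (K := K) Q
  let er : Q.asIdeal.ResidueField ≃+* IsLocalRing.ResidueField ((Spec (CommRingCat.of F)).presheaf.stalk Q) :=
    IsLocalRing.ResidueField.mapEquiv e.toRingEquiv
  let ea : Q.asIdeal.ResidueField ≃ₐ[K] IsLocalRing.ResidueField ((Spec (CommRingCat.of F)).presheaf.stalk Q) :=
    AlgEquiv.ofRingEquiv (f := er) fun c => congrArg (IsLocalRing.residue _) (e.commutes c)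
  rw [NodeChar.isNode_iff]
  exact and_congr ⟨fun h => Algebra.IsSeparable.of_algHom K _ ea.toAlgHom,
      fun h => Algebra.IsSeparable.of_algHom K _ ea.symm.toAlgHom⟩
    ⟨fun h => h.of_ringEquiv e.toRingEquiv.symm, fun h => h.of_ringEquiv e.toRingEquiv⟩

/-- smooth points of an affine scheme -/
theorem mem_smoothLocus_spec_iff (Q : PrimeSpectrum F) [LocallyOfFinitePresentation (specMor K F)] :
    (Q : Spec (CommRingCat.of F)) ∈ (specMor K F).smoothLocus ↔ Algebra.IsSmoothAt K Q.asIdeal := by
  let p : PrimeSpectrum K := PrimeSpectrum.comap (algebraMap K F) Q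
  haveI : Q.asIdeal.LiesOver p.asIdeal := ⟨rfl⟩
  letI := Localization.AtPrime.algebraOfLiesOver p.asIdeal Q.asIdeal
  rw [Scheme.Hom.mem_smoothLocus]
  trans Algebra.FormallySmooth (Localization.AtPrime p.asIdeal) (Localization.AtPrime Q.asIdeal)
  · rw [← RingHom.formallySmooth_algebraMap]
    exact RingHom.FormallySmooth.respectsIso.arrow_mk_iso_iff
      (Scheme.arrowStalkMapSpecIso (CommRingCat.ofHom (algebraMap K F)) Q)
  · exact Algebra.FormallySmooth.iff_restrictScalars.symm

/-- smoothness at a point of local dimension one -/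
theorem isSmoothAt_iff_not_le (Q : PrimeSpectrum F) (hd : FlatMor.localDim (PrimeSpectrum F) Q = 1) :
    Algebra.IsSmoothAt K Q.asIdeal ↔ ¬Fitt.ideal F Ω[F⁄K] 1 ≤ Q.asIdeal := by
  constructor
  · intro h hle
    have h1 := (S2063.result (k := K) Q.asIdeal).1 h
    rw [show (⟨Q.asIdeal, inferInstance⟩ : PrimeSpectrum F) = Q from rfl, hd] at h1
    have h2 : Module.finrank Q.asIdeal.ResidueField (Q.asIdeal.ResidueField ⊗[F] Ω[F⁄K]) ≤ 1 := by
      exact_mod_cast h1
    have h3 := FittLib.ideal_eq_top_of_generators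
      (Module.finBasis Q.asIdeal.ResidueField (Q.asIdeal.ResidueField ⊗[F] Ω[F⁄K]))
      (Module.finBasis Q.asIdeal.ResidueField (Q.asIdeal.ResidueField ⊗[F] Ω[F⁄K])).span_eq
      (k := 1) (by simpa using h2)
    rw [FittLib.ideal_baseChange] at h3
    have h4 : (Fitt.ideal F Ω[F⁄K] 1).map (algebraMap F Q.asIdeal.ResidueField) = ⊥ := by
      rw [Ideal.map_eq_bot_iff_le_ker, Ideal.ker_algebraMap_residueField]
      exact hle
    exact bot_ne_top (h4.symm.trans h3)
  · intro h
    exact FittLib.isSmoothAt_of_not_le _ h (by rw [hd]; rfl)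

/-- **smooth or node, ring theoretically** -/
theorem sn_spec_iff (Q : PrimeSpectrum F) (hd : FlatMor.localDim (PrimeSpectrum F) Q = 1) :
    SN (K := K) (specMor K F) (Q : Spec (CommRingCat.of F)) ↔
      Synt.IsCIOver K (Localization.AtPrime Q.asIdeal) ∧
        Algebra.FormallyUnramified K (Localization.AtPrime Q.asIdeal ⧸
          (Fitt.ideal F Ω[F⁄K] 1).map (algebraMap F (Localization.AtPrime Q.asIdeal))) := by
  haveI : Algebra.FinitePresentation K F := Algebra.FinitePresentation.of_finiteType.1 inferInstance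
  haveI : LocallyOfFinitePresentation (specMor K F) :=
    (HasRingHomProperty.Spec_iff (P := @LocallyOfFinitePresentation)).mpr
      (RingHom.finitePresentation_algebraMap.mpr inferInstance)
  haveI : IsNoetherianRing F := Algebra.FiniteType.isNoetherianRing K F
  set J := Fitt.ideal F Ω[F⁄K] 1
  let O := Localization.AtPrime Q.asIdeal
  haveI : Algebra.EssFiniteType F O := Algebra.EssFiniteType.of_isLocalization _ Q.asIdeal.primeCompl
  haveI : Algebra.EssFiniteType K O := Algebra.EssFiniteType.comp K F _
  haveI : Algebra.FormallyEtale F O := .of_isLocalization Q.asIdeal.primeCompl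
  have hJO : Fitt.ideal O Ω[O⁄K] 1 = J.map (algebraMap F O) := by
    rw [← FittLib.ideal_congr (KaehlerDifferential.tensorKaehlerEquivOfFormallyEtale K F O) 1,
      FittLib.ideal_baseChange]
  have hJtop : ¬J ≤ Q.asIdeal → Algebra.FormallyUnramified K (O ⧸ J.map (algebraMap F O)) := fun h => by
    haveI : Subsingleton (O ⧸ J.map (algebraMap F O)) := by
      rw [Ideal.Quotient.subsingleton_iff, ← not_not (a := _ = ⊤), ← ne_eq,
        IsLocalization.map_algebraMap_ne_top_iff_disjoint Q.asIdeal.primeCompl, Set.not_disjoint_iff]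
      obtain ⟨j, hj, hjQ⟩ := SetLike.not_le_iff_exists.1 h
      exact ⟨j, hjQ, hj⟩
    exact ⟨inferInstance⟩
  rw [SN, smooth_iff_mem, mem_smoothLocus_spec_iff]
  constructor
  · rintro (hs | hn)
    · have hnle := (isSmoothAt_iff_not_le Q hd).1 hs
      haveI := SepReg.regular_of_isSmoothAt (k := K) Q.asIdeal
      exact ⟨SyntLib.isCIOver_of_regular, hJtop hnle⟩
    · obtain ⟨hs, hq⟩ := (isNode_spec_iff Q).1 hn
      haveI : Algebra.IsSeparable K (IsLocalRing.ResidueField O) := hs
      refine ⟨ci_of_isQuadLocal hq, ?_⟩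
      rw [← hJO, fitt_of_isQuadLocal hq, formallyUnramified_quot_iff _ le_rfl]
      exact ⟨rfl, hs⟩
  · rintro ⟨hci, hu⟩
    by_cases hJ : J ≤ Q.asIdeal
    · have hle : J.map (algebraMap F O) ≤ IsLocalRing.maximalIdeal O := by
        rw [← Localization.AtPrime.map_eq_maximalIdeal]
        exact Ideal.map_mono hJ
      obtain ⟨hm, hs⟩ := (formallyUnramified_quot_iff (K := K) _ hle).1 hu
      haveI := hs
      have hdim : ringKrullDim O = 1 := by
        obtain ⟨b, δ, hb, hD, hδ⟩ := CMChart.localDim_primeSpectrum (k := K) Q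
        haveI : Algebra.IsSeparable K Q.asIdeal.ResidueField := hs
        have hδ0 : δ = 0 := by
          rw [trdeg_eq_zero] at hδ
          exact_mod_cast hδ.symm
        rw [hd, hδ0, add_zero] at hD
        exact hb.trans (hD.symm.trans rfl)
      exact Or.inr ((isNode_spec_iff Q).2 ⟨hs, isQuadLocal_of_fitt hdim hci (hJO.trans hm)⟩)
    · exact Or.inl ((isSmoothAt_iff_not_le Q hd).2 hJ)

end Groth.Agent.NodeFib
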