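import Groth.Agent.NodeChar.Local
import Groth.Agent.RegLoc.Order
import Groth.Agent.SerreReg.Regular

/-!
Quotients of two-dimensional regular local rings by nondegenerate quadratic forms.
-/

set_option autoImplicit false
set_option linter.style.haveILetI false

universe u

open IsLocalRing

namespace Groth.Agent.NodeFib

open NodeChar

/-- coefficients of minimal generators -/
theorem coeff_mem_sq {A : Type u} [CommRing A] [IsLocalRing A] [IsNoetherianRing A] {e : ℕ} (x : Fin e → A)
    (hx : Ideal.span (Set.range x) = maximalIdeal A) (he : (maximalIdeal A).spanFinrank = e) (z : Fin e → A)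
    (hz : ∑ i, z i * x i ∈ maximalIdeal A ^ 2) (i : Fin e) : z i ∈ maximalIdeal A := by
  have hxm : ∀ i, x i ∈ maximalIdeal A := fun i => hx ▸ Ideal.subset_span ⟨i, rfl⟩
  let v : Fin e → CotangentSpace A := fun i => (maximalIdeal A).toCotangent ⟨x i, hxm i⟩
  have hsp : Submodule.span (ResidueField A) (Set.range v) = ⊤ := by
    rw [show v = (maximalIdeal A).toCotangent ∘ fun i => (⟨x i, hxm i⟩ : maximalIdeal A) from rfl, Set.range_comp,
      CotangentSpace.span_image_eq_top_iff, ← (Submodule.map_injective_of_injective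
        (Submodule.injective_subtype (maximalIdeal A))).eq_iff, Submodule.map_span, ← Set.range_comp,
      Submodule.map_top, Submodule.range_subtype]
    exact hx
  have hli : LinearIndependent (ResidueField A) v :=
    linearIndependent_of_top_le_span_of_card_eq_finrank hsp.ge (by
      rw [← IsLocalRing.spanFinrank_maximalIdeal_eq_finrank_cotangentSpace_of_fg (IsNoetherian.noetherian _), he,
        Fintype.card_fin])
  rw [← residue_eq_zero_iff]
  refine (Fintype.linearIndependent_iff.1 hli (fun i => residue A (z i)) ?_ i)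
  have hy' : ∑ i, z i * x i ∈ maximalIdeal A := Ideal.sum_mem _ fun i _ => Ideal.mul_mem_left _ _ (hxm i)
  have h0 : (maximalIdeal A).toCotangent ⟨_, hy'⟩ = 0 := ((maximalIdeal A).toCotangent_eq_zero _).2 hz
  rw [← h0, show (⟨_, hy'⟩ : maximalIdeal A) = ∑ i, z i • ⟨x i, hxm i⟩ from Subtype.ext (by simp), map_sum]
  refine Finset.sum_congr rfl fun i _ => ?_
  rw [map_smul, ← algebraMap_smul (ResidueField A) (z i)]
  rfl

theorem coeff_pair {A : Type u} [CommRing A] [IsLocalRing A] [IsNoetherianRing A] {x y : A}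
    (hx : maximalIdeal A = Ideal.span {x, y}) (he : (maximalIdeal A).spanFinrank = 2) {p r : A}
    (h : p * x + r * y ∈ maximalIdeal A ^ 2) : p ∈ maximalIdeal A ∧ r ∈ maximalIdeal A := by
  have hs : Ideal.span (Set.range ![x, y]) = maximalIdeal A := by
    rw [hx]; congr 1; simp [Set.pair_comm]
  have := coeff_mem_sq ![x, y] hs he ![p, r] (by simpa [Fin.sum_univ_two] using h)
  exact ⟨this 0, this 1⟩

/-- one of the standard changes of coordinates makes the first coefficient a unit -/
theorem exists_isUnit_a {A : Type u} [CommRing A] [IsLocalRing A] {x y a b c : A}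
    (hs : maximalIdeal A = Ideal.span {x, y}) (hd : IsUnit (disc a b c)) :
    ∃ x' y' a' b' c' : A, maximalIdeal A = Ideal.span {x', y'} ∧ IsUnit a' ∧ IsUnit (disc a' b' c') ∧
      qf a' b' c' x' y' = qf a b c x y := by
  by_cases ha : IsUnit a
  · exact ⟨x, y, a, b, c, hs, ha, hd, rfl⟩
  by_cases hc : IsUnit c
  · refine ⟨y, x, c, b, a, by rw [hs, Set.pair_comm], hc, ?_, by ring⟩
    rw [show disc c b a = disc a b c by ring]; exact hd
  have hm : a ∈ maximalIdeal A ∧ c ∈ maximalIdeal A := ⟨(mem_maximalIdeal _).2 ha, (mem_maximalIdeal _).2 hc⟩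
  refine ⟨x, y - x, a + b + c, b + 2 * c, c, ?_, ?_, ?_, by ring⟩
  · rw [hs]
    refine le_antisymm (Ideal.span_le.2 ?_) (Ideal.span_le.2 ?_)
    · rintro z (rfl | rfl)
      · exact Ideal.subset_span (Set.mem_insert _ _)
      · exact Ideal.mem_span_pair.2 ⟨1, 1, by ring⟩
    · rintro z (rfl | rfl)
      · exact Ideal.subset_span (Set.mem_insert _ _)
      · exact Ideal.mem_span_pair.2 ⟨-1, 1, by ring⟩
  · rw [← not_not (a := IsUnit (a + b + c)), ← mem_nonunits_iff, ← mem_maximalIdeal]
    intro h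
    have hb : b ∈ maximalIdeal A := by
      rw [show b = a + b + c - a - c by ring]
      exact sub_mem (sub_mem h hm.1) hm.2
    refine (mem_maximalIdeal (disc a b c)).1 ?_ hd
    exact sub_mem (Ideal.pow_mem_of_mem _ hb 2 two_pos) (Ideal.mul_mem_left _ _ hm.2)
  · rw [show disc (a + b + c) (b + 2 * c) c = disc a b c by ring]; exact hd

variable {R : Type u} [CommRing R] [IsRegularLocalRing R]

theorem mem_pow_of_mul {y z : R} (hy : y ∈ maximalIdeal R) (hy2 : y ∉ maximalIdeal R ^ 2) {j : ℕ}
    (h : y * z ∈ maximalIdeal R ^ (j + 1)) : z ∈ maximalIdeal R ^ j := by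
  rcases eq_or_ne z 0 with rfl | hz
  · exact zero_mem _
  obtain ⟨h1, h2⟩ := RegLoc.ord_spec hz
  by_contra hn
  have hlt : RegLoc.ord z < j := by
    by_contra hge
    exact hn (Ideal.pow_le_pow_right (not_lt.1 hge) h1)
  exact RegLoc.mul_notMem_pow R (p := 1) (by simpa using hy) hy2 h1 h2 (Ideal.pow_le_pow_right (by omega) h)

theorem ind_regular {x y a b c : R} (hs : maximalIdeal R = Ideal.span {x, y})
    (he : (maximalIdeal R).spanFinrank = 2) (ha : IsUnit a) (n : ℕ) :
    ∀ α β γ : R, α * (x * y ^ n) + β * y ^ (n + 1) - γ * qf a b c x y ∈ maximalIdeal R ^ (n + 2) →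
      α ∈ maximalIdeal R ∧ β ∈ maximalIdeal R := by
  have hxm : x ∈ maximalIdeal R := hs ▸ Ideal.subset_span (Set.mem_insert _ _)
  have hym : y ∈ maximalIdeal R := hs ▸ Ideal.subset_span (Set.mem_insert_of_mem _ rfl)
  have hq : qf a b c x y ∈ maximalIdeal R ^ 2 := by
    rw [pow_two]
    refine add_mem (add_mem ?_ ?_) ?_
    · rw [pow_two]; exact Ideal.mul_mem_left _ _ (Ideal.mul_mem_mul hxm hxm)
    · rw [mul_assoc]; exact Ideal.mul_mem_left _ _ (Ideal.mul_mem_mul hxm hym)
    · rw [pow_two]; exact Ideal.mul_mem_left _ _ (Ideal.mul_mem_mul hym hym)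
  induction n with
  | zero =>
    intro α β γ h
    refine coeff_pair hs he ?_
    have := add_mem h (Ideal.mul_mem_left _ γ hq)
    simpa using this
  | succ n ih =>
    intro α β γ h
    have hy2 : y ∉ maximalIdeal R ^ 2 := fun hy2 => by
      have := (coeff_pair hs he (p := 0) (r := 1) (by simpa using hy2)).2
      exact (maximalIdeal.isMaximal R).ne_top ((Ideal.eq_top_iff_one _).2 this)
    obtain ⟨hreg, -⟩ := SerreReg.isRegularLocalRing_quot hym hy2
    haveI := hreg
    let π := Ideal.Quotient.mk (Ideal.span {y})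
    have hπy : π y = 0 := Ideal.Quotient.eq_zero_iff_mem.2 (Ideal.subset_span rfl)
    have hmap : (maximalIdeal R).map π = maximalIdeal (R ⧸ Ideal.span {y}) :=
      IsLocalRing.map_maximalIdeal_of_surjective _ Ideal.Quotient.mk_surjective
    have hxq : π x ∈ maximalIdeal (R ⧸ Ideal.span {y}) := hmap ▸ Ideal.mem_map_of_mem _ hxm
    have hxq2 : π x ∉ maximalIdeal (R ⧸ Ideal.span {y}) ^ 2 := fun h2 => by
      rw [← hmap, ← Ideal.map_pow] at h2
      obtain ⟨w, hw, hwx⟩ := (Ideal.mem_map_iff_of_surjective π Ideal.Quotient.mk_surjective).1 h2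
      obtain ⟨r, hr⟩ := Ideal.mem_span_singleton'.1 (Ideal.Quotient.eq.1 hwx)
      have := (coeff_pair hs he (p := 1) (r := r) (by rw [hr, one_mul, add_sub_cancel]; exact hw)).1
      exact (maximalIdeal.isMaximal R).ne_top ((Ideal.eq_top_iff_one _).2 this)
    obtain ⟨a', ha'⟩ := ha.exists_left_inv
    have h1 : π x * (π x * π γ) ∈ maximalIdeal (R ⧸ Ideal.span {y}) ^ (n + 1 + 2) := by
      have h0 := Ideal.mem_map_of_mem π (Ideal.mul_mem_left _ (-a') h)
      rw [Ideal.map_pow, hmap] at h0
      convert! h0 using 1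
      have e : π a' * π a = 1 := by rw [← map_mul, ha', map_one]
      simp only [qf, map_add, map_sub, map_mul, map_pow, map_neg, hπy, zero_pow (Nat.succ_ne_zero _), mul_zero,
        add_zero, zero_sub, mul_neg, neg_mul, neg_neg]
      linear_combination (-(π γ * π x ^ 2)) * e
    have h2 := mem_pow_of_mul hxq hxq2 (mem_pow_of_mul hxq hxq2 h1)
    rw [← hmap, ← Ideal.map_pow] at h2
    obtain ⟨γ₂, hγ₂, hγ⟩ := (Ideal.mem_map_iff_of_surjective π Ideal.Quotient.mk_surjective).1 h2
    obtain ⟨r, hr⟩ := Ideal.mem_span_singleton'.1 (Ideal.Quotient.eq.1 hγ)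
    have h3 : y * (α * (x * y ^ n) + β * y ^ (n + 1) - (-r) * qf a b c x y) ∈ maximalIdeal R ^ (n + 2 + 1) := by
      have hg : γ₂ * qf a b c x y ∈ maximalIdeal R ^ (n + 2 + 1) := by
        rw [show n + 2 + 1 = (n + 1) + 2 by omega, pow_add]
        exact Ideal.mul_mem_mul hγ₂ hq
      have h' := add_mem (show α * (x * y ^ (n + 1)) + β * y ^ (n + 1 + 1) - γ * qf a b c x y ∈
        maximalIdeal R ^ (n + 2 + 1) from h) hg
      convert! h' using 1
      linear_combination qf a b c x y * hr
    exact ih α β (-r) (mem_pow_of_mul hym hy2 h3)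

/-- the quotient by a nondegenerate quadratic form is quadratic -/
theorem isQuadLocal_of_quot {O : Type u} [CommRing O] [IsLocalRing O] (π : R →+* O)
    (hπ : Function.Surjective π) {x y a b c : R} (hs : maximalIdeal R = Ideal.span {x, y})
    (he : (maximalIdeal R).spanFinrank = 2) (hd : IsUnit (disc a b c))
    (hker : RingHom.ker π = Ideal.span {qf a b c x y}) : IsQuadLocal O := by
  obtain ⟨x, y, a', b', c', hs', ha', hd', hq⟩ := exists_isUnit_a hs hd
  rw [← hq] at hker
  have hm : maximalIdeal O = (maximalIdeal R).map π :=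
    (IsLocalRing.map_maximalIdeal_of_surjective π hπ).symm
  have hπq : qf (π a') (π b') (π c') (π x) (π y) = 0 := by
    rw [← map_qf, ← RingHom.mem_ker, hker]
    exact Ideal.subset_span rfl
  refine ⟨π x, π y, π a', π b', π c', ⟨?_, ha'.map π, ?_, by rw [hπq]; exact zero_mem _⟩, fun n α β hαβ => ?_⟩
  · rw [hm, hs', Ideal.map_span, Set.image_insert_eq, Set.image_singleton]
  · have := hd'.map π
    simpa [disc, map_ofNat] using this
  obtain ⟨α, rfl⟩ := hπ α
  obtain ⟨β, rfl⟩ := hπ β
  rw [hm, ← Ideal.map_pow, ← map_pow, ← map_pow, ← map_mul, ← map_mul, ← map_mul, ← map_add] at hαβ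
  obtain ⟨w, hw, hwe⟩ := (Ideal.mem_map_iff_of_surjective π hπ).1 hαβ
  have hker' : α * (x * y ^ n) + β * y ^ (n + 1) - w ∈ RingHom.ker π := by
    rw [RingHom.mem_ker, map_sub, hwe, sub_self]
  rw [hker] at hker'
  obtain ⟨γ, hγ⟩ := Ideal.mem_span_singleton'.1 hker'
  obtain ⟨h1, h2⟩ := ind_regular hs' he ha' n α β γ (by rw [hγ, sub_sub_cancel]; exact hw)
  exact ⟨hm ▸ Ideal.mem_map_of_mem _ h1, hm ▸ Ideal.mem_map_of_mem _ h2⟩

end Groth.Agent.NodeFib
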