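import Groth.Agent.NodeFib.Diff
import Groth.Agent.NodeFib.RegTwo
import Groth.Agent.SyntLib.FieldMore
import Groth.Agent.NodeChar.Point
import Groth.Agent.CotT.CI
import Groth.Agent.Cohen.Structure
import Groth.Agent.RegLoc.Order

/-!
Nodes are the complete intersection points where the first Fitting ideal of the differentials is the maximal ideal.
-/

set_option autoImplicit false
set_option linter.style.haveILetI false
set_option maxHeartbeats 1000000

universe u

open IsLocalRing TensorProduct RingTheory.Sequence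

namespace Groth.Agent.NodeFib

open NodeChar

variable {k O : Type u} [Field k] [CommRing O] [IsLocalRing O] [IsNoetherianRing O] [Algebra k O]
  [Algebra.EssFiniteType k O]

omit [IsNoetherianRing O] in
variable (k O) in
/-- a presentation by a regular local ring with free differentials -/
theorem exists_pres :
    ∃ (T : Type u) (_ : CommRing T) (_ : IsRegularLocalRing T) (_ : Algebra k T) (_ : Algebra T O)
      (_ : IsScalarTower k T O), Function.Surjective (algebraMap T O) ∧ Algebra.EssFiniteType k T ∧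
        Module.Free T Ω[T⁄k] ∧ Module.Finite T Ω[T⁄k] := by
  obtain ⟨n, g, hg⟩ := SyntLib.exists_generates k O
  let φ : MvPolynomial (Fin n) k →ₐ[k] O := MvPolynomial.aeval g
  let T := Localization.AtPrime (SyntLib.presPrime φ)
  haveI : IsRegularLocalRing T := IsRegularRing.isRegularLocalRing_localization _
  haveI : Algebra.EssFiniteType (MvPolynomial (Fin n) k) T :=
    Algebra.EssFiniteType.of_isLocalization _ (SyntLib.presPrime φ).primeCompl
  haveI : Algebra.EssFiniteType k T := Algebra.EssFiniteType.comp k (MvPolynomial (Fin n) k) _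
  haveI : Algebra.FormallyEtale (MvPolynomial (Fin n) k) T := .of_isLocalization (SyntLib.presPrime φ).primeCompl
  haveI hfree : Module.Free T Ω[T⁄k] :=
    .of_equiv (KaehlerDifferential.tensorKaehlerEquivOfFormallyEtale k (MvPolynomial (Fin n) k) T)
  haveI hfin : Module.Finite T Ω[T⁄k] :=
    .equiv (KaehlerDifferential.tensorKaehlerEquivOfFormallyEtale k (MvPolynomial (Fin n) k) T)
  letI : Algebra T O := (SyntLib.presMap φ).toAlgebra
  haveI : IsScalarTower k T O := IsScalarTower.of_algebraMap_eq fun x => by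
    show algebraMap k O x = SyntLib.presMap φ (algebraMap k T x)
    rw [IsScalarTower.algebraMap_apply k (MvPolynomial (Fin n) k) T, SyntLib.presMap_algebraMap]
    exact (φ.commutes x).symm
  exact ⟨T, inferInstance, inferInstance, inferInstance, inferInstance, inferInstance,
    SyntLib.presMap_surjective hg, inferInstance, hfree, hfin⟩

theorem det_mem_pow {A : Type u} [CommRing A] (I : Ideal A) {n : ℕ} (M : Matrix (Fin n) (Fin n) A)
    (h : ∀ i j, M i j ∈ I) : M.det ∈ I ^ n := by
  rw [Matrix.det_apply]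
  refine Ideal.sum_mem _ fun σ _ => Submodule.smul_of_tower_mem _ _ ?_
  have := Ideal.prod_mem_prod (ι := Fin n) (s := Finset.univ) (I := fun _ => I) fun i _ => h (σ i) i
  simpa using this

variable [Algebra.IsSeparable k (ResidueField O)]

/-- minimal generators -/
theorem exists_minimal_generators (A : Type u) [CommRing A] [IsLocalRing A] [IsNoetherianRing A] :
    ∃ x : Fin (maximalIdeal A).spanFinrank → A, Ideal.span (Set.range x) = maximalIdeal A := by
  obtain ⟨f, hf⟩ := Submodule.FG.exists_span_finset_card_eq_spanFinrank (IsNoetherian.noetherian (maximalIdeal A))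
  refine ⟨fun i => (f.equivFinOfCardEq hf.1).symm i, ?_⟩
  refine Eq.trans ?_ hf.2
  congr 1
  ext a
  constructor
  · rintro ⟨i, rfl⟩; exact ((f.equivFinOfCardEq hf.1).symm i).2
  · intro ha; exact ⟨f.equivFinOfCardEq hf.1 ⟨a, ha⟩, by simp⟩

/-- the embedding dimension of a point with maximal Fitting ideal is two -/
theorem spanFinrank_eq_two (hd : ringKrullDim O = 1) (hF : Fitt.ideal O Ω[O⁄k] 1 = maximalIdeal O) :
    (maximalIdeal O).spanFinrank = 2 := by
  obtain ⟨x, hx⟩ := exists_minimal_generators O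
  have hsp := span_D (k := k) x hx
  have h1 : ¬(maximalIdeal O).spanFinrank ≤ 1 := fun h => by
    rw [FittLib.ideal_eq_top_of_generators _ hsp (by simpa using h)] at hF
    exact (maximalIdeal.isMaximal O).ne_top hF.symm
  by_contra h2
  have h3 : 3 ≤ (maximalIdeal O).spanFinrank := by omega
  have hle : maximalIdeal O ≤ maximalIdeal O ^ 2 := by
    refine hF.ge.trans ?_
    rw [FittLib.ideal_eq_minors_fin _ hsp]
    refine (FittLib.minors_le fun z e hz => ?_).trans
      (Ideal.pow_le_pow_right (show 2 ≤ (maximalIdeal O).spanFinrank - 1 by omega))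
    exact det_mem_pow _ _ fun i j => coeff_mem_of_sum_D (k := k) x hx rfl _ (FittLib.mem_rel.1 (hz _)) _
  have hbot : maximalIdeal O = ⊥ :=
    Submodule.eq_bot_of_le_smul_of_le_jacobson_bot (maximalIdeal O) _ (IsNoetherian.noetherian _)
      (by rwa [smul_eq_mul, ← pow_two]) (maximalIdeal_le_jacobson _)
  rw [hbot, Submodule.spanFinrank_bot] at h3
  omega

/-- two lifts extend to a regular system of parameters by elements of the kernel -/
theorem exists_params {T : Type u} [CommRing T] [IsLocalRing T] [IsNoetherianRing T] {A : Type u} [CommRing A]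
    [IsLocalRing A] [IsNoetherianRing A] (π : T →+* A) (hπ : Function.Surjective π) (x : Fin 2 → A)
    (hxs : maximalIdeal A = Ideal.span {x 0, x 1}) (he : (maximalIdeal A).spanFinrank = 2) (X : Fin 2 → T)
    (hX : ∀ i, π (X i) = x i) :
    ∃ (d : ℕ) (g : Fin d → T), (∀ i, π (g i) = 0) ∧ Ideal.span (Set.range (Fin.append X g)) = maximalIdeal T ∧
      (maximalIdeal T).spanFinrank = 2 + d := by
  haveI : IsLocalHom π := IsLocalHom.of_surjective _ hπ
  have hmap : (maximalIdeal T).map π = maximalIdeal A := IsLocalRing.map_maximalIdeal_of_surjective π hπ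
  have hXm : ∀ i, X i ∈ maximalIdeal T := fun i => by
    rw [mem_maximalIdeal]
    intro hu
    refine (mem_maximalIdeal _).1 (?_ : x i ∈ maximalIdeal A) (hX i ▸ hu.map π)
    rw [hxs]
    fin_cases i <;> exact Ideal.subset_span (by simp)
  set J := RingHom.ker π with hJ
  have hJm : J ≤ maximalIdeal T := le_maximalIdeal (RingHom.ker_ne_top π)
  -- elements of the kernel completing the two lifts to a regular system of parameters
  let cl : maximalIdeal T → CotangentSpace T := (maximalIdeal T).toCotangent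
  let V : Submodule (ResidueField T) (CotangentSpace T) :=
    { carrier := cl '' {z | (z : T) ∈ J}
      add_mem' := by
        rintro _ _ ⟨z, hz, rfl⟩ ⟨w, hw, rfl⟩
        exact ⟨z + w, J.add_mem hz hw, map_add _ z w⟩
      zero_mem' := ⟨0, zero_mem J, map_zero _⟩
      smul_mem' := by
        rintro c _ ⟨z, hz, rfl⟩
        obtain ⟨t, rfl⟩ := residue_surjective c
        exact ⟨t • z, J.mul_mem_left t hz, by
          rw [show residue T t = algebraMap T (ResidueField T) t from rfl, algebraMap_smul]
          exact map_smul _ t z⟩ }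
  let d := Module.finrank (ResidueField T) V
  let bV := Module.finBasis (ResidueField T) V
  choose gm hgJ hgv using fun i : Fin d => (bV i).2
  let g : Fin d → T := fun i => (gm i : T)
  let w : Fin (2 + d) → T := Fin.append X g
  have hwsum : ∀ c : Fin (2 + d) → T, ∑ i, c i * w i =
      (c (Fin.castAdd d 0) * X 0 + c (Fin.castAdd d 1) * X 1) + ∑ i, c (Fin.natAdd 2 i) * g i := fun c => by
    rw [Fin.sum_univ_add, Fin.sum_univ_two]
    simp [w]
  have hcl : ∀ (c : Fin d → T) (h : ∑ i, c i * g i ∈ maximalIdeal T),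
      cl ⟨∑ i, c i * g i, h⟩ = ∑ i, residue T (c i) • (bV i : CotangentSpace T) := fun c h => by
    rw [show (⟨∑ i, c i * g i, h⟩ : maximalIdeal T) = ∑ i, c i • gm i from Subtype.ext (by simp [g])]
    show (maximalIdeal T).toCotangent (∑ i, c i • gm i) = _
    rw [map_sum]
    refine Finset.sum_congr rfl fun i _ => ?_
    rw [show residue T (c i) = algebraMap T (ResidueField T) (c i) from rfl, algebraMap_smul, map_smul]
    exact congrArg (c i • ·) (hgv i)
  have hw : Ideal.span (Set.range w) = maximalIdeal T := by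
    refine le_antisymm (Ideal.span_le.2 ?_) ?_
    · rintro _ ⟨i, rfl⟩
      induction i using Fin.addCases with
      | left i => simpa [w] using hXm i
      | right i => rw [show w (Fin.natAdd 2 i) = g i from Fin.append_right _ _ i]; exact (gm i).2
    refine Submodule.le_of_le_smul_of_le_jacobson_bot (IsNoetherian.noetherian _) (maximalIdeal_le_jacobson _)
      fun z hz => ?_
    obtain ⟨p, r, hpr⟩ := Ideal.mem_span_pair.1 (hxs ▸ hmap ▸ Ideal.mem_map_of_mem π hz : π z ∈ Ideal.span {x 0, x 1})
    obtain ⟨p, rfl⟩ := hπ p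
    obtain ⟨r, rfl⟩ := hπ r
    have hj : z - (p * X 0 + r * X 1) ∈ J := by
      rw [RingHom.mem_ker, map_sub, ← hpr, map_add, map_mul, map_mul, hX, hX]; exact sub_self _
    have hjV : cl ⟨_, hJm hj⟩ ∈ V := ⟨⟨_, hJm hj⟩, hj, rfl⟩
    choose c hc using fun i => residue_surjective (bV.repr ⟨_, hjV⟩ i)
    have hg' : ∑ i, c i * g i ∈ maximalIdeal T := Ideal.sum_mem _ fun i _ => Ideal.mul_mem_left _ _ (gm i).2
    have hdiff : z - (p * X 0 + r * X 1) - ∑ i, c i * g i ∈ maximalIdeal T ^ 2 := by
      have e : cl ⟨_, hJm hj⟩ = cl ⟨_, hg'⟩ := by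
        rw [hcl c hg', Finset.sum_congr rfl fun i _ => by rw [hc i]]
        have h5 := congrArg V.subtype (bV.sum_repr ⟨_, hjV⟩)
        rw [map_sum] at h5
        simp only [map_smul] at h5
        exact h5.symm
      exact (Ideal.toCotangent_eq _).1 e
    have hmem : p * X 0 + r * X 1 + ∑ i, c i * g i ∈ Ideal.span (Set.range w) := by
      refine add_mem (add_mem (Ideal.mul_mem_left _ _ ?_) (Ideal.mul_mem_left _ _ ?_))
        (Ideal.sum_mem _ fun i _ => Ideal.mul_mem_left _ _ ?_)
      · exact Ideal.subset_span ⟨Fin.castAdd d 0, by simp [w]⟩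
      · exact Ideal.subset_span ⟨Fin.castAdd d 1, by simp [w]⟩
      · exact Ideal.subset_span ⟨Fin.natAdd 2 i, by simp [w]⟩
    have : z = (p * X 0 + r * X 1 + ∑ i, c i * g i) + (z - (p * X 0 + r * X 1) - ∑ i, c i * g i) := by ring
    rw [this, smul_eq_mul, ← pow_two]
    exact Submodule.add_mem_sup hmem hdiff
  have hgJ' : ∀ i, π (g i) = 0 := fun i => hgJ i
  have hindep : ∀ c : Fin (2 + d) → T, ∑ i, c i * w i ∈ maximalIdeal T ^ 2 → ∀ i, c i ∈ maximalIdeal T := by
    intro c hc
    rw [hwsum] at hc
    have h1 : π (c (Fin.castAdd d 0)) * x 0 + π (c (Fin.castAdd d 1)) * x 1 ∈ maximalIdeal A ^ 2 := by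
      have := Ideal.mem_map_of_mem π hc
      rw [Ideal.map_pow, hmap] at this
      simp only [map_add, map_mul, map_sum, hgJ', hX, mul_zero, Finset.sum_const_zero, add_zero] at this
      exact this
    obtain ⟨h0, h1⟩ := coeff_pair hxs he h1
    have hloc : ∀ t, π t ∈ maximalIdeal A → t ∈ maximalIdeal T := fun t ht =>
      (mem_maximalIdeal _).2 fun hu => (mem_maximalIdeal _).1 ht (hu.map π)
    have hab : c (Fin.castAdd d 0) * X 0 + c (Fin.castAdd d 1) * X 1 ∈ maximalIdeal T ^ 2 := by
      rw [pow_two]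
      exact add_mem (Ideal.mul_mem_mul (hloc _ h0) (hXm 0)) (Ideal.mul_mem_mul (hloc _ h1) (hXm 1))
    have hg2 : ∑ i, c (Fin.natAdd 2 i) * g i ∈ maximalIdeal T ^ 2 := by
      have := sub_mem hc hab
      rwa [add_sub_cancel_left] at this
    have hz : cl ⟨_, Ideal.pow_le_self two_ne_zero hg2⟩ = 0 := (Ideal.toCotangent_eq_zero _ _).2 hg2
    rw [hcl] at hz
    have hz' : ∑ i, residue T (c (Fin.natAdd 2 i)) • bV i = 0 := Subtype.ext (by simpa using hz)
    intro i
    induction i using Fin.addCases with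
    | left i => fin_cases i; exacts [hloc _ h0, hloc _ h1]
    | right i =>
      rw [← residue_eq_zero_iff]
      exact Fintype.linearIndependent_iff.1 bV.linearIndependent _ hz' i
  have hN : (maximalIdeal T).spanFinrank = 2 + d := by
    refine le_antisymm ?_ ?_
    · rw [← hw]
      exact (Submodule.spanFinrank_span_le_ncard_of_finite (Set.finite_range w)).trans
        ((Finite.card_range_le w).trans (le_of_eq (Nat.card_fin _)))
    · rw [IsLocalRing.spanFinrank_maximalIdeal_eq_finrank_cotangentSpace_of_fg (IsNoetherian.noetherian _)]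
      have hwm : ∀ i, w i ∈ maximalIdeal T := fun i => hw ▸ Ideal.subset_span ⟨i, rfl⟩
      have hli : LinearIndependent (ResidueField T) (fun i => cl ⟨w i, hwm i⟩) := by
        rw [Fintype.linearIndependent_iff]
        intro c hc
        choose c' hc' using fun i => residue_surjective (c i)
        intro i
        rw [← hc' i, residue_eq_zero_iff]
        refine hindep c' ?_ i
        have hy : ∑ i, c' i * w i ∈ maximalIdeal T := Ideal.sum_mem _ fun i _ => Ideal.mul_mem_left _ _ (hwm i)
        refine ((maximalIdeal T).toCotangent_eq_zero ⟨_, hy⟩).1 ?_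
        rw [← hc, show (⟨_, hy⟩ : maximalIdeal T) = ∑ i, c' i • ⟨w i, hwm i⟩ from Subtype.ext (by simp), map_sum]
        refine Finset.sum_congr rfl fun i _ => ?_
        rw [← hc' i, show residue T (c' i) = algebraMap T (ResidueField T) (c' i) from rfl, algebraMap_smul, map_smul]
      simpa using hli.fintype_card_le_finrank
  exact ⟨d, g, hgJ', hw, hN⟩

/-- differentials of a regular system of parameters form a basis -/
theorem exists_basis_D {T : Type u} [CommRing T] [IsLocalRing T] [IsNoetherianRing T] [Algebra k T]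
    [Algebra.IsSeparable k (ResidueField T)] [Module.Free T Ω[T⁄k]] [Module.Finite T Ω[T⁄k]] {N : ℕ}
    (w : Fin N → T) (hw : Ideal.span (Set.range w) = maximalIdeal T) (hN : (maximalIdeal T).spanFinrank = N) :
    ∃ bT : Module.Basis (Fin N) T Ω[T⁄k], ∀ i, bT i = KaehlerDifferential.D k T (w i) := by
  have hliT := linearIndependent_D (k := k) w hw hN
  have hspT : Submodule.span (ResidueField T)
      (Set.range fun i => (1 : ResidueField T) ⊗ₜ[T] KaehlerDifferential.D k T (w i)) = ⊤ := by
    refine eq_top_iff.2 fun z _ => ?_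
    induction z using TensorProduct.induction_on with
    | zero => exact zero_mem _
    | add u v hu hv => exact add_mem (hu trivial) (hv trivial)
    | tmul s v =>
      have hv : v ∈ Submodule.span T (Set.range fun i => KaehlerDifferential.D k T (w i)) :=
        (span_D (k := k) w hw).ge trivial
      clear ‹s ⊗ₜ[T] v ∈ (⊤ : Submodule _ _)›
      induction hv using Submodule.span_induction with
      | mem y hy =>
        obtain ⟨i, rfl⟩ := hy
        rw [show s ⊗ₜ[T] KaehlerDifferential.D k T (w i) =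
          s • ((1 : ResidueField T) ⊗ₜ[T] KaehlerDifferential.D k T (w i)) by
            rw [TensorProduct.smul_tmul', smul_eq_mul, mul_one]]
        exact Submodule.smul_mem _ _ (Submodule.subset_span ⟨i, rfl⟩)
      | zero => rw [TensorProduct.tmul_zero]; exact zero_mem _
      | add y z _ _ h1 h2 => rw [TensorProduct.tmul_add]; exact add_mem h1 h2
      | smul t y _ h1 =>
        rw [TensorProduct.tmul_smul, ← algebraMap_smul (ResidueField T) t]
        exact Submodule.smul_mem _ _ h1
  haveI : Module.FinitePresentation T Ω[T⁄k] := Module.finitePresentation_of_projective T _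
  obtain ⟨bT, hbT⟩ := Module.exists_basis_of_basis_baseChange (fun i => KaehlerDifferential.D k T (w i))
    hliT hspT (Module.Flat.rTensor_preserves_injective_linearMap (maximalIdeal T).subtype Subtype.val_injective)
  exact ⟨bT, hbT⟩

/-- **complete intersection with maximal Fitting ideal ⇒ quadratic** -/
theorem isQuadLocal_of_fitt (hd : ringKrullDim O = 1) (hci : Synt.IsCIOver k O)
    (hF : Fitt.ideal O Ω[O⁄k] 1 = maximalIdeal O) : IsQuadLocal O := by
  have he := spanFinrank_eq_two hd hF
  obtain ⟨x₀, hx₀⟩ := exists_minimal_generators O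
  let x : Fin 2 → O := fun i => x₀ (Fin.cast he.symm i)
  have hx : Ideal.span (Set.range x) = maximalIdeal O := by
    rw [← hx₀]
    congr 1
    exact (finCongr he.symm).surjective.range_comp x₀
  have hxs : maximalIdeal O = Ideal.span {x 0, x 1} := by
    rw [← hx]; congr 1
    ext z
    constructor
    · rintro ⟨i, rfl⟩; fin_cases i <;> simp
    · rintro (rfl | rfl) <;> exact Set.mem_range_self _
  obtain ⟨T, _, _, _, _, _, hπ, hTfin, hTfree, hTΩ⟩ := exists_pres k O
  haveI := hTfin
  haveI := hTfree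
  haveI := hTΩ
  let π := algebraMap T O
  haveI : IsLocalHom π := IsLocalHom.of_surjective _ hπ
  have hmap : (maximalIdeal T).map π = maximalIdeal O := IsLocalRing.map_maximalIdeal_of_surjective π hπ
  -- the residue field of the presentation is separable
  haveI : Algebra.IsSeparable k (ResidueField T) := by
    let r : ResidueField T →ₐ[k] ResidueField O :=
      { toRingHom := IsLocalRing.ResidueField.map π
        commutes' := fun t => by
          show IsLocalRing.ResidueField.map π (residue T (algebraMap k T t)) = residue O (algebraMap k O t)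
          rw [IsLocalRing.ResidueField.map_residue]
          exact congrArg _ (IsScalarTower.algebraMap_apply k T O t).symm }
    exact Algebra.IsSeparable.of_algHom k _ r
  choose X hX using fun i => hπ (x i)
  have hXm : ∀ i, X i ∈ maximalIdeal T := fun i => by
    rw [mem_maximalIdeal]
    intro hu
    exact (mem_maximalIdeal _).1 (hx ▸ Ideal.subset_span ⟨i, rfl⟩ : x i ∈ maximalIdeal O) (hX i ▸ hu.map π)
  set J := RingHom.ker π with hJ
  have hJm : J ≤ maximalIdeal T := le_maximalIdeal (RingHom.ker_ne_top π)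
  obtain ⟨d, g, hgJ', hw, hN⟩ := exists_params π hπ x hxs he X hX
  set w := Fin.append X g with hwdef
  have hgJ : ∀ i, g i ∈ J := hgJ'
  -- the regular surface
  let Ig := Ideal.span (Set.range g)
  have hIgJ : Ig ≤ J := Ideal.span_le.2 (by rintro _ ⟨i, rfl⟩; exact hgJ i)
  haveI : Nontrivial (T ⧸ Ig) := Ideal.Quotient.nontrivial_iff.2 (ne_top_of_le_ne_top (RingHom.ker_ne_top π) hIgJ)
  let q := Ideal.Quotient.mk Ig
  haveI : IsLocalRing (T ⧸ Ig) := IsLocalRing.of_surjective' q Ideal.Quotient.mk_surjective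
  have hmR : maximalIdeal (T ⧸ Ig) = Ideal.span {q (X 0), q (X 1)} := by
    refine (IsLocalRing.map_maximalIdeal_of_surjective q Ideal.Quotient.mk_surjective).symm.trans ?_
    rw [← hw, Ideal.map_span]
    refine le_antisymm (Ideal.span_le.2 ?_) (Ideal.span_le.2 ?_)
    · rintro _ ⟨_, ⟨i, rfl⟩, rfl⟩
      induction i using Fin.addCases with
      | left i => fin_cases i <;> (refine Ideal.subset_span ?_; simp [w])
      | right i =>
        have : q (g i) = 0 := Ideal.Quotient.eq_zero_iff_mem.2 (Ideal.subset_span ⟨i, rfl⟩)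
        simp [w, this]
    · rintro _ (rfl | rfl)
      · exact Ideal.subset_span ⟨_, ⟨Fin.castAdd d 0, rfl⟩, by simp [w]⟩
      · exact Ideal.subset_span ⟨_, ⟨Fin.castAdd d 1, rfl⟩, by simp [w]⟩
  have hle2 : (maximalIdeal (T ⧸ Ig)).spanFinrank ≤ 2 := by
    rw [hmR]
    refine (Submodule.spanFinrank_span_le_ncard_of_finite (Set.toFinite _)).trans ?_
    exact (Set.ncard_insert_le _ _).trans (by simp)
  have hdimR : (2 : WithBot ℕ∞) ≤ ringKrullDim (T ⧸ Ig) := by
    have h1 := ringKrullDim_le_ringKrullDim_quotient_add_spanFinrank Ig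
      ((le_maximalIdeal (ne_top_of_le_ne_top (RingHom.ker_ne_top π) hIgJ)).trans (by
        rw [← Ideal.jacobson_bot]; exact maximalIdeal_le_jacobson _))
    rw [← IsRegularLocalRing.spanFinrank_maximalIdeal (R := T), hN] at h1
    have h2 : Ig.spanFinrank ≤ d := (Submodule.spanFinrank_span_le_ncard_of_finite (Set.finite_range g)).trans
        ((Finite.card_range_le g).trans (le_of_eq (Nat.card_fin _)))
    have h3 : ((2 + d : ℕ) : WithBot ℕ∞) ≤ ringKrullDim (T ⧸ Ig) + (d : ℕ) :=
      h1.trans (add_le_add_right (by exact_mod_cast h2) _)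
    revert h3
    induction ringKrullDim (T ⧸ Ig) using WithBot.recBotCoe with
    | bot => intro h; simp at h
    | coe m =>
      intro h
      induction m using ENat.recTopCoe with
      | top => exact WithBot.coe_le_coe.2 le_top
      | coe m =>
        have h' : (2 + d : ℕ) ≤ m + d := Nat.cast_le.1 (WithBot.coe_le_coe.1 h : ((2 + d : ℕ) : ℕ∞) ≤ ((m + d : ℕ) : ℕ∞))
        have h'' : (2 : ℕ) ≤ m := by omega
        exact WithBot.coe_le_coe.2 (by exact_mod_cast h'')
  haveI : IsRegularLocalRing (T ⧸ Ig) :=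
    IsRegularLocalRing.of_spanFinrank_maximalIdeal_le _ (le_trans (by exact_mod_cast hle2) hdimR)
  have heR : (maximalIdeal (T ⧸ Ig)).spanFinrank = 2 := le_antisymm hle2 (by
    have := hdimR
    rw [← IsRegularLocalRing.spanFinrank_maximalIdeal] at this
    exact_mod_cast this)
  let ρ : (T ⧸ Ig) →ₐ[k] O := Ideal.Quotient.liftₐ Ig (IsScalarTower.toAlgHom k T O) (fun a ha => hIgJ ha)
  have hρ : Function.Surjective ρ := fun o => by
    obtain ⟨t, rfl⟩ := hπ o
    exact ⟨q t, rfl⟩
  obtain ⟨rs, hreg, hker⟩ := (SyntLib.isCIOver_iff_forall O).1 hci (T ⧸ Ig) inferInstance ρ hρ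
  have hlen : rs.length = 1 := by
    have hne : Ideal.ofList rs ≠ ⊤ := hker ▸ RingHom.ker_ne_top _
    have hl := CotT.dim_of_isWeaklyRegular rs hne hreg.toIsWeaklyRegular
    rw [ringKrullDim_eq_of_ringEquiv ((Ideal.quotEquivOfEq hker.symm).trans
      (RingHom.quotientKerEquivOfSurjective hρ)), hd, ← IsRegularLocalRing.spanFinrank_maximalIdeal, heR] at hl
    have : ((rs.length + 1 : ℕ) : WithBot ℕ∞) = ((2 : ℕ) : WithBot ℕ∞) := by exact_mod_cast hl
    exact Nat.succ_injective (by exact_mod_cast this)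
  obtain ⟨h₀, rfl⟩ := List.length_eq_one_iff.1 hlen
  rw [Ideal.ofList_singleton] at hker
  have hρh : ρ h₀ = 0 := by
    exact RingHom.mem_ker.1 (hker ▸ Ideal.subset_span rfl : h₀ ∈ RingHom.ker ρ.toRingHom)
  have hρloc : IsLocalHom ρ.toRingHom := IsLocalHom.of_surjective _ hρ
  have hlocR : ∀ t, ρ t ∈ maximalIdeal O → t ∈ maximalIdeal (T ⧸ Ig) := fun t ht =>
    (mem_maximalIdeal _).2 fun hu => (mem_maximalIdeal _).1 ht (hu.map ρ)
  have hρX : ∀ i, ρ (q (X i)) = x i := hX
  obtain ⟨p, r, hpr⟩ := Ideal.mem_span_pair.1 (hmR ▸ hlocR h₀ (by rw [hρh]; exact zero_mem _) :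
    h₀ ∈ Ideal.span {q (X 0), q (X 1)})
  obtain ⟨hp, hr⟩ := coeff_pair hxs he (p := ρ p) (r := ρ r) (by
    rw [← hρX 0, ← hρX 1, ← map_mul, ← map_mul, ← map_add, hpr, hρh]; exact zero_mem _)
  obtain ⟨p1, p2, hp12⟩ := Ideal.mem_span_pair.1 (hmR ▸ hlocR p hp : p ∈ Ideal.span {q (X 0), q (X 1)})
  obtain ⟨r1, r2, hr12⟩ := Ideal.mem_span_pair.1 (hmR ▸ hlocR r hr : r ∈ Ideal.span {q (X 0), q (X 1)})
  obtain ⟨a, ha⟩ := Ideal.Quotient.mk_surjective p1
  obtain ⟨b, hb⟩ := Ideal.Quotient.mk_surjective (p2 + r1)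
  obtain ⟨c, hc⟩ := Ideal.Quotient.mk_surjective r2
  have hh₀ : h₀ = qf (q a) (q b) (q c) (q (X 0)) (q (X 1)) := by
    rw [ha, hb, hc, ← hpr, ← hp12, ← hr12]
    simp only [qf]
    ring
  set Q := qf a b c (X 0) (X 1) with hQ
  have hQq : q Q = h₀ := by rw [hh₀, hQ, map_qf]
  have hkerJ : ∀ i ∈ J, ∃ (t : T) (e : Fin d → T), i = ∑ j, e j * g j + t * Q := fun i hi => by
    have : q i ∈ RingHom.ker ρ.toRingHom := (RingHom.mem_ker.1 hi : π i = 0)
    rw [hker, ← hQq] at this
    obtain ⟨t', ht'⟩ := Ideal.mem_span_singleton'.1 this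
    obtain ⟨t, rfl⟩ := Ideal.Quotient.mk_surjective t'
    rw [← map_mul] at ht'
    obtain ⟨e, he'⟩ := Ideal.mem_span_range_iff_exists_fun.1 (Ideal.Quotient.eq.1 ht'.symm)
    exact ⟨t, e, by rw [he']; ring⟩
  -- the differentials of the parameters form a basis
  obtain ⟨bT, hbT⟩ := exists_basis_D (k := k) w hw hN
  let bO := bT.baseChange O
  let e : Fin 2 → Fin (2 + d) := Fin.castAdd d
  have hbw : ∀ i, (1 : O) ⊗ₜ[T] KaehlerDifferential.D k T (w i) = bO i := fun i => by
    rw [Module.Basis.baseChange_apply, ← hbT]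
  have hXd : ∀ i, (1 : O) ⊗ₜ[T] KaehlerDifferential.D k T (X i) = bO (e i) := fun i => by
    rw [← hbw]; simp [w, e]
  have hgd : ∀ j, (1 : O) ⊗ₜ[T] KaehlerDifferential.D k T (g j) = bO (Fin.natAdd 2 j) := fun j => by
    rw [← hbw]; simp [w]
  let coord : T → Fin 2 → O := fun t i => bO.repr ((1 : O) ⊗ₜ[T] KaehlerDifferential.D k T t) (e i)
  have hcadd : ∀ u v i, coord (u + v) i = coord u i + coord v i := fun u v i => by
    simp only [coord]
    rw [map_add, TensorProduct.tmul_add, map_add, Finsupp.add_apply]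
  have hcmul : ∀ u v i, coord (u * v) i = π u * coord v i + π v * coord u i := fun u v i => by
    simp only [coord]
    rw [Derivation.leibniz, TensorProduct.tmul_add, TensorProduct.tmul_smul, TensorProduct.tmul_smul,
      ← algebraMap_smul O u, ← algebraMap_smul O v, map_add, map_smul, map_smul, Finsupp.add_apply,
      Finsupp.smul_apply, Finsupp.smul_apply, smul_eq_mul, smul_eq_mul]
  have hcX : ∀ j i, coord (X j) i = if j = i then 1 else 0 := fun j i => by
    simp only [coord]
    rw [hXd, Module.Basis.repr_self, Finsupp.single_apply]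
    simp [e]
  have hcg : ∀ j i, coord (g j) i = 0 := fun j i => by
    simp only [coord]
    rw [hgd, Module.Basis.repr_self, Finsupp.single_apply, if_neg]
    intro h
    have := congrArg Fin.val h; simp [e] at this; omega
  set A := coord Q
  set α := π a
  set β := π b
  set γ := π c
  set P : Fin 2 → O := ![2 * α * x 0 + β * x 1, β * x 0 + 2 * γ * x 1] with hP
  have hπX : ∀ i, π (X i) = x i := hX
  have hAP : ∀ i, A i - P i ∈ maximalIdeal O ^ 2 := by
    have hxm : ∀ i, x i ∈ maximalIdeal O := fun i => hx ▸ Ideal.subset_span ⟨i, rfl⟩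
    intro i
    have hexp : A i - P i = x 0 * x 0 * coord a i + x 0 * x 1 * coord b i + x 1 * x 1 * coord c i := by
      show coord Q i - P i = _
      simp only [hQ, qf, pow_two, hcadd, hcmul, hcX, map_mul, hπX, hP, α, β, γ]
      fin_cases i <;> simp <;> ring
    have hm2 : ∀ u v z : O, u ∈ maximalIdeal O → v ∈ maximalIdeal O → u * v * z ∈ maximalIdeal O ^ 2 :=
      fun u v z hu hv => Ideal.mul_mem_right _ _ (pow_two (maximalIdeal O) ▸ Ideal.mul_mem_mul hu hv)
    rw [hexp]
    exact add_mem (add_mem (hm2 _ _ _ (hxm 0) (hxm 0)) (hm2 _ _ _ (hxm 0) (hxm 1))) (hm2 _ _ _ (hxm 1) (hxm 1))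
  have hspO := span_D (k := k) x hx
  have hrel : ∀ z, z ∈ FittLib.rel O (fun i => KaehlerDifferential.D k O (x i)) → ∃ t : O, ∀ i, z i = t * A i := by
    intro z hz
    rw [FittLib.mem_rel] at hz
    obtain ⟨cc, hcc⟩ := (KaehlerDifferential.exact_kerCotangentToTensor_mapBaseChange k T O hπ
      (∑ i, z i • bO (e i))).1 (by
        rw [map_sum, ← hz]
        refine Finset.sum_congr rfl fun i _ => ?_
        rw [map_smul, ← hXd, KaehlerDifferential.mapBaseChange_tmul, one_smul, KaehlerDifferential.map_D, hX])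
    obtain ⟨⟨i₀, hi₀⟩, rfl⟩ := Ideal.toCotangent_surjective _ cc
    rw [KaehlerDifferential.kerCotangentToTensor_toCotangent] at hcc
    obtain ⟨t, ec, hi⟩ := hkerJ i₀ hi₀
    refine ⟨π t, fun i => ?_⟩
    have hQ0 : π Q = 0 := by
      have : ρ (q Q) = 0 := by rw [hQq]; exact hρh
      exact this
    have hc0 : coord i₀ i = π t * A i := by
      have hsum : ∀ (s : Finset (Fin d)), coord (∑ j ∈ s, ec j * g j) i = 0 := fun s => by
        induction s using Finset.induction with
        | empty =>
          simp only [coord, Finset.sum_empty]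
          rw [map_zero, TensorProduct.tmul_zero, map_zero, Finsupp.zero_apply]
        | insert a s ha ih =>
          rw [Finset.sum_insert ha, hcadd, hcmul, hcg, hgJ', ih]
          ring
      rw [hi, hcadd, hsum, hcmul, hQ0]
      show 0 + (π t * coord Q i + 0 * coord t i) = _
      ring
    have := congrArg (fun v => bO.repr v (e i)) hcc
    simp only at this
    rw [show bO.repr ((1 : O) ⊗ₜ[T] KaehlerDifferential.D k T i₀) (e i) = coord i₀ i from rfl, hc0, map_sum] at this
    simp only [map_smul, Finsupp.finsetSum_apply, Finsupp.smul_apply, Module.Basis.repr_self, Finsupp.single_apply,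
      smul_eq_mul, mul_ite, mul_one, mul_zero] at this
    simp [e] at this
    exact this.symm
  have hFA : maximalIdeal O ≤ Ideal.span {P 0, P 1} ⊔ maximalIdeal O ^ 2 := by
    refine hF.ge.trans ?_
    rw [FittLib.ideal_eq_minors_fin _ hspO]
    refine FittLib.minors_le fun z ee hz => ?_
    obtain ⟨t, ht⟩ := hrel _ (hz 0)
    have hAmem : ∀ i, A i ∈ Ideal.span {P 0, P 1} ⊔ maximalIdeal O ^ 2 := fun i => by
      rw [show A i = P i + (A i - P i) by ring]
      refine Submodule.add_mem_sup (Ideal.subset_span ?_) (hAP i)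
      fin_cases i <;> simp
    rw [show FittLib.minor z ee = z 0 (ee 0) from Matrix.det_fin_one _, ht]
    exact Ideal.mul_mem_left _ _ (hAmem _)
  -- the discriminant is a unit
  have hcoef : ∀ v ∈ maximalIdeal O, ∃ p r : O, v - (p * P 0 + r * P 1) ∈ maximalIdeal O ^ 2 := fun v hv => by
    obtain ⟨u, hu, m, hm, rfl⟩ := Submodule.mem_sup.1 (hFA hv)
    obtain ⟨p, r, rfl⟩ := Ideal.mem_span_pair.1 hu
    exact ⟨p, r, by rwa [add_sub_cancel_left]⟩
  obtain ⟨p₁, r₁, h₁⟩ := hcoef (x 0) (hx ▸ Ideal.subset_span ⟨0, rfl⟩)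
  obtain ⟨p₂, r₂, h₂⟩ := hcoef (x 1) (hx ▸ Ideal.subset_span ⟨1, rfl⟩)
  obtain ⟨e11, e12⟩ := coeff_pair hxs he (p := 1 - (2 * p₁ * α + r₁ * β)) (r := -(p₁ * β + 2 * r₁ * γ)) (by
    convert! h₁ using 1
    simp only [hP, Matrix.cons_val_zero, Matrix.cons_val_one]; ring)
  obtain ⟨e21, e22⟩ := coeff_pair hxs he (p := -(2 * p₂ * α + r₂ * β)) (r := 1 - (p₂ * β + 2 * r₂ * γ)) (by
    convert! h₂ using 1
    simp only [hP, Matrix.cons_val_zero, Matrix.cons_val_one]; ring)
  simp only [← residue_eq_zero_iff, map_sub, map_neg, map_add, map_mul, map_one, map_ofNat, neg_eq_zero] at e11 e12 e21 e22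
  have hdisc : IsUnit (disc α β γ) := by
    rw [← not_not (a := IsUnit (disc α β γ)), ← mem_nonunits_iff, ← mem_maximalIdeal, ← residue_eq_zero_iff]
    simp only [disc, map_sub, map_mul, map_pow, map_ofNat]
    intro h0
    set s := residue O
    have : (1 : ResidueField O) = 0 := by
      linear_combination e11 + e22 * (2 * s p₁ * s α + s r₁ * s β) + e12 * (2 * s p₂ * s α + s r₂ * s β) -
        (s p₁ * s r₂ - s p₂ * s r₁) * h0
    exact one_ne_zero this
  refine isQuadLocal_of_quot ρ.toRingHom hρ hmR heR (a := q a) (b := q b) (c := q c) ?_ ?_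
  · rw [← not_not (a := IsUnit _), ← mem_nonunits_iff, ← mem_maximalIdeal]
    intro hm
    have : ρ (disc (q a) (q b) (q c)) ∈ maximalIdeal O := by
      rw [← IsLocalRing.map_maximalIdeal_of_surjective ρ.toRingHom hρ]
      exact Ideal.mem_map_of_mem ρ.toRingHom hm
    refine (mem_maximalIdeal _).1 this ?_
    simpa [disc, map_ofNat, α, β, γ, ρ, q, π] using hdisc
  · rw [hker, hh₀]

end Groth.Agent.NodeFib
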