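import Groth.Agent.NodeFib.Chart
import Groth.Agent.FittLib.Basic
import Mathlib.RingTheory.Support

/-!
At a bad point of a hypersurface with unramified singular scheme the Hessian of the equation is invertible.
-/

set_option autoImplicit false
set_option linter.style.haveILetI false
set_option backward.isDefEq.respectTransparency false
set_option backward.isDefEq.respectTransparency.types false

universe u

open KaehlerDifferential

namespace Groth.Agent.NodeFib

/-- derivations descend along surjections -/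
theorem exists_der {R T B : Type u} [CommRing R] [CommRing T] [Algebra R T] [CommRing B] [Algebra R B]
    (π : T →ₐ[R] B) (hπ : Function.Surjective π) {M : Type u} [AddCommGroup M] [Module R M] [Module B M]
    [IsScalarTower R B M] (δ : T →ₗ[R] M) (hl : ∀ x y, δ (x * y) = π x • δ y + π y • δ x)
    (hk : ∀ t, π t = 0 → δ t = 0) :
    ∃ D : Derivation R B M, ∀ t, D (π t) = δ t := by
  choose s hs using hπ
  have key : ∀ t, δ (s (π t)) = δ t := fun t => by
    have h1 := hk (s (π t) - t) (by rw [map_sub, hs, sub_self])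
    rwa [map_sub, sub_eq_zero] at h1
  let L : B →ₗ[R] M :=
    { toFun := fun b => δ (s b)
      map_add' := fun x y => by
        have h1 := key (s x + s y)
        rw [map_add π, hs, hs, map_add δ] at h1
        exact h1
      map_smul' := fun r x => by
        have h1 := key (r • s x)
        rw [map_smul π, hs, map_smul δ] at h1
        exact h1 }
  refine ⟨Derivation.mk' L fun x y => ?_, key⟩
  have h1 := key (s x * s y)
  rw [map_mul π, hs, hs, hl, hs, hs] at h1
  exact h1

variable {R T : Type u} [CommRing R] [CommRing T] [Algebra R T] {z : Fin 2 → T}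

/-- **the Hessian criterion** -/
theorem hessian_at_node (h : IsChart R z) (G : T) (q : Ideal (T ⧸ Ideal.span {G})) [q.IsPrime]
    (hF : Fitt.ideal (T ⧸ Ideal.span {G}) Ω[(T ⧸ Ideal.span {G})⁄R] 1 ≤ q)
    (hU : (⟨q, inferInstance⟩ : PrimeSpectrum (T ⧸ Ideal.span {G})) ∉ Module.support (T ⧸ Ideal.span {G})
      Ω[((T ⧸ Ideal.span {G}) ⧸ Fitt.ideal (T ⧸ Ideal.span {G}) Ω[(T ⧸ Ideal.span {G})⁄R] 1)⁄R]) :
    (∀ i, Ideal.Quotient.mk (Ideal.span {G}) (h.pd i G) ∈ q) ∧
      Ideal.Quotient.mk (Ideal.span {G}) (Matrix.of fun i j => h.pd i (h.pd j G)).det ∉ q := by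
  classical
  let B := T ⧸ Ideal.span {G}
  let π : T →ₐ[R] B := Ideal.Quotient.mkₐ R (Ideal.span {G})
  have hπ : Function.Surjective π := Ideal.Quotient.mk_surjective
  have hπG : π G = 0 := Ideal.Quotient.eq_zero_iff_mem.2 (Ideal.subset_span rfl)
  let y : Fin 2 → Ω[B⁄R] := fun i => D R B (π (z i))
  letI : Algebra T B := π.toRingHom.toAlgebra
  haveI : IsScalarTower R T B := IsScalarTower.of_algebraMap_eq fun r => (π.commutes r).symm
  have hmap : ∀ t, map R R T B (D R T t) = D R B (π t) := fun t => map_D R R T B t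
  have hsp : Submodule.span B (Set.range y) = ⊤ := by
    rw [eq_top_iff, ← span_range_derivation R B, Submodule.span_le]
    rintro _ ⟨b, rfl⟩
    obtain ⟨t, rfl⟩ := hπ b
    rw [SetLike.mem_coe, ← hmap, h.D_eq, map_sum]
    refine Submodule.sum_mem _ fun i _ => ?_
    rw [map_smul, ← algebraMap_smul B (h.pd i t), hmap]
    exact Submodule.smul_mem _ _ (Submodule.subset_span ⟨i, rfl⟩)
  let J := Fitt.ideal B Ω[B⁄R] 1
  have hJ : J = FittLib.minors B y 1 := FittLib.ideal_eq_minors_fin y hsp 1
  -- the partial derivatives lie in the Fitting ideal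
  have hrel : (fun i => π (h.pd i G)) ∈ FittLib.rel B y := by
    rw [FittLib.mem_rel]
    have h1 := congrArg (map R R T B) (h.D_eq G)
    rw [map_sum, hmap, hπG, map_zero] at h1
    refine Eq.trans (Finset.sum_congr rfl fun i _ => ?_) h1.symm
    rw [map_smul, ← algebraMap_smul B (h.pd i G), hmap]
    rfl
  have hGJ : ∀ i, π (h.pd i G) ∈ J := fun i => by
    have h1 := FittLib.minor_mem_minors (fun _ : Fin 1 => hrel) (fun _ => i)
    rwa [show FittLib.minor (fun _ : Fin 1 => fun i => π (h.pd i G)) (fun _ => i) = π (h.pd i G) from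
      Matrix.det_fin_one _, ← hJ] at h1
  refine ⟨fun i => hF (hGJ i), ?_⟩
  -- conversely
  let K : Ideal B := Ideal.span (Set.range fun i => π (h.pd i G))
  have hJK : J ≤ K := by
    haveI : IsScalarTower R B (Fin 2 → B ⧸ K) := ⟨fun r x v => funext fun i => smul_assoc r x (v i)⟩
    obtain ⟨D', hD'⟩ := exists_der π hπ (M := Fin 2 → B ⧸ K)
      { toFun := fun t i => Ideal.Quotient.mk K (π (h.pd i t))
        map_add' := fun a b => funext fun i => by simp
        map_smul' := fun r a => funext fun i => by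
          show Ideal.Quotient.mkₐ R K (π (h.pd i (r • a))) = r • Ideal.Quotient.mkₐ R K (π (h.pd i a))
          rw [Derivation.map_smul, map_smul, map_smul] }
      (fun a b => funext fun i => by
        show Ideal.Quotient.mk K (π (h.pd i (a * b))) = Ideal.Quotient.mk K (π a) * Ideal.Quotient.mk K (π (h.pd i b)) +
          Ideal.Quotient.mk K (π b) * Ideal.Quotient.mk K (π (h.pd i a))
        rw [Derivation.leibniz, smul_eq_mul, smul_eq_mul, map_add, map_mul, map_mul, map_add, map_mul, map_mul])
      (fun t ht => funext fun i => by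
        obtain ⟨a, rfl⟩ := Ideal.mem_span_singleton'.1 (Ideal.Quotient.eq_zero_iff_mem.1 ht)
        show Ideal.Quotient.mk K (π (h.pd i (a * G))) = 0
        rw [Derivation.leibniz, smul_eq_mul, smul_eq_mul, map_add, map_mul, map_mul, hπG, zero_mul, add_zero,
          Ideal.Quotient.eq_zero_iff_mem]
        exact Ideal.mul_mem_left _ _ (Ideal.subset_span ⟨i, rfl⟩))
    rw [hJ]
    refine FittLib.minors_le fun w e hw => ?_
    rw [show FittLib.minor w e = w 0 (e 0) from Matrix.det_fin_one _]
    have h1 := congrArg D'.liftKaehlerDifferential (FittLib.mem_rel.1 (hw 0))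
    rw [map_sum, map_zero] at h1
    have h2 := congrFun h1 (e 0)
    rw [Finset.sum_apply, Finset.sum_eq_single (e 0)] at h2
    · rw [map_smul, Derivation.liftKaehlerDifferential_comp_D, hD', Pi.smul_apply, Pi.zero_apply] at h2
      change w 0 (e 0) • Ideal.Quotient.mk K (π (h.pd (e 0) (z (e 0)))) = 0 at h2
      rw [h.pd_z, if_pos rfl, map_one, map_one] at h2
      rw [← Ideal.Quotient.eq_zero_iff_mem]
      rw [← mul_one (Ideal.Quotient.mk K (w 0 (e 0)))]; exact h2
    · intro i _ hi
      rw [map_smul, Derivation.liftKaehlerDifferential_comp_D, hD', Pi.smul_apply]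
      change w 0 i • Ideal.Quotient.mk K (π (h.pd (e 0) (z i))) = 0
      rw [h.pd_z, if_neg (Ne.symm hi), map_zero, map_zero, smul_zero]
    · exact fun hne => absurd (Finset.mem_univ _) hne
  intro hdet
  let κ := q.ResidueField
  let r : T →+* κ := (algebraMap B κ).comp π.toRingHom
  let col : Fin 2 → (Fin 2 → κ) := fun j i => r (h.pd i (h.pd j G))
  let S := Submodule.span κ (Set.range col)
  let ρ : (B ⧸ J) →+* κ := Ideal.Quotient.lift J (algebraMap B κ) fun b hb =>
    RingHom.mem_ker.1 ((Ideal.ker_algebraMap_residueField q).ge (hF hb))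
  letI : Algebra (B ⧸ J) κ := ρ.toAlgebra
  haveI : IsScalarTower R (B ⧸ J) κ := IsScalarTower.of_algebraMap_eq fun a => by
    show algebraMap R κ a = algebraMap B κ (algebraMap R B a)
    exact IsScalarTower.algebraMap_apply R B κ a
  let M := (Fin 2 → κ) ⧸ S
  haveI : IsScalarTower R (B ⧸ J) M := ⟨fun a x v => by
    obtain ⟨v, rfl⟩ := Submodule.Quotient.mk_surjective S v
    rw [← Submodule.Quotient.mk_smul, ← Submodule.Quotient.mk_smul, ← Submodule.Quotient.mk_smul]
    congr 1
    funext i
    exact smul_assoc a x (v i)⟩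
  have hr0 : ∀ t, π t ∈ J → r t = 0 := fun t ht =>
    RingHom.mem_ker.1 ((Ideal.ker_algebraMap_residueField q).ge (hF ht))
  let δ : T →ₗ[R] M :=
    { toFun := fun t => S.mkQ fun i => r (h.pd i t)
      map_add' := fun a b => by rw [← map_add]; congr 1; funext i; simp
      map_smul' := fun a t => by
        rw [RingHom.id_apply, ← algebraMap_smul κ a (S.mkQ _), ← map_smul]
        congr 1; funext i
        show (IsScalarTower.toAlgHom R B κ) (π (h.pd i (a • t))) =
          algebraMap R κ a • (IsScalarTower.toAlgHom R B κ) (π (h.pd i t))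
        rw [Derivation.map_smul, map_smul, map_smul, algebraMap_smul] }
  have hδ : ∀ a b : T, δ (a * b) = r a • δ b + r b • δ a := fun a b => by
    show S.mkQ _ = r a • S.mkQ _ + r b • S.mkQ _
    rw [← map_smul, ← map_smul, ← map_add]
    congr 1; funext i
    show r (h.pd i (a * b)) = r a * r (h.pd i b) + r b * r (h.pd i a)
    rw [Derivation.leibniz, smul_eq_mul, smul_eq_mul, map_add, map_mul, map_mul]
  obtain ⟨D', hD'⟩ := exists_der ((Ideal.Quotient.mkₐ R J).comp π) (Ideal.Quotient.mk_surjective.comp hπ)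
    (M := M) δ hδ (fun t ht => by
      have h1 : π t ∈ K := hJK (Ideal.Quotient.eq_zero_iff_mem.1 ht)
      obtain ⟨a, ha⟩ := Ideal.mem_span_range_iff_exists_fun.1 h1
      choose a' ha' using fun j => hπ (a j)
      have h2 : π (t - ∑ j, a' j * h.pd j G) = 0 := by
        rw [map_sub, map_sum, ← ha, sub_eq_zero]
        exact Finset.sum_congr rfl fun j _ => by rw [map_mul, ha']
      obtain ⟨c, hc⟩ := Ideal.mem_span_singleton'.1 (Ideal.Quotient.eq_zero_iff_mem.1 h2)
      have hG0 : r G = 0 := hr0 G (hπG.symm ▸ zero_mem J)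
      have hδG : δ G = 0 := by
        show S.mkQ _ = 0
        rw [show (fun i => r (h.pd i G)) = 0 from funext fun i => hr0 _ (hGJ i), map_zero]
      have hδj : ∀ j, δ (h.pd j G) = 0 := fun j =>
        (Submodule.Quotient.mk_eq_zero S).2 (Submodule.subset_span ⟨j, rfl⟩)
      rw [show t = c * G + ∑ j, a' j * h.pd j G by rw [hc]; ring, map_add, map_sum, hδ, hδG, hG0, smul_zero,
        zero_smul, add_zero, zero_add]
      refine Finset.sum_eq_zero fun j _ => ?_
      rw [hδ, hδj, hr0 _ (hGJ j), smul_zero, zero_smul, add_zero])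
  have hS : S = ⊤ := by
    rw [eq_top_iff, ← (Pi.basisFun κ (Fin 2)).span_eq, Submodule.span_le]
    rintro _ ⟨i, rfl⟩
    obtain ⟨s, hs, hsm⟩ := Module.notMem_support_iff'.1 hU (D R (B ⧸ J) ((Ideal.Quotient.mkₐ R J).comp π (z i)))
    have h1 := congrArg D'.liftKaehlerDifferential hsm
    rw [← algebraMap_smul (B ⧸ J) s, map_smul, map_zero, Derivation.liftKaehlerDifferential_comp_D, hD',
      ← algebraMap_smul κ (algebraMap B (B ⧸ J) s) (δ (z i))] at h1
    have hu : ρ (Ideal.Quotient.mk J s) ≠ 0 := fun h0 =>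
      hs ((Ideal.ker_algebraMap_residueField q).le (RingHom.mem_ker.2 h0))
    have h2 : δ (z i) = 0 := (smul_eq_zero.1 h1).resolve_left hu
    rw [Pi.basisFun_apply, SetLike.mem_coe, ← Submodule.Quotient.mk_eq_zero]
    refine Eq.trans (congrArg S.mkQ (funext fun j => ?_)) h2
    show (Pi.single i 1 : Fin 2 → κ) j = r (h.pd j (z i))
    rw [h.pd_z]
    rcases eq_or_ne i j with rfl | hij
    · simp
    · simp [hij, hij.symm]
  have hli : LinearIndependent κ col := linearIndependent_of_top_le_span_of_card_eq_finrank hS.ge (by simp)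
  have hu := (Matrix.isUnit_iff_isUnit_det _).1
    ((Matrix.linearIndependent_cols_iff_isUnit (A := Matrix.of fun i j => r (h.pd i (h.pd j G)))).1 hli)
  refine hu.ne_zero ?_
  rw [show (Matrix.of fun i j => r (h.pd i (h.pd j G))) =
    r.mapMatrix (Matrix.of fun i j => h.pd i (h.pd j G)) from rfl, ← RingHom.map_det]
  exact RingHom.mem_ker.1 ((Ideal.ker_algebraMap_residueField q).ge hdet)

end Groth.Agent.NodeFib
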