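import Groth.Agent.NodeFib.Open
import Groth.Agent.SyntLib.Rel
import Groth.Agent.SyntLib.Fibre
import Groth.Agent.SyntLib.Field
import Groth.Agent.S9366
import Groth.Prelude.Def_StrictSS

/-!
The model curves `A[T]` and `A[u, v]/(uv - a)` are good at every point.
-/

set_option autoImplicit false
set_option linter.style.haveILetI false
set_option backward.isDefEq.respectTransparency false
set_option backward.isDefEq.respectTransparency.types false

universe u

open CategoryTheory CategoryTheory.Limits AlgebraicGeometry TensorProduct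

namespace Groth.Agent.NodeFib

variable {A : Type u} [CommRing A]

/-- the differentials of a quotient of a polynomial ring -/
theorem span_D_mk {n : ℕ} (I : Ideal (MvPolynomial (Fin n) A)) :
    Submodule.span (MvPolynomial (Fin n) A ⧸ I) (Set.range fun i =>
      KaehlerDifferential.D A (MvPolynomial (Fin n) A ⧸ I) (Ideal.Quotient.mk I (MvPolynomial.X i))) = ⊤ := by
  rw [eq_top_iff, ← KaehlerDifferential.span_range_derivation, Submodule.span_le]
  rintro _ ⟨z, rfl⟩
  obtain ⟨p, rfl⟩ := Ideal.Quotient.mk_surjective z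
  induction p using MvPolynomial.induction_on with
  | C a =>
    rw [show Ideal.Quotient.mk I (MvPolynomial.C a) = algebraMap A _ a from rfl, Derivation.map_algebraMap]
    exact zero_mem _
  | add p q hp hq => rw [map_add, map_add]; exact add_mem hp hq
  | mul_X p i hp =>
    rw [map_mul, Derivation.leibniz]
    exact add_mem (Submodule.smul_mem _ _ (Submodule.subset_span ⟨i, rfl⟩)) (Submodule.smul_mem _ _ hp)

/-- relative complete intersection curves with unramified singular scheme are good -/
theorem good_of_relGCI {n c : ℕ} (F : Fin c → MvPolynomial (Fin n) A) (hF : Synt.IsRelGCI A n c F)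
    (hnc : n - c = 1)
    (hu : Algebra.FormallyUnramified A (Synt.RelGCIRing A n c F ⧸
      Fitt.ideal (Synt.RelGCIRing A n c F) Ω[Synt.RelGCIRing A n c F⁄A] 1))
    (x : Spec (CommRingCat.of (Synt.RelGCIRing A n c F))) :
    Good (relMor A (Synt.RelGCIRing A n c F)) x := by
  let N := Synt.RelGCIRing A n c F
  haveI : Algebra.FinitePresentation A N := (SyntLib.isSyntomic_relGCI hF).2.1
  obtain ⟨Q, hQ⟩ := exists_prime_fibre (x : PrimeSpectrum N) (PrimeSpectrum.comap (algebraMap A N) x) rfl
  refine (good_affine_iff (x : PrimeSpectrum N) _ Q hQ).2 ⟨?_, ?_, ?_⟩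
  · have h := S9366.result A n c F hF x
    rw [hnc] at h
    simpa using h
  · haveI : (x : PrimeSpectrum N).asIdeal.LiesOver (PrimeSpectrum.comap (algebraMap A N) x).asIdeal := ⟨rfl⟩
    obtain ⟨_, _, _, _, hci⟩ := (S9169.result A N (PrimeSpectrum.comap (algebraMap A N) x).asIdeal
      (x : PrimeSpectrum N).asIdeal Q.asIdeal hQ).2.1
        ⟨1, fun h1 => (x : PrimeSpectrum N).isPrime.ne_top ((Ideal.eq_top_iff_one _).2 h1),
          SyntLib.isSyntomic_of_algEquiv ((IsLocalization.atUnits N (Submonoid.powers (1 : N))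
            (S := Localization.Away (1 : N)) (by simp)).restrictScalars _) (SyntLib.isSyntomic_relGCI hF)⟩
    exact hci
  · rw [Algebra.formallyUnramified_iff, ← Module.support_eq_empty_iff (R := N)] at hu
    rw [hu]
    exact Set.notMem_empty _

theorem good_lineToBase (x : Spec (CommRingCat.of (Polynomial A))) :
    Good (StrictSS.lineToBase A) x := by
  let F : Fin 0 → MvPolynomial (Fin 1) A := fun i => i.elim0
  have hI : Ideal.span (Set.range F) = ⊥ := by simp [Set.range_eq_empty F]
  have hF : Synt.IsRelGCI A 1 0 F := fun p _ => by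
    refine ⟨zero_le_one, ?_⟩
    have hk := SyntLib.ker_fibrePres_span p.asIdeal.ResidueField F
    rw [show Ideal.span (Set.range fun i => SyntLib.red p.asIdeal.ResidueField 1 (F i)) = ⊥ by
      rw [Set.range_eq_empty, Ideal.span_empty]] at hk
    let e := RingEquiv.ofBijective (SyntLib.fibrePres p.asIdeal.ResidueField (Ideal.span (Set.range F))).toRingHom
      ⟨(RingHom.injective_iff_ker_eq_bot _).2 hk, SyntLib.fibrePres_surjective p.asIdeal.ResidueField _⟩
    exact (ringKrullDim_eq_of_ringEquiv e).symm.trans (SyntLib.dim_poly (k := p.asIdeal.ResidueField) 1)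
  let e : Polynomial A ≃ₐ[A] Synt.RelGCIRing A 1 0 F :=
    ((MvPolynomial.uniqueAlgEquiv A (Fin 1)).symm.trans (AlgEquiv.quotientBot A (MvPolynomial (Fin 1) A)).symm).trans
      (Ideal.quotientEquivAlgOfEq A hI.symm)
  let φ : Spec (CommRingCat.of (Polynomial A)) ⟶ Spec (CommRingCat.of (Synt.RelGCIRing A 1 0 F)) :=
    Spec.map (CommRingCat.ofHom e.symm.toRingEquiv.toRingHom)
  haveI : IsIso φ := by
    haveI : IsIso (CommRingCat.ofHom e.symm.toRingEquiv.toRingHom) :=
      inferInstanceAs (IsIso e.symm.toRingEquiv.toCommRingCatIso.hom)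
    infer_instance
  have hφ : φ ≫ relMor A (Synt.RelGCIRing A 1 0 F) = StrictSS.lineToBase A := by
    rw [← Spec.map_comp, ← CommRingCat.ofHom_comp]
    exact congrArg (fun h => Spec.map (CommRingCat.ofHom h)) (RingHom.ext fun a => e.symm.commutes a)
  rw [← hφ]
  haveI : Algebra.FinitePresentation A (Synt.RelGCIRing A 1 0 F) := (SyntLib.isSyntomic_relGCI hF).2.1
  rw [good_etale_comp]
  refine good_of_relGCI F hF rfl ?_ _
  rw [FittLib.ideal_eq_top_of_generators _ (span_D_mk (Ideal.span (Set.range F))) (k := 1) (by simp)]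
  haveI : Subsingleton (Synt.RelGCIRing A 1 0 F ⧸ (⊤ : Ideal (Synt.RelGCIRing A 1 0 F))) :=
    Ideal.Quotient.subsingleton_iff.2 rfl
  exact ⟨inferInstance⟩

theorem good_nodeToBase (a : A) (x : Spec (CommRingCat.of (StrictSS.NodeAlg A a))) :
    Good (StrictSS.nodeToBase A a) x := by
  let f : MvPolynomial (Fin 2) A := MvPolynomial.X 0 * MvPolynomial.X 1 - MvPolynomial.C a
  let F : Fin 1 → MvPolynomial (Fin 2) A := fun _ => f
  have hI : Ideal.span (Set.range F) = Ideal.span {f} := by rw [Set.range_const]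
  have hF : Synt.IsRelGCI A 2 1 F := fun p hp => by
    refine ⟨one_le_two, ?_⟩
    let κ := p.asIdeal.ResidueField
    let g : MvPolynomial (Fin 2) κ := SyntLib.red κ 2 f
    have hk := SyntLib.ker_fibrePres_span κ F
    rw [show Ideal.span (Set.range fun i => SyntLib.red κ 2 (F i)) = Ideal.span {g} from
      congrArg Ideal.span (Set.range_const (c := g))] at hk
    let e : (MvPolynomial (Fin 2) κ ⧸ Ideal.span {g}) ≃+* p.asIdeal.Fiber (Synt.RelGCIRing A 2 1 F) :=
      (Ideal.quotEquivOfEq hk.symm).trans (RingHom.quotientKerEquivOfSurjective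
        (SyntLib.fibrePres_surjective κ (Ideal.span (Set.range F))))
    haveI : Nontrivial (MvPolynomial (Fin 2) κ ⧸ Ideal.span {g}) := e.toEquiv.nontrivial
    have hg : g ≠ 0 := fun h0 => by
      have := congrArg (MvPolynomial.eval ![1, algebraMap A κ a + 1]) h0
      simp [g, f, SyntLib.red] at this
    rw [← ringKrullDim_eq_of_ringEquiv e]
    refine le_antisymm ?_ ?_
    · have h1 := ringKrullDim_quotient_succ_le_of_nonZeroDivisor (mem_nonZeroDivisors_of_ne_zero hg)
      rw [SyntLib.dim_poly] at h1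
      obtain ⟨d, hd⟩ : ∃ d : ℕ, ringKrullDim (MvPolynomial (Fin 2) κ ⧸ Ideal.span {g}) = d := by
        obtain ⟨P, hP⟩ := Ideal.nonempty_minimalPrimes (show Ideal.span {g} ≠ ⊤ from
          Ideal.Quotient.nontrivial_iff.1 ‹_›)
        haveI := hP.1.1
        revert h1
        generalize hD : ringKrullDim (MvPolynomial (Fin 2) κ ⧸ Ideal.span {g}) = D
        intro h1
        have h0 : (0 : WithBot ℕ∞) ≤ D := hD ▸ ringKrullDim_nonneg_of_nontrivial
        induction D using WithBot.recBotCoe with
        | bot => simp at h0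
        | coe m =>
          induction m using ENat.recTopCoe with
          | top => exact absurd (WithBot.coe_le_coe.1 h1 : (⊤ : ℕ∞) + 1 ≤ (2 : ℕ)) (by simp)
          | coe m => exact ⟨m, rfl⟩
      rw [hd] at h1 ⊢
      have h2 : d + 1 ≤ 2 := by exact_mod_cast h1
      exact_mod_cast (show d ≤ 2 - 1 by omega)
    · obtain ⟨P, hP⟩ := Ideal.nonempty_minimalPrimes (show Ideal.span {g} ≠ ⊤ from
        Ideal.Quotient.nontrivial_iff.1 ‹_›)
      haveI := hP.1.1
      obtain ⟨i, j, hi, hj, hij⟩ := SyntLib.height_add_dim_poly P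
      have hh : P.height ≤ (1 : ℕ) := SyntLib.height_le_of_minimal (fun _ : Fin 1 => g) (by rwa [Set.range_const])
      rw [hi] at hh
      have hi1 : i ≤ 1 := by exact_mod_cast hh
      refine le_trans (show ((2 - 1 : ℕ) : WithBot ℕ∞) ≤ ringKrullDim (MvPolynomial (Fin 2) κ ⧸ P) from ?_)
        (ringKrullDim_le_of_surjective (Ideal.Quotient.factor hP.1.2) (Ideal.Quotient.factor_surjective hP.1.2))
      rw [hj]
      exact_mod_cast (show 2 - 1 ≤ j by omega)
  let e : StrictSS.NodeAlg A a ≃ₐ[A] Synt.RelGCIRing A 2 1 F := Ideal.quotientEquivAlgOfEq A hI.symm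
  let φ : Spec (CommRingCat.of (StrictSS.NodeAlg A a)) ⟶ Spec (CommRingCat.of (Synt.RelGCIRing A 2 1 F)) :=
    Spec.map (CommRingCat.ofHom e.symm.toRingEquiv.toRingHom)
  haveI : IsIso φ := by
    haveI : IsIso (CommRingCat.ofHom e.symm.toRingEquiv.toRingHom) :=
      inferInstanceAs (IsIso e.symm.toRingEquiv.toCommRingCatIso.hom)
    infer_instance
  have hφ : φ ≫ relMor A (Synt.RelGCIRing A 2 1 F) = StrictSS.nodeToBase A a := by
    rw [← Spec.map_comp, ← CommRingCat.ofHom_comp]
    exact congrArg (fun h => Spec.map (CommRingCat.ofHom h)) (RingHom.ext fun r => e.symm.commutes r)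
  rw [← hφ]
  haveI : Algebra.FinitePresentation A (Synt.RelGCIRing A 2 1 F) := (SyntLib.isSyntomic_relGCI hF).2.1
  rw [good_etale_comp]
  refine good_of_relGCI F hF rfl ?_ _
  -- the singular scheme lies in the zero section
  let N := Synt.RelGCIRing A 2 1 F
  let mk := Ideal.Quotient.mk (Ideal.span (Set.range F))
  let J := Fitt.ideal N Ω[N⁄A] 1
  have hsp := span_D_mk (Ideal.span (Set.range F))
  have hrel : (![mk (MvPolynomial.X 1), mk (MvPolynomial.X 0)] : Fin 2 → N) ∈
      FittLib.rel N (fun i => KaehlerDifferential.D A N (mk (MvPolynomial.X i))) := by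
    rw [FittLib.mem_rel, Fin.sum_univ_two]
    have h0 : mk (MvPolynomial.X 0) * mk (MvPolynomial.X 1) = algebraMap A N a := by
      rw [← map_mul]
      exact Ideal.Quotient.eq.2 (Ideal.subset_span ⟨0, rfl⟩)
    have h1 := congrArg (KaehlerDifferential.D A N) h0
    rw [Derivation.leibniz, Derivation.map_algebraMap, add_comm] at h1
    simpa using h1
  have hX : ∀ i, mk (MvPolynomial.X i) ∈ J := fun i => by
    have h1 := FittLib.minor_mem_minors (fun _ : Fin 1 => hrel) (fun _ => (1 - i : Fin 2))
    rw [show FittLib.minor (fun _ : Fin 1 => (![mk (MvPolynomial.X 1), mk (MvPolynomial.X 0)] : Fin 2 → N))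
      (fun _ => (1 - i : Fin 2)) = (![mk (MvPolynomial.X 1), mk (MvPolynomial.X 0)] : Fin 2 → N) (1 - i) from
        Matrix.det_fin_one _] at h1
    rw [show J = FittLib.minors N _ 1 from FittLib.ideal_eq_minors_fin _ hsp (k := 1)]
    fin_cases i <;> simpa using h1
  have hsurj : Function.Surjective (algebraMap A (N ⧸ J)) := fun z => by
    obtain ⟨z, rfl⟩ := Ideal.Quotient.mk_surjective z
    obtain ⟨p, rfl⟩ := Ideal.Quotient.mk_surjective z
    induction p using MvPolynomial.induction_on with
    | C b => exact ⟨b, rfl⟩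
    | add p q hp hq =>
      obtain ⟨⟨b, hb⟩, c, hc⟩ := And.intro hp hq
      exact ⟨b + c, by rw [map_add, map_add, map_add, hb, hc]⟩
    | mul_X p i hp =>
      refine ⟨0, ?_⟩
      rw [map_zero, map_mul, map_mul, Ideal.Quotient.eq_zero_iff_mem.2 (hX i), mul_zero]
  exact Algebra.FormallyUnramified.of_surjective (Algebra.ofId A (N ⧸ J)) hsurj

end Groth.Agent.NodeFib
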