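import Groth.Agent.NodeFib.Open

/-!
Nodes of the fibres of a morphism.
-/

set_option autoImplicit false
set_option linter.style.haveILetI false
set_option backward.isDefEq.respectTransparency false
set_option backward.isDefEq.respectTransparency.types false

universe u

open CategoryTheory CategoryTheory.Limits AlgebraicGeometry TensorProduct

namespace Groth.Agent.NodeFib

/-- `x` is a node of its fibre -/
def Node {X S : Scheme.{u}} (f : X ⟶ S) (x : X) : Prop :=
  @Curv2.IsNode (S.residueField (f x)) _ (f.fiber (f x)) ⟨f.fiberToSpecResidueField (f x)⟩ (f.asFiber x)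

/-- nodes along an extension of the base field, for any cartesian square -/
theorem isNode_of_isPullback {K L : Type u} [Field K] [Field L] {P P' : Scheme.{u}}
    (q : P ⟶ Spec (CommRingCat.of K)) [LocallyOfFiniteType q]
    (h : Spec (CommRingCat.of L) ⟶ Spec (CommRingCat.of K))
    (e : P' ⟶ P) (q' : P' ⟶ Spec (CommRingCat.of L)) (sq : IsPullback e q' q h) (p' : P') :
    @Curv2.IsNode L _ P' ⟨q'⟩ p' ↔ @Curv2.IsNode K _ P ⟨q⟩ (e p') := by
  obtain ⟨φ, rfl⟩ := Spec.map_surjective h
  letI : Algebra K L := φ.hom.toAlgebra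
  letI : P.Over (Spec (CommRingCat.of K)) := ⟨q⟩
  haveI : LocallyOfFiniteType (P ↘ Spec (CommRingCat.of K)) := inferInstanceAs (LocallyOfFiniteType q)
  haveI : LocallyOfFiniteType (Curv2.bcSnd K P L) :=
    inferInstanceAs (LocallyOfFiniteType (pullback.snd q (Spec.map φ)))
  let i : P' ≅ Curv2.bc K P L := sq.isoPullback
  have hi : i.hom ≫ Curv2.bcSnd K P L = q' := sq.isoPullback_hom_snd
  have hif : Curv2.bcFst K P L (i.hom p') = e p' := by
    rw [← Scheme.Hom.comp_apply]
    exact congr($(sq.isoPullback_hom_fst) p')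
  rw [← hif, isNode_bc K P L (i.hom p'), isNode_etale (K := L) (Curv2.bcSnd K P L) i.hom p', hi]

variable {X S : Scheme.{u}}

theorem node_iff_fiber (f : X ⟶ S) (s : S) (p : f.fiber s) :
    Node f (f.fiberι s p) ↔ @Curv2.IsNode (S.residueField s) _ (f.fiber s) ⟨f.fiberToSpecResidueField s⟩ p := by
  obtain ⟨x, hx⟩ : ∃ x, f.fiberι s p = x := ⟨_, rfl⟩
  have hs : f x = s := by
    rw [← hx]
    have : f.fiberι s p ∈ Set.range (f.fiberι s) := ⟨p, rfl⟩
    rwa [f.range_fiberι] at this
  rw [hx]
  subst hs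
  obtain rfl : p = f.asFiber x := (f.fiberι _).isEmbedding.injective (hx.trans (f.fiberι_asFiber x).symm)
  exact Iff.rfl

theorem node_baseChange {X' S' : Scheme.{u}} (f : X ⟶ S) [LocallyOfFinitePresentation f] (g : S' ⟶ S)
    (g' : X' ⟶ X) (f' : X' ⟶ S') (sq : IsPullback g' f' f g) (x' : X') : Node f' x' ↔ Node f (g' x') := by
  have H := ConsEngine.isPullback_fiberBC sq (f' x')
  have e : g' x' = f.fiberι (g (f' x')) (ConsEngine.fiberBC sq (f' x') (f'.asFiber x')) := by
    have h0 := congr($(ConsEngine.fiberBC_fiberι sq (f' x')) (f'.asFiber x'))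
    exact (h0.trans (congrArg g' (f'.fiberι_asFiber x'))).symm
  rw [e, node_iff_fiber]
  exact isNode_of_isPullback (K := S.residueField (g (f' x'))) (L := S'.residueField (f' x'))
    (f.fiberToSpecResidueField (g (f' x'))) _ _ _ H (f'.asFiber x')

theorem node_etale_comp {W : Scheme.{u}} (e : W ⟶ X) [Etale e] (f : X ⟶ S) [LocallyOfFinitePresentation f] (w : W) :
    Node (e ≫ f) w ↔ Node f (e w) := by
  let s := (e ≫ f) w
  have sq := FibCrit.isPullback_fiberMap e f s
  haveI : Etale (MoreMor.fiberMap e f s) := MorphismProperty.of_isPullback sq ‹_›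
  have hq : MoreMor.fiberMap e f s ≫ f.fiberToSpecResidueField s = (e ≫ f).fiberToSpecResidueField s :=
    pullback.lift_snd _ _ _
  have hp : MoreMor.fiberMap e f s ((e ≫ f).asFiber w) = f.asFiber (e w) := by
    refine (f.fiberι s).isEmbedding.injective ?_
    refine Eq.trans ?_ (f.fiberι_asFiber (e w)).symm
    rw [← Scheme.Hom.comp_apply, ← sq.w, Scheme.Hom.comp_apply, (e ≫ f).fiberι_asFiber]
  have h2 := isNode_etale (K := S.residueField s) (f.fiberToSpecResidueField s) (MoreMor.fiberMap e f s)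
    ((e ≫ f).asFiber w)
  rw [hq, hp] at h2
  exact h2.symm

theorem node_comp_etale {Z : Scheme.{u}} (f : X ⟶ S) [LocallyOfFinitePresentation f] (g : S ⟶ Z) [Etale g] (x : X) :
    Node (f ≫ g) x ↔ Node f x := by
  let Γ : X ⟶ pullback (f ≫ g) g := pullback.lift (𝟙 X) f (Category.id_comp _)
  have : MorphismProperty.HasOfPostcompProperty @IsOpenImmersion @Etale :=
    MorphismProperty.hasOfPostcompProperty_iff_le_diagonal.2 fun _ _ h (hh : Etale h) =>
      (inferInstance : IsOpenImmersion (pullback.diagonal h))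
  have : IsOpenImmersion Γ := MorphismProperty.of_postcomp (W := @IsOpenImmersion) (W' := @Etale) Γ
    (pullback.fst (f ≫ g) g) (MorphismProperty.pullback_fst _ _ ‹_›) (by rw [pullback.lift_fst]; infer_instance)
  have h1 := node_baseChange (f ≫ g) g (pullback.fst (f ≫ g) g) (pullback.snd (f ≫ g) g)
    (IsPullback.of_hasPullback _ _) (Γ x)
  have h2 := node_etale_comp Γ (pullback.snd (f ≫ g) g) x
  rw [pullback.lift_snd] at h2
  rw [← Scheme.Hom.comp_apply, pullback.lift_fst] at h1
  exact h1.symm.trans h2.symm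

theorem node_field_iff {K : Type u} [Field K] {P : Scheme.{u}} (q : P ⟶ Spec (CommRingCat.of K))
    [LocallyOfFinitePresentation q] (x : P) : Node q x ↔ @Curv2.IsNode K _ P ⟨q⟩ x := by
  have h := isNode_of_isPullback (K := K) (L := (Spec (CommRingCat.of K)).residueField (q x)) q
    ((Spec (CommRingCat.of K)).fromSpecResidueField (q x)) (q.fiberι (q x)) (q.fiberToSpecResidueField (q x))
    (IsPullback.of_hasPullback _ _) (q.asFiber x)
  rwa [q.fiberι_asFiber] at h

section Field

variable {K F : Type u} [Field K] [CommRing F] [Algebra K F] [Algebra.FiniteType K F]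

theorem fitt_of_node_field (Q : PrimeSpectrum F)
    (h : @Curv2.IsNode K _ (Spec (CommRingCat.of F)) ⟨specMor K F⟩ Q) :
    Fitt.ideal F Ω[F⁄K] 1 ≤ Q.asIdeal ∧ ¬Fitt.ideal F Ω[F⁄K] 2 ≤ Q.asIdeal := by
  obtain ⟨hs, hquad⟩ := (isNode_spec_iff Q).1 h
  let O := Localization.AtPrime Q.asIdeal
  haveI : IsNoetherianRing F := Algebra.FiniteType.isNoetherianRing K F
  haveI : Algebra.EssFiniteType F O := Algebra.EssFiniteType.of_isLocalization _ Q.asIdeal.primeCompl
  haveI : Algebra.EssFiniteType K O := Algebra.EssFiniteType.comp K F _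
  haveI : Algebra.FormallyEtale F O := .of_isLocalization Q.asIdeal.primeCompl
  haveI : Algebra.IsSeparable K (IsLocalRing.ResidueField O) := hs
  have key : ∀ k, Fitt.ideal O Ω[O⁄K] k = (Fitt.ideal F Ω[F⁄K] k).map (algebraMap F O) := fun k => by
    rw [← FittLib.ideal_congr (KaehlerDifferential.tensorKaehlerEquivOfFormallyEtale K F O) k,
      FittLib.ideal_baseChange]
  have hmem : ∀ k, Fitt.ideal O Ω[O⁄K] k ≤ IsLocalRing.maximalIdeal O ↔ Fitt.ideal F Ω[F⁄K] k ≤ Q.asIdeal := fun k => by
    rw [key, Ideal.map_le_iff_le_comap]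
    show _ ≤ Ideal.under F (IsLocalRing.maximalIdeal O) ↔ _
    rw [IsLocalization.AtPrime.under_maximalIdeal O Q.asIdeal]
  refine ⟨(hmem 1).1 (fitt_of_isQuadLocal (k := K) hquad).le, fun h2 => ?_⟩
  have h3 := (hmem 2).2 h2
  have hfr : (IsLocalRing.maximalIdeal O).spanFinrank = 2 := by
    rw [IsLocalRing.spanFinrank_maximalIdeal_eq_finrank_cotangentSpace_of_fg (IsNoetherian.noetherian _),
      NodeChar.finrank_cotangent_of_isQuadLocal hquad]
  obtain ⟨x, hx⟩ := exists_minimal_generators O
  rw [FittLib.ideal_eq_top_of_generators _ (span_D (k := K) x hx) (by simp [hfr])] at h3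
  exact (IsLocalRing.maximalIdeal.isMaximal O).ne_top (top_le_iff.1 h3)

end Field

variable {R A : Type u} [CommRing R] [CommRing A] [Algebra R A] [Algebra.FinitePresentation R A]

/-- the Fitting ideals of the differentials at a node -/
theorem fitt_of_node (q : PrimeSpectrum A) (h : Node (relMor R A) q) :
    Fitt.ideal A Ω[A⁄R] 1 ≤ q.asIdeal ∧ ¬Fitt.ideal A Ω[A⁄R] 2 ≤ q.asIdeal := by
  let p := PrimeSpectrum.comap (algebraMap R A) q
  obtain ⟨Q, hQ⟩ := exists_prime_fibre q p rfl
  let κ := p.asIdeal.ResidueField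
  let F := κ ⊗[R] A
  have sq := (isPullback_SpecMap_of_isPushout _ _ _ _ (CommRingCat.isPushout_tensorProduct R κ A)).flip
  haveI : LocallyOfFinitePresentation (specMor κ F) :=
    (HasRingHomProperty.Spec_iff (P := @LocallyOfFinitePresentation)).mpr
      (RingHom.finitePresentation_algebraMap.mpr inferInstance)
  have hg := node_baseChange (relMor R A) (Spec.map (CommRingCat.ofHom (algebraMap R κ)))
    (Spec.map (CommRingCat.ofHom (Algebra.TensorProduct.includeRight : A →ₐ[R] F).toRingHom)) (specMor κ F) sq Q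
  have hq : Spec.map (CommRingCat.ofHom (Algebra.TensorProduct.includeRight : A →ₐ[R] F).toRingHom)
      (Q : Spec (CommRingCat.of F)) = q := PrimeSpectrum.ext hQ
  rw [hq] at hg
  have hn := hg.2 h
  rw [node_field_iff] at hn
  obtain ⟨h1, h2⟩ := fitt_of_node_field Q hn
  rw [FittLib.ideal_kaehler_baseChange, Ideal.map_le_iff_le_comap, hQ] at h1 h2
  exact ⟨h1, h2⟩

/-- transfer along étale algebras -/
theorem transfer_etale {B : Type u} [CommRing B] [Algebra R B] (φ : A →ₐ[R] B) (hφ : φ.toRingHom.Etale)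
    (q' : PrimeSpectrum B) :
    (Good (relMor R B) q' ↔ Good (relMor R A) (PrimeSpectrum.comap φ.toRingHom q')) ∧
      (Node (relMor R B) q' ↔ Node (relMor R A) (PrimeSpectrum.comap φ.toRingHom q')) := by
  let j : Spec (CommRingCat.of B) ⟶ Spec (CommRingCat.of A) := Spec.map (CommRingCat.ofHom φ.toRingHom)
  haveI : Etale j := (HasRingHomProperty.Spec_iff (P := @Etale)).mpr hφ
  have hj : j ≫ relMor R A = relMor R B := by
    rw [← Spec.map_comp, ← CommRingCat.ofHom_comp, AlgHom.toRingHom_eq_coe, AlgHom.comp_algebraMap]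
  rw [← hj]
  exact ⟨good_etale_comp j (relMor R A) q', node_etale_comp j (relMor R A) q'⟩

end Groth.Agent.NodeFib
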