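import Mathlib
import Groth.Prelude.Def_StrictSS

/-!
The model `C[u, v]/(uv - t)` is the base change of the universal model `ℤ[u, v, a]/(uv - a)` over `ℤ[a]`.
-/

set_option autoImplicit false
set_option linter.style.haveILetI false
set_option backward.isDefEq.respectTransparency false
set_option backward.isDefEq.respectTransparency.types false

universe u

open CategoryTheory CategoryTheory.Limits MvPolynomial

namespace Groth.Agent.NodeFib

/-- the integers in a universe -/
abbrev ZU : Type u := ULift.{u} ℤ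

/-- the universal node -/
abbrev UnivNode : Type u :=
  MvPolynomial (Fin 3) ZU.{u} ⧸ Ideal.span {(X 0 * X 1 - X 2 : MvPolynomial (Fin 3) ZU.{u})}

theorem ringHom_zu_ext {S : Type*} [Semiring S] (f g : ZU.{u} →+* S) : f = g := by
  refine RingHom.ext fun x => ?_
  have h := RingHom.ext_int (f.comp (ULift.ringEquiv.symm : ℤ ≃+* ZU.{u}).toRingHom)
    (g.comp (ULift.ringEquiv.symm : ℤ ≃+* ZU.{u}).toRingHom)
  exact RingHom.congr_fun h x.down

/-- the structure map of the universal node -/
noncomputable abbrev univBase : MvPolynomial (Fin 1) ZU.{u} →+* UnivNode.{u} :=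
  (Ideal.Quotient.mk _).comp (aeval (fun _ : Fin 1 => (X 2 : MvPolynomial (Fin 3) ZU.{u}))).toRingHom

variable {C : Type u} [CommRing C] (t : C)

/-- the classifying map of a parameter -/
noncomputable def toParam : MvPolynomial (Fin 1) ZU.{u} →+* C :=
  eval₂Hom ((Int.castRingHom C).comp (ULift.ringEquiv : ZU.{u} ≃+* ℤ).toRingHom) fun _ => t

theorem toParam_X (i : Fin 1) : toParam t (X i) = t := eval₂Hom_X' _ _ i

theorem pushout_rel : (Ideal.Quotient.mk (Ideal.span {(X 0 * X 1 - X 2 : MvPolynomial (Fin 3) ZU.{u})}) (X 0) : UnivNode.{u}) *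
    Ideal.Quotient.mk _ (X 1) = univBase (X 0) := by
  rw [RingHom.comp_apply, AlgHom.toRingHom_eq_coe, RingHom.coe_coe, aeval_X, ← map_mul]
  exact Ideal.Quotient.eq.2 (Ideal.subset_span rfl)

/-- the map from the universal node -/
noncomputable def nodeMap : UnivNode.{u} →+* StrictSS.NodeAlg C t :=
  Ideal.Quotient.lift _
    (eval₂Hom ((Int.castRingHom _).comp (ULift.ringEquiv : ZU.{u} ≃+* ℤ).toRingHom)
      ![Ideal.Quotient.mk _ (X 0), Ideal.Quotient.mk _ (X 1), algebraMap C (StrictSS.NodeAlg C t) t]) fun p hp => by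
    obtain ⟨q, rfl⟩ := Ideal.mem_span_singleton'.1 hp
    rw [map_mul, map_sub, map_mul, eval₂Hom_X', eval₂Hom_X', eval₂Hom_X']
    have h : (Ideal.Quotient.mk (Ideal.span {(X 0 * X 1 - MvPolynomial.C t : MvPolynomial (Fin 2) C)}) (X 0) :
        StrictSS.NodeAlg C t) * Ideal.Quotient.mk _ (X 1) = algebraMap C (StrictSS.NodeAlg C t) t := by
      rw [← map_mul]
      exact Ideal.Quotient.eq.2 (Ideal.subset_span rfl)
    show _ * (Ideal.Quotient.mk _ (X 0) * Ideal.Quotient.mk _ (X 1) - algebraMap C (StrictSS.NodeAlg C t) t) = 0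
    rw [h, sub_self, mul_zero]

theorem nodeMap_X (i : Fin 3) :
    nodeMap t (Ideal.Quotient.mk _ (X i)) =
      ![Ideal.Quotient.mk _ (X 0), Ideal.Quotient.mk _ (X 1), algebraMap C (StrictSS.NodeAlg C t) t] i :=
  eval₂Hom_X' _ _ i

theorem comm_node : (nodeMap t).comp univBase = (algebraMap C (StrictSS.NodeAlg C t)).comp (toParam t) := by
  refine MvPolynomial.ringHom_ext (fun n => ?_) fun i => ?_
  · exact RingHom.congr_fun (ringHom_zu_ext (((nodeMap t).comp univBase).comp MvPolynomial.C)
      (((algebraMap C (StrictSS.NodeAlg C t)).comp (toParam t)).comp MvPolynomial.C)) n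
  · show nodeMap t (Ideal.Quotient.mk _ (aeval _ (X i))) = algebraMap C _ (toParam t (X i))
    rw [toParam_X]
    rw [aeval_X, nodeMap_X]
    rfl

/-- **the node model is a base change of the universal node** -/
theorem isPushout_node :
    IsPushout (CommRingCat.ofHom (S := UnivNode.{u}) univBase.{u}) (CommRingCat.ofHom (toParam t))
      (CommRingCat.ofHom (R := UnivNode.{u}) (S := StrictSS.NodeAlg C t) (nodeMap t)) (CommRingCat.ofHom (algebraMap C (StrictSS.NodeAlg C t))) := by
  have w : CommRingCat.ofHom (S := UnivNode.{u}) univBase.{u} ≫ CommRingCat.ofHom (R := UnivNode.{u}) (S := StrictSS.NodeAlg C t) (nodeMap t) =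
      CommRingCat.ofHom (toParam t) ≫ CommRingCat.ofHom (algebraMap C (StrictSS.NodeAlg C t)) :=
    CommRingCat.hom_ext (comm_node t)
  let desc : ∀ s : PushoutCocone (CommRingCat.ofHom (S := UnivNode.{u}) univBase.{u}) (CommRingCat.ofHom (toParam t)),
      CommRingCat.of (StrictSS.NodeAlg C t) ⟶ s.pt := fun s =>
    CommRingCat.ofHom (Ideal.Quotient.lift _
      (eval₂Hom s.inr.hom ![s.inl.hom (Ideal.Quotient.mk _ (X 0)), s.inl.hom (Ideal.Quotient.mk _ (X 1))]) fun p hp => by
        obtain ⟨q, rfl⟩ := Ideal.mem_span_singleton'.1 hp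
        have h2 : s.inl.hom (univBase (X 0)) = s.inr.hom t := by
          have h := congrArg (fun f => f.hom (X 0)) s.condition
          simpa [toParam_X] using h
        rw [map_mul, map_sub, map_mul, eval₂Hom_X', eval₂Hom_X', eval₂Hom_C]
        show _ * (s.inl.hom _ * s.inl.hom _ - s.inr.hom t) = 0
        rw [← h2, ← map_mul, pushout_rel, sub_self, mul_zero])
  refine IsPushout.of_isColimit' ⟨w⟩ (PushoutCocone.IsColimit.mk _ desc ?_ ?_ ?_)
  · intro s
    ext1
    apply Ideal.Quotient.ringHom_ext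
    refine MvPolynomial.ringHom_ext (fun n => ?_) fun i => ?_
    · exact RingHom.congr_fun (ringHom_zu_ext
        ((((CommRingCat.ofHom (R := UnivNode.{u}) (S := StrictSS.NodeAlg C t) (nodeMap t) ≫ desc s).hom).comp (Ideal.Quotient.mk _)).comp MvPolynomial.C)
        ((s.inl.hom.comp (Ideal.Quotient.mk _)).comp MvPolynomial.C)) n
    · show (desc s).hom (nodeMap t (Ideal.Quotient.mk _ (X i))) = _
      rw [nodeMap_X]
      fin_cases i
      · show eval₂Hom _ _ (X 0) = _
        rw [eval₂Hom_X']
        rfl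
      · show eval₂Hom _ _ (X 1) = _
        rw [eval₂Hom_X']
        rfl
      · show eval₂Hom s.inr.hom _ (MvPolynomial.C t) = s.inl.hom (Ideal.Quotient.mk _ (X 2))
        rw [eval₂Hom_C]
        have h := congrArg (fun f => f.hom (X 0)) s.condition
        simpa [toParam_X, univBase] using h.symm
  · intro s
    ext b
    show eval₂Hom _ _ (MvPolynomial.C b) = _
    rw [eval₂Hom_C]
  · intro s m hm₁ hm₂
    ext1
    apply Ideal.Quotient.ringHom_ext
    refine MvPolynomial.ringHom_ext (fun b => ?_) fun i => ?_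
    · have h := congrArg (fun f => f.hom b) hm₂
      show m.hom (algebraMap C (StrictSS.NodeAlg C t) b) = eval₂Hom _ _ (MvPolynomial.C b)
      rw [eval₂Hom_C]
      exact h
    · show m.hom (Ideal.Quotient.mk _ (X i)) = eval₂Hom _ _ (X i)
      rw [eval₂Hom_X']
      have h := congrArg (fun f => f.hom (Ideal.Quotient.mk _ (X i.castSucc))) hm₁
      change m.hom (nodeMap t (Ideal.Quotient.mk _ (X i.castSucc))) = _ at h
      rw [nodeMap_X] at h
      fin_cases i <;> exact h

end Groth.Agent.NodeFib
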