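import Groth.Agent.NodeFib.Split
import Groth.Agent.NodeFib.Factor
import Groth.Prelude.Def_StrictSS

/-!
The étale normal form `uv = t` of a hypersurface with invertible Hessian at a point of its critical locus.
-/

set_option autoImplicit false
set_option linter.style.haveILetI false
set_option backward.isDefEq.respectTransparency false
set_option backward.isDefEq.respectTransparency.types false

universe u

open MvPolynomial

namespace Groth.Agent.NodeFib

variable {R T : Type u} [CommRing R] [CommRing T] [Algebra R T] {z : Fin 2 → T}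

/-- the critical algebra is étale at a point with invertible Hessian -/
theorem exists_critical (h : IsChart R z) (G : T) (q : Ideal T) [q.IsPrime] (hg : ∀ i, h.pd i G ∈ q)
    (hH : (Matrix.of fun i j => h.pd i (h.pd j G)).det ∉ q) :
    ∃ (C : Type u) (_ : CommRing C) (_ : Algebra R C) (_ : Algebra.Etale R C) (γ : T →ₐ[R] C),
      (∀ i, γ (h.pd i G) = 0) ∧ IsUnit (γ (Matrix.of fun i j => h.pd i (h.pd j G)).det) ∧
        ∃ c : Ideal C, c.IsPrime ∧ c.comap γ.toRingHom = q := by
  classical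
  let H := (Matrix.of fun i j => h.pd i (h.pd j G)).det
  let T' := Localization.Away H
  let a : T →ₐ[R] T' := IsScalarTower.toAlgHom R T T'
  have h' : IsChart R (a ∘ z) := h.away H
  have hpd : ∀ i t, h'.pd i (a t) = a (h.pd i t) := fun i t => pd_map h h' a i (fun j => h'.pd_z i j) t
  let g : Fin 2 → T' := fun j => a (h.pd j G)
  have hg' : IsChart R g := h'.jac g (by
    rw [show (Matrix.of fun i j => h'.pd i (g j)) = a.toRingHom.mapMatrix (Matrix.of fun i j => h.pd i (h.pd j G)) from
      Matrix.ext fun i j => hpd i (h.pd j G), ← RingHom.map_det]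
    exact IsLocalization.Away.algebraMap_isUnit H)
  let K : Ideal T' := Ideal.span (Set.range (g ∘ Fin.natAdd 0 : Fin 2 → T'))
  haveI hCet : Algebra.Etale R (T' ⧸ K) := (IsChart.quot (m := 0) (l := 2) hg').etale_of_zero
  let γ : T →ₐ[R] T' ⧸ K := (Ideal.Quotient.mkₐ R K).comp a
  have hd : Disjoint ((Submonoid.powers H : Submonoid T) : Set T) q := by
    rw [Set.disjoint_left]
    rintro _ ⟨k, rfl⟩ hk
    exact hH (Ideal.IsPrime.mem_of_pow_mem inferInstance k hk)
  let q' : Ideal T' := q.map (algebraMap T T')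
  haveI : q'.IsPrime := IsLocalization.isPrime_of_isPrime_disjoint _ T' q inferInstance hd
  have hKq : RingHom.ker (Ideal.Quotient.mk K) ≤ q' := by
    rw [Ideal.mk_ker, Ideal.span_le]
    rintro _ ⟨j, rfl⟩
    exact Ideal.mem_map_of_mem _ (hg _)
  refine ⟨T' ⧸ K, inferInstance, inferInstance, hCet, γ, fun i => ?_, ?_, q'.map (Ideal.Quotient.mk K),
    Ideal.map_isPrime_of_surjective Ideal.Quotient.mk_surjective hKq, ?_⟩
  · exact Ideal.Quotient.eq_zero_iff_mem.2 (Ideal.subset_span ⟨i, congrArg g (Fin.ext (by simp))⟩)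
  · exact (IsLocalization.Away.algebraMap_isUnit (S := T') H).map (Ideal.Quotient.mk K)
  · rw [show γ.toRingHom = (Ideal.Quotient.mk K).comp (algebraMap T T') from rfl, ← Ideal.comap_comap,
      Ideal.comap_map_of_surjective _ Ideal.Quotient.mk_surjective, ← RingHom.ker_eq_comap_bot, sup_eq_left.2 hKq]
    exact IsLocalization.under_map_of_isPrime_disjoint (Submonoid.powers H) T' inferInstance hd

/-- **the normal form** -/
theorem exists_normal_form (h : IsChart R z) (G : T) (q : Ideal T) [q.IsPrime] (hG : G ∈ q)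
    (hg : ∀ i, h.pd i G ∈ q) (hH : (Matrix.of fun i j => h.pd i (h.pd j G)).det ∉ q) :
    ∃ (C : Type u) (_ : CommRing C) (_ : Algebra R C) (_ : Algebra.Etale R C) (t : C) (E : Type u) (_ : CommRing E)
      (_ : Algebra R E) (ψ : (T ⧸ Ideal.span {G}) →ₐ[R] E) (φ : StrictSS.NodeAlg C t →ₐ[R] E),
      ψ.toRingHom.Etale ∧ φ.toRingHom.Etale ∧
        ∃ p : Ideal E, p.IsPrime ∧ p.comap (ψ.toRingHom.comp (Ideal.Quotient.mk (Ideal.span {G}))) = q := by
  classical
  obtain ⟨C, _, _, _, γ, hγg, hγH, c, hc, hcq⟩ := exists_critical h G q hg hH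
  obtain ⟨P, _, _, _, _, ι, u, hu, σ, hι, hσι, hιz, hσ⟩ := exists_split h γ
  have hpd : ∀ i t, hu.pd i (ι t) = ι (h.pd i t) := fun i t => pd_map h hu ι i (fun j => by
    rw [hιz, map_add, Derivation.map_algebraMap, add_zero, hu.pd_z]) t
  obtain ⟨a, b, e, hexp, hdisc⟩ := exists_expansion hu σ hσ (ι G) fun i => by rw [hpd, hσι, hγg]
  haveI := hc
  let p₁ : Ideal P := c.comap σ.toRingHom
  have hp₁q : p₁.comap ι.toRingHom = q := by
    rw [Ideal.comap_comap, show σ.toRingHom.comp ι.toRingHom = γ.toRingHom from RingHom.ext hσι, hcq]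
  have hup : ∀ i, u i ∈ p₁ := fun i => by
    show σ (u i) ∈ c
    rw [(hσ _).2 (Ideal.subset_span ⟨i, rfl⟩)]
    exact zero_mem c
  have hd : b ^ 2 - 4 * a * e ∉ p₁ := fun hmem => by
    have h1 : σ (b ^ 2 - 4 * a * e) ∈ c := hmem
    rw [hdisc, show (Matrix.of fun i j => hu.pd i (hu.pd j (ι G))) =
      ι.toRingHom.mapMatrix (Matrix.of fun i j => h.pd i (h.pd j G)) from
        Matrix.ext fun i j => (congrArg (hu.pd i) (hpd j G)).trans (hpd i _), ← RingHom.map_det, neg_mem_iff] at h1
    rw [show σ (ι.toRingHom (Matrix.of fun i j => h.pd i (h.pd j G)).det) = γ _ from hσι _] at h1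
    exact hc.ne_top (Ideal.eq_top_of_isUnit_mem c h1 hγH)
  obtain ⟨B, _, _, φ₁, U, hU, hφ₁, hfac, pB, hpB, hpBc⟩ := exists_factor hu a b e p₁ hup hd
  letI : Algebra R B := ((algebraMap C B).comp (algebraMap R C)).toAlgebra
  haveI : IsScalarTower R C B := IsScalarTower.of_algebraMap_eq' rfl
  let ιB : T →ₐ[R] B := (φ₁.restrictScalars R).comp ι
  have hιB : ιB.toRingHom.Etale := RingHom.Etale.stableUnderComposition _ _ hι hφ₁
  let t : C := -σ (ι G)
  have hGB : ιB G = U 0 * U 1 - algebraMap C B t := by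
    show φ₁ (ι G) = _
    conv_lhs => rw [hexp]
    rw [map_add, AlgHom.commutes, hfac, map_neg]
    ring
  let E := B ⧸ Ideal.span {ιB G}
  let ψ : (T ⧸ Ideal.span {G}) →ₐ[R] E :=
    Ideal.Quotient.liftₐ _ ((Ideal.Quotient.mkₐ R _).comp ιB) fun x hx => by
      obtain ⟨y, rfl⟩ := Ideal.mem_span_singleton'.1 hx
      show Ideal.Quotient.mk _ (ιB (y * G)) = 0
      rw [map_mul, Ideal.Quotient.eq_zero_iff_mem]
      exact Ideal.mul_mem_left _ _ (Ideal.mem_span_singleton_self _)
  let J : Ideal (MvPolynomial (Fin 2) C) := Ideal.span {X 0 * X 1 - MvPolynomial.C t}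
  let α : MvPolynomial (Fin 2) C →ₐ[C] B := MvPolynomial.aeval U
  have hJ : Ideal.span {ιB G} = J.map α.toRingHom := by
    rw [Ideal.map_span, Set.image_singleton, hGB]
    simp [α]
  let φ : StrictSS.NodeAlg C t →ₐ[R] E :=
    Ideal.Quotient.liftₐ J ((Ideal.Quotient.mkₐ R _).comp (α.restrictScalars R)) fun x hx => by
      show Ideal.Quotient.mk _ (α x) = 0
      rw [Ideal.Quotient.eq_zero_iff_mem, hJ]
      exact Ideal.mem_map_of_mem α.toRingHom hx
  refine ⟨C, inferInstance, inferInstance, inferInstance, t, E, inferInstance, inferInstance, ψ, φ, ?_, ?_, ?_⟩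
  · have h1 := quot_etale ιB.toRingHom hιB (Ideal.span {G}) (Ideal.span {ιB G})
      (by rw [Ideal.map_span, Set.image_singleton]; rfl)
    refine Eq.subst (motive := fun f => RingHom.Etale f) ?_ h1
    exact Ideal.Quotient.ringHom_ext rfl
  · have h1 := quot_etale α.toRingHom hU J (Ideal.span {ιB G}) hJ
    refine Eq.subst (motive := fun f => RingHom.Etale f) ?_ h1
    exact Ideal.Quotient.ringHom_ext rfl
  · have hq : pB.comap ιB.toRingHom = q := by
      rw [show ιB.toRingHom = φ₁.toRingHom.comp ι.toRingHom from rfl, ← Ideal.comap_comap, hpBc, hp₁q]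
    have hker : RingHom.ker (Ideal.Quotient.mk (Ideal.span {ιB G})) ≤ pB := by
      rw [Ideal.mk_ker, Ideal.span_le, Set.singleton_subset_iff]
      show G ∈ pB.comap ιB.toRingHom
      rw [hq]
      exact hG
    haveI := hpB
    refine ⟨pB.map (Ideal.Quotient.mk (Ideal.span {ιB G})),
      Ideal.map_isPrime_of_surjective Ideal.Quotient.mk_surjective hker, ?_⟩
    rw [show ψ.toRingHom.comp (Ideal.Quotient.mk (Ideal.span {G})) =
      (Ideal.Quotient.mk (Ideal.span {ιB G})).comp ιB.toRingHom from rfl, ← Ideal.comap_comap,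
      Ideal.comap_map_of_surjective _ Ideal.Quotient.mk_surjective, ← RingHom.ker_eq_comap_bot,
      sup_eq_left.2 hker, hq]

end Groth.Agent.NodeFib
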