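import Groth.Agent.NodeFib.Chart
import Groth.Agent.FittLib.Basic
import Groth.Agent.FittLib.BaseChange
import Groth.Agent.FittLib.LciJacobian
import Groth.Agent.NodeFib.Model

/-!
A relative complete intersection curve is, near a point where the second Fitting ideal of the differentials
is trivial, a hypersurface in a smooth algebra of relative dimension two with étale coordinates.
-/

set_option autoImplicit false
set_option linter.style.haveILetI false
set_option backward.isDefEq.respectTransparency false
set_option backward.isDefEq.respectTransparency.types false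
set_option maxHeartbeats 1000000

universe u

open MvPolynomial TensorProduct

namespace Groth.Agent.NodeFib

/-- outside the second Fitting ideal the differentials need at most two generators -/
theorem finrank_le_of_not_le {N : Type u} [CommRing N] {M : Type u} [AddCommGroup M] [Module N M]
    [Module.Finite N M] (q : Ideal N) [q.IsPrime] {k : ℕ} (h : ¬Fitt.ideal N M k ≤ q) :
    Module.finrank q.ResidueField (q.ResidueField ⊗[N] M) ≤ k := by
  by_contra hlt
  let b := Module.finBasis q.ResidueField (q.ResidueField ⊗[N] M)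
  have h1 := FittLib.ideal_congr b.equivFun k
  rw [FittLib.ideal_baseChange, FittLib.ideal_free_eq_bot _ (Nat.lt_of_not_le hlt),
    Ideal.map_eq_bot_iff_le_ker, Ideal.ker_algebraMap_residueField] at h1
  exact h h1

variable {R : Type u} [CommRing R] {l : ℕ}

/-- the gradient at a point -/
noncomputable def grad {n c : ℕ} (F : Fin c → MvPolynomial (Fin n) R)
    (q : Ideal (MvPolynomial (Fin n) R ⧸ Ideal.span (Set.range F))) [q.IsPrime]
    (p : MvPolynomial (Fin n) R) (i : Fin n) : q.ResidueField :=
  algebraMap _ q.ResidueField (Ideal.Quotient.mk (Ideal.span (Set.range F)) (pderiv i p))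

theorem finrank_span_grad {n c : ℕ} (F : Fin c → MvPolynomial (Fin n) R)
    (q : Ideal (MvPolynomial (Fin n) R ⧸ Ideal.span (Set.range F))) [q.IsPrime] :
    n ≤ Module.finrank q.ResidueField (q.ResidueField ⊗[MvPolynomial (Fin n) R ⧸ Ideal.span (Set.range F)]
        Ω[(MvPolynomial (Fin n) R ⧸ Ideal.span (Set.range F))⁄R]) +
      Module.finrank q.ResidueField (Submodule.span q.ResidueField (Set.range fun j => grad F q (F j))) := by
  classical
  let P := MvPolynomial (Fin n) R
  let I : Ideal P := Ideal.span (Set.range F)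
  let N := P ⧸ I
  let κ := q.ResidueField
  let v : Fin c → (Fin n → κ) := fun j => grad F q (F j)
  let W := Submodule.span κ (Set.range v)
  let Q := (Fin n → κ) ⧸ W
  let r : P →+* κ := (algebraMap N κ).comp (Ideal.Quotient.mk I)
  haveI : IsScalarTower R N Q := ⟨fun r x y => by
    obtain ⟨y, rfl⟩ := Submodule.Quotient.mk_surjective W y
    rw [← Submodule.Quotient.mk_smul, ← Submodule.Quotient.mk_smul, ← Submodule.Quotient.mk_smul]
    congr 1
    funext i
    simp only [Pi.smul_apply]
    rw [Algebra.smul_def (r • x), Algebra.smul_def x, Algebra.smul_def r (_ * y i),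
      show r • x = algebraMap R N r * x from Algebra.smul_def r x, map_mul, mul_assoc]
    rfl⟩
  let δ₀ : P →ₗ[R] Q :=
    { toFun := fun p => W.mkQ (grad F q p)
      map_add' := fun x y => by
        rw [← map_add]; congr 1; funext i; simp [grad]
      map_smul' := fun a x => by
        rw [RingHom.id_apply, ← algebraMap_smul κ a (W.mkQ _), ← map_smul]
        congr 1; funext i
        show (IsScalarTower.toAlgHom R N κ) (Ideal.Quotient.mkₐ R I (pderiv i (a • (x : MvPolynomial (Fin n) R)))) =
          algebraMap R κ a • (IsScalarTower.toAlgHom R N κ) (Ideal.Quotient.mkₐ R I (pderiv i x))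
        rw [Derivation.map_smul, map_smul, map_smul, algebraMap_smul] }
  have hgrad : ∀ x y : MvPolynomial (Fin n) R,
      grad F q (x * y) = r x • grad F q y + r y • grad F q x := fun x y => by
    funext i
    show algebraMap N κ (Ideal.Quotient.mk I (pderiv i (x * y))) =
      algebraMap N κ (Ideal.Quotient.mk I x) * algebraMap N κ (Ideal.Quotient.mk I (pderiv i y)) +
        algebraMap N κ (Ideal.Quotient.mk I y) * algebraMap N κ (Ideal.Quotient.mk I (pderiv i x))
    rw [Derivation.leibniz, smul_eq_mul, smul_eq_mul, map_add, map_mul, map_mul, map_add, map_mul, map_mul]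
  have hI : I.restrictScalars R ≤ LinearMap.ker δ₀ := by
    intro p hp
    rw [LinearMap.mem_ker]
    refine (Submodule.Quotient.mk_eq_zero _).2 ?_
    obtain ⟨a, rfl⟩ := Ideal.mem_span_range_iff_exists_fun.1 (show p ∈ Ideal.span (Set.range F) from hp)
    have h0 : ∀ j, r (F j) = 0 := fun j => by
      show algebraMap N κ (Ideal.Quotient.mk I (F j)) = 0
      rw [Ideal.Quotient.eq_zero_iff_mem.2 (show F j ∈ I from Ideal.subset_span ⟨j, rfl⟩), map_zero]
    have hs : grad F q (∑ j, a j * F j) = ∑ j, r (a j) • v j := by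
      have hadd : grad F q (∑ j, a j * F j) = ∑ j, grad F q (a j * F j) := by
        funext i
        simp [grad, Finset.sum_apply]
      rw [hadd]
      refine Finset.sum_congr rfl fun j _ => ?_
      rw [hgrad, h0, zero_smul, add_zero]
    rw [hs]
    exact Submodule.sum_mem _ fun j _ => Submodule.smul_mem _ _ (Submodule.subset_span ⟨j, rfl⟩)
  let δ : N →ₗ[R] Q := (I.restrictScalars R).liftQ δ₀ hI ∘ₗ
    (Submodule.Quotient.restrictScalarsEquiv R I).symm.toLinearMap
  have hδ : ∀ p : P, δ (Ideal.Quotient.mk I p) = W.mkQ (grad F q p) := fun p => rfl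
  let D' : Derivation R N Q := Derivation.mk' δ fun x y => by
    obtain ⟨x, rfl⟩ := Ideal.Quotient.mk_surjective x
    obtain ⟨y, rfl⟩ := Ideal.Quotient.mk_surjective y
    rw [← map_mul, hδ, hδ, hδ, hgrad, map_add, map_smul, map_smul, ← algebraMap_smul κ (Ideal.Quotient.mk I x),
      ← algebraMap_smul κ (Ideal.Quotient.mk I y)]
    rfl
  let L := D'.liftKaehlerDifferential.liftBaseChange κ
  have hL : Function.Surjective L := by
    rw [← LinearMap.range_eq_top, eq_top_iff, ← Submodule.range_mkQ W, LinearMap.range_eq_map,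
      ← (Pi.basisFun κ (Fin n)).span_eq, Submodule.map_span, Submodule.span_le]
    rintro _ ⟨_, ⟨i, rfl⟩, rfl⟩
    refine ⟨(1 : κ) ⊗ₜ KaehlerDifferential.D R N (Ideal.Quotient.mk I (X i)), ?_⟩
    rw [LinearMap.liftBaseChange_tmul, one_smul, Derivation.liftKaehlerDifferential_comp_D]
    show δ (Ideal.Quotient.mk I (X i)) = _
    rw [hδ]
    congr 1
    funext j
    rw [Pi.basisFun_apply, grad, pderiv_X]
    rcases eq_or_ne i j with rfl | hij
    · simp
    · simp [hij, hij.symm]
  haveI : Module.Finite N Ω[N⁄R] := ⟨⟨Finset.univ.image fun i =>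
    KaehlerDifferential.D R N (Ideal.Quotient.mk I (X i)), by
      rw [Finset.coe_image, Finset.coe_univ, Set.image_univ]; exact span_D_mk I⟩⟩
  have h1 := L.finrank_range_le
  rw [LinearMap.range_eq_top.2 hL, finrank_top] at h1
  have h2 := W.finrank_quotient_add_finrank
  rw [Module.finrank_fin_fun] at h2
  show n ≤ Module.finrank κ (κ ⊗[N] Ω[N⁄R]) + Module.finrank κ W
  exact le_of_eq_of_le h2.symm (Nat.add_le_add_right h1 _)

/-- completing gradients by two coordinates to a basis -/
theorem exists_complete {K : Type u} [Field K] {c : ℕ} (v : Fin c → (Fin (2 + l) → K))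
    (hv : l ≤ Module.finrank K (Submodule.span K (Set.range v))) :
    ∃ (σ : Fin l → Fin c) (j₁ j₂ : Fin (2 + l)), Function.Injective σ ∧
      LinearIndependent K (Fin.append ![(Pi.single j₁ 1 : Fin (2 + l) → K), Pi.single j₂ 1] (v ∘ σ)) := by
  classical
  obtain ⟨t, ht, hts, hli⟩ := exists_linearIndependent K (Set.range v)
  haveI : Fintype t := ((Set.finite_range v).subset ht).fintype
  have hcard : l ≤ Fintype.card t := by
    refine hv.trans ?_
    rw [← hts, finrank_span_set_eq_card hli, Set.toFinset_card]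
  obtain ⟨e⟩ : Nonempty (Fin l ↪ t) := Function.Embedding.nonempty_of_card_le (by simpa using hcard)
  choose σ hσ using fun i => ht (e i).2
  have hu : LinearIndependent K (v ∘ σ) := by
    rw [show v ∘ σ = (fun x : t => (x : Fin (2 + l) → K)) ∘ e from funext hσ]
    exact hli.comp e e.injective
  have hσi : Function.Injective σ := fun a b h => e.injective (Subtype.ext (by rw [← hσ a, ← hσ b, h]))
  have hstep : ∀ {k : ℕ} (u : Fin k → (Fin (2 + l) → K)), LinearIndependent K u → k < 2 + l →
      ∃ j, LinearIndependent K (Fin.cons (Pi.single j 1) u : Fin (k + 1) → (Fin (2 + l) → K)) := by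
    intro k u hu hk
    by_contra hne
    simp only [not_exists, linearIndependent_finCons, not_and_not_right] at hne
    have htop : Submodule.span K (Set.range u) = ⊤ := by
      rw [eq_top_iff, ← (Pi.basisFun K (Fin (2 + l))).span_eq, Submodule.span_le]
      rintro _ ⟨j, rfl⟩
      rw [Pi.basisFun_apply]
      exact hne j hu
    have := (finrank_range_le_card (R := K) u)
    rw [Set.finrank, htop, finrank_top, Module.finrank_fin_fun, Fintype.card_fin] at this
    omega
  obtain ⟨j₂, h₂⟩ := hstep _ hu (by omega)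
  obtain ⟨j₁, h₁⟩ := hstep _ h₂ (by omega)
  refine ⟨σ, j₁, j₂, hσi, ?_⟩
  have e1 : Fin.append ![(Pi.single j₁ 1 : Fin (2 + l) → K), Pi.single j₂ 1] (v ∘ σ) =
      (Fin.cons (Pi.single j₁ 1) (Fin.cons (Pi.single j₂ 1) (v ∘ σ)) : Fin (l + 1 + 1) → (Fin (2 + l) → K)) ∘
        Fin.cast (by omega) := by
    funext i
    induction i using Fin.addCases with
    | left i => rw [Fin.append_left]; fin_cases i <;> rfl
    | right i =>
      rw [Fin.append_right, Function.comp_apply, Function.comp_apply,
        show Fin.cast (by omega : 2 + l = l + 1 + 1) (Fin.natAdd 2 i) = i.succ.succ from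
          Fin.ext (by simp <;> omega), Fin.cons_succ, Fin.cons_succ, Function.comp_apply]
  rw [e1]
  exact h₁.comp _ (Fin.cast_injective _)

/-- **the hypersurface presentation** -/
theorem exists_hypersurface (F : Fin (l + 1) → MvPolynomial (Fin (2 + l)) R)
    (q : Ideal (MvPolynomial (Fin (2 + l)) R ⧸ Ideal.span (Set.range F))) [q.IsPrime]
    (h2 : ¬Fitt.ideal (MvPolynomial (Fin (2 + l)) R ⧸ Ideal.span (Set.range F))
      Ω[(MvPolynomial (Fin (2 + l)) R ⧸ Ideal.span (Set.range F))⁄R] 2 ≤ q) :
    ∃ (T : Type u) (_ : CommRing T) (_ : Algebra R T) (z : Fin 2 → T) (_ : IsChart R z) (G : T)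
      (ψ : (MvPolynomial (Fin (2 + l)) R ⧸ Ideal.span (Set.range F)) →ₐ[R] T ⧸ Ideal.span {G}),
      ψ.toRingHom.Etale ∧ ∃ q' : Ideal (T ⧸ Ideal.span {G}), q'.IsPrime ∧ q'.comap ψ.toRingHom = q := by
  classical
  let P := MvPolynomial (Fin (2 + l)) R
  let I : Ideal P := Ideal.span (Set.range F)
  let N := P ⧸ I
  haveI : Module.Finite N Ω[N⁄R] := ⟨⟨Finset.univ.image fun i =>
    KaehlerDifferential.D R N (Ideal.Quotient.mk I (X i)), by
      rw [Finset.coe_image, Finset.coe_univ, Set.image_univ]; exact span_D_mk I⟩⟩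
  let κ := q.ResidueField
  let r : P →+* κ := (algebraMap N κ).comp (Ideal.Quotient.mk I)
  have hle : l ≤ Module.finrank q.ResidueField (Submodule.span q.ResidueField (Set.range fun j => grad F q (F j))) := by
    have h1 := finrank_span_grad F q
    have h3 := finrank_le_of_not_le q h2
    omega
  obtain ⟨σ, j₁, j₂, hσ, hli⟩ := exists_complete (fun j => grad F q (F j)) hle
  -- the missing relation
  obtain ⟨i₀, hi₀⟩ : ∃ i₀, i₀ ∉ Set.range σ := by
    by_contra hne
    simp only [not_exists, not_not] at hne
    have := Fintype.card_le_of_surjective σ hne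
    simp at this
  have hcover : ∀ j, j = i₀ ∨ j ∈ Set.range σ := by
    intro j
    by_contra hne
    rw [not_or] at hne
    have h1 : (Finset.univ.image σ) ⊆ (Finset.univ.erase j).erase i₀ := by
      intro x hx
      obtain ⟨y, -, rfl⟩ := Finset.mem_image.1 hx
      exact Finset.mem_erase.2 ⟨fun e => hi₀ ⟨y, e⟩, Finset.mem_erase.2 ⟨fun e => hne.2 ⟨y, e⟩, Finset.mem_univ _⟩⟩
    have h3 := Finset.card_le_card h1
    rw [Finset.card_image_of_injective _ hσ, Finset.card_erase_of_mem
      (Finset.mem_erase.2 ⟨fun e => hne.1 e.symm, Finset.mem_univ _⟩),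
      Finset.card_erase_of_mem (Finset.mem_univ _)] at h3
    simp at h3
    omega
  let g : Fin (2 + l) → P := Fin.append ![X j₁, X j₂] (F ∘ σ)
  let M : Matrix (Fin (2 + l)) (Fin (2 + l)) P := Matrix.of fun i j => pderiv i (g j)
  have hcols : (fun j => fun i => r (M i j)) =
      Fin.append ![(Pi.single j₁ 1 : Fin (2 + l) → κ), Pi.single j₂ 1] ((fun j => grad F q (F j)) ∘ σ) := by
    have hX : ∀ j : Fin (2 + l), (fun i => r (pderiv i (X j))) = (Pi.single j 1 : Fin (2 + l) → κ) := fun j => by
      funext i
      rw [pderiv_X]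
      rcases eq_or_ne i j with rfl | hij
      · simp
      · simp [hij, hij.symm]
    funext j
    induction j using Fin.addCases with
    | left j =>
      simp only [M, g, Matrix.of_apply, Fin.append_left]
      fin_cases j
      · exact hX j₁
      · exact hX j₂
    | right j =>
      simp only [M, g, Matrix.of_apply, Fin.append_right]
      rfl
  have hdet : r M.det ≠ 0 := by
    rw [RingHom.map_det]
    refine ((Matrix.isUnit_iff_isUnit_det _).1 (Matrix.linearIndependent_cols_iff_isUnit.1 ?_)).ne_zero
    show LinearIndependent κ (fun j => fun i => r (M i j))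
    rw [hcols]
    exact hli
  let T₀ := Localization.Away M.det
  let a : P →ₐ[R] T₀ := IsScalarTower.toAlgHom R P T₀
  have h0 : IsChart R (a ∘ X) := (isChart_poly R R (2 + l)).away M.det
  have hpd : ∀ i p, h0.pd i (a p) = a (pderiv i p) := by
    intro i p
    let D₁ : Derivation R P T₀ := (h0.pd i).compAlgebraMap P
    let D₂ : Derivation R P T₀ := (Algebra.linearMap P T₀).compDer (pderiv i)
    refine DFunLike.congr_fun (show D₁ = D₂ from MvPolynomial.derivation_ext fun j => ?_) p
    show h0.pd i (a (X j)) = a (pderiv i (X j))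
    rw [show a (X j) = (a ∘ X) j from rfl, h0.pd_z, pderiv_X]
    rcases eq_or_ne i j with rfl | hij
    · simp
    · simp [hij, hij.symm]
  have hg : IsChart R (a ∘ g) := h0.jac _ (by
    rw [show (Matrix.of fun i j => h0.pd i ((a ∘ g) j)) = a.toRingHom.mapMatrix M from
      Matrix.ext fun i j => hpd i (g j), ← RingHom.map_det]
    exact IsLocalization.Away.algebraMap_isUnit M.det)
  let K : Ideal T₀ := Ideal.span (Set.range ((a ∘ g) ∘ Fin.natAdd 2))
  let T := T₀ ⧸ K
  let G : T := Ideal.Quotient.mk K (a (F i₀))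
  refine ⟨T, inferInstance, inferInstance, _, hg.quot, G, ?_⟩
  let π : T₀ →ₐ[R] T ⧸ Ideal.span {G} := (Ideal.Quotient.mkₐ R _).comp (Ideal.Quotient.mkₐ R K)
  have hπs : Function.Surjective π :=
    (Ideal.Quotient.mk_surjective).comp Ideal.Quotient.mk_surjective
  have hker : RingHom.ker π.toRingHom = I.map a.toRingHom := by
    have h1 : RingHom.ker π.toRingHom = Ideal.span {a (F i₀)} ⊔ K := by
      rw [show π.toRingHom = (Ideal.Quotient.mk (Ideal.span {G})).comp (Ideal.Quotient.mk K) from rfl,
        ← RingHom.comap_ker, Ideal.mk_ker,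
        show Ideal.span {G} = (Ideal.span {a (F i₀)}).map (Ideal.Quotient.mk K) by
          rw [Ideal.map_span, Set.image_singleton],
        Ideal.comap_map_of_surjective _ Ideal.Quotient.mk_surjective, ← RingHom.ker_eq_comap_bot, Ideal.mk_ker]
    have hgσ : ∀ j, (a ∘ g) (Fin.natAdd 2 j) = a (F (σ j)) := fun j => by simp [g]
    rw [h1, Ideal.map_span, ← Set.range_comp]
    refine le_antisymm (sup_le ?_ ?_) (Ideal.span_le.2 ?_)
    · rw [Ideal.span_le, Set.singleton_subset_iff]; exact Ideal.subset_span ⟨i₀, rfl⟩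
    · refine Ideal.span_le.2 ?_
      rintro _ ⟨j, rfl⟩
      rw [Function.comp_apply, hgσ]
      exact Ideal.subset_span ⟨σ j, rfl⟩
    · rintro _ ⟨j, rfl⟩
      rcases hcover j with rfl | ⟨y, rfl⟩
      · exact Submodule.mem_sup_left (Ideal.subset_span rfl)
      · exact Submodule.mem_sup_right (Ideal.subset_span ⟨y, hgσ y⟩)
  have hI0 : ∀ p ∈ I, π (a p) = 0 := fun p hp =>
    RingHom.mem_ker.1 (hker.ge (Ideal.mem_map_of_mem _ hp))
  let ψ : N →ₐ[R] T ⧸ Ideal.span {G} := Ideal.Quotient.liftₐ I (π.comp a) hI0
  refine ⟨ψ, ?_, ?_⟩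
  · let e := (Ideal.quotEquivOfEq hker.symm).trans (RingHom.quotientKerEquivOfSurjective (f := π.toRingHom) hπs)
    have hc : ∀ {A B C : Type u} [CommRing A] [CommRing B] [CommRing C] (f : A →+* B) (e : B ≃+* C),
        f.Etale → (e.toRingHom.comp f).Etale := fun f e h => RingHom.Etale.respectsIso.1 f e h
    have he := hc (C := T ⧸ Ideal.span {G}) _ e
      (quot_etale a.toRingHom (RingHom.etale_algebraMap.2 (inferInstanceAs (Algebra.Etale P T₀))) I _ rfl)
    refine Eq.subst (motive := fun f => RingHom.Etale f) ?_ he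
    exact Ideal.Quotient.ringHom_ext rfl
  · let q₀ : Ideal P := q.comap (Ideal.Quotient.mk I)
    have hΔ : M.det ∉ q₀ := fun hmem => hdet
      ((RingHom.mem_ker.1 ((Ideal.ker_algebraMap_residueField q).ge hmem)))
    have hd : Disjoint ((Submonoid.powers M.det : Submonoid P) : Set P) q₀ := by
      rw [Set.disjoint_left]
      rintro _ ⟨k, rfl⟩ hk
      exact hΔ (Ideal.IsPrime.mem_of_pow_mem inferInstance k hk)
    let q₁ : Ideal T₀ := q₀.map (algebraMap P T₀)
    haveI : q₁.IsPrime := IsLocalization.isPrime_of_isPrime_disjoint _ T₀ q₀ inferInstance hd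
    have hIq : I ≤ q₀ := fun p hp => by
      show Ideal.Quotient.mk I p ∈ q
      rw [Ideal.Quotient.eq_zero_iff_mem.2 hp]
      exact zero_mem _
    have hkq : RingHom.ker π.toRingHom ≤ q₁ := hker.le.trans (Ideal.map_mono hIq)
    refine ⟨q₁.map π.toRingHom, Ideal.map_isPrime_of_surjective hπs hkq, ?_⟩
    refine Ideal.comap_injective_of_surjective (Ideal.Quotient.mk I) Ideal.Quotient.mk_surjective ?_
    rw [Ideal.comap_comap, show ψ.toRingHom.comp (Ideal.Quotient.mk I) = π.toRingHom.comp a.toRingHom from rfl,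
      ← Ideal.comap_comap, Ideal.comap_map_of_surjective π.toRingHom hπs, ← RingHom.ker_eq_comap_bot,
      sup_eq_left.2 hkq]
    exact IsLocalization.under_map_of_isPrime_disjoint (Submonoid.powers M.det) T₀ inferInstance hd

end Groth.Agent.NodeFib
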