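import Groth.Agent.NodeFib.Node
import Groth.Agent.NodeFib.Presentation
import Groth.Agent.NodeFib.Hessian
import Groth.Agent.NodeFib.NormalForm
import Groth.Agent.SyntLib.Rel
import Groth.Agent.S9366

/-!
The étale normal form at a node of a flat family of curves, affine version.
-/

set_option autoImplicit false
set_option linter.style.haveILetI false
set_option backward.isDefEq.respectTransparency false
set_option backward.isDefEq.respectTransparency.types false

universe u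

open CategoryTheory AlgebraicGeometry TensorProduct

namespace Groth.Agent.NodeFib

variable {R A : Type u} [CommRing R] [CommRing A] [Algebra R A] [Algebra.FinitePresentation R A]

/-- near a good point a flat algebra is a relative complete intersection of curves -/
theorem exists_curve_presentation [Module.Flat R A] (q : PrimeSpectrum A) (hg : Good (relMor R A) q) :
    ∃ (n c : ℕ) (F : Fin c → MvPolynomial (Fin n) R), Synt.IsRelGCI R n c F ∧ n = c + 1 ∧
      ∃ ψ : A →ₐ[R] Synt.RelGCIRing R n c F, ψ.toRingHom.Etale ∧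
        ∃ q' : PrimeSpectrum (Synt.RelGCIRing R n c F), PrimeSpectrum.comap ψ.toRingHom q' = q := by
  obtain ⟨Q, hQ⟩ := exists_prime_fibre q (PrimeSpectrum.comap (algebraMap R A) q) rfl
  obtain ⟨hd, hci, -⟩ := (good_affine_iff q _ Q hQ).1 hg
  haveI : q.asIdeal.LiesOver (PrimeSpectrum.comap (algebraMap R A) q).asIdeal := ⟨rfl⟩
  haveI : Algebra.FinitePresentation R (Localization.Away (1 : A)) :=
    Algebra.FinitePresentation.trans R A (Localization.Away (1 : A))
  haveI : Module.Flat A (Localization.AtPrime q.asIdeal) := IsLocalization.flat _ q.asIdeal.primeCompl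
  haveI : Module.Flat R (Localization.AtPrime q.asIdeal) := Module.Flat.trans R A _
  have h9 := S9169.result R A (PrimeSpectrum.comap (algebraMap R A) q).asIdeal q.asIdeal Q.asIdeal hQ
  obtain ⟨g, hgq, n, c, F, hF, ⟨e⟩⟩ := h9.1.1 (h9.2.2 ⟨1, fun h => q.isPrime.ne_top
    ((Ideal.eq_top_iff_one _).2 h), inferInstance, inferInstance, hci⟩)
  let ψ : A →ₐ[R] Synt.RelGCIRing R n c F := e.toAlgHom.comp (IsScalarTower.toAlgHom R A (Localization.Away g))
  have hψ : ψ.toRingHom.Etale :=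
    RingHom.Etale.respectsIso.1 _ e.toRingEquiv
      (RingHom.etale_algebraMap.2 (inferInstanceAs (Algebra.Etale A (Localization.Away g))))
  obtain ⟨z₀, hz₀⟩ : q ∈ Set.range (PrimeSpectrum.comap (algebraMap A (Localization.Away g))) := by
    rw [PrimeSpectrum.localization_away_comap_range (Localization.Away g) g]
    exact hgq
  let q' : PrimeSpectrum (Synt.RelGCIRing R n c F) := PrimeSpectrum.comap e.symm.toRingEquiv.toRingHom z₀
  have hq' : PrimeSpectrum.comap ψ.toRingHom q' = q := by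
    rw [← hz₀]
    refine PrimeSpectrum.ext (Ideal.ext fun a => ?_)
    show e.symm (e (algebraMap A (Localization.Away g) a)) ∈ z₀.asIdeal ↔ algebraMap A _ a ∈ z₀.asIdeal
    rw [e.symm_apply_apply]
  haveI : Algebra.FinitePresentation R (Synt.RelGCIRing R n c F) := (SyntLib.isSyntomic_relGCI hF).2.1
  refine ⟨n, c, F, hF, ?_, ψ, hψ, q', hq'⟩
  obtain ⟨Q', hQ'⟩ := exists_prime_fibre q' (PrimeSpectrum.comap (algebraMap R _) q') rfl
  have hd' := ((good_affine_iff q' _ Q' hQ').1 ((transfer_etale ψ hψ q').1.2 (hq' ▸ hg))).1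
  have h6 : FlatMor.fibreDimAt (relMor R (Synt.RelGCIRing R n c F)) q' = ((n - c : ℕ) : WithBot ℕ∞) :=
    S9366.result R n c F hF q'
  rw [hd'] at h6
  have : n - c = 1 := by exact_mod_cast h6.symm
  omega

/-- **the étale normal form at a node** -/
theorem exists_normal_chart [Module.Flat R A] (q : PrimeSpectrum A) (hg : Good (relMor R A) q)
    (hn : Node (relMor R A) q) :
    ∃ (C : Type u) (_ : CommRing C) (_ : Algebra R C) (_ : Algebra.Etale R C) (t : C) (E : Type u) (_ : CommRing E)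
      (_ : Algebra R E) (ψ : A →ₐ[R] E) (φ : StrictSS.NodeAlg C t →ₐ[R] E),
      ψ.toRingHom.Etale ∧ φ.toRingHom.Etale ∧ ∃ p : PrimeSpectrum E, PrimeSpectrum.comap ψ.toRingHom p = q := by
  obtain ⟨n, c, F, hF, hnc, ψ₁, hψ₁, q₁, hq₁⟩ := exists_curve_presentation q hg
  let N := Synt.RelGCIRing R n c F
  haveI : Algebra.FinitePresentation R N := (SyntLib.isSyntomic_relGCI hF).2.1
  obtain ⟨hg₁, hn₁⟩ := transfer_etale ψ₁ hψ₁ q₁
  rw [hq₁] at hg₁ hn₁
  obtain ⟨hF1, hF2⟩ := fitt_of_node q₁ (hn₁.2 hn)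
  rcases Nat.eq_zero_or_pos c with hc | hc
  · exfalso
    have h1 : Fitt.ideal N Ω[N⁄R] 1 = ⊤ :=
      FittLib.ideal_eq_top_of_generators _ (span_D_mk (Ideal.span (Set.range F))) (by simp [hnc, hc])
    exact q₁.isPrime.ne_top (top_le_iff.1 (h1 ▸ hF1))
  obtain ⟨l, rfl⟩ : ∃ l, c = l + 1 := ⟨c - 1, by omega⟩
  obtain rfl : n = 2 + l := by omega
  obtain ⟨T, _, _, z, hz, G, ψ₂, hψ₂, q₂, hq₂, hq₂c⟩ := exists_hypersurface F q₁.asIdeal hF2
  haveI := hz.finitePresentation
  haveI : Algebra.FinitePresentation R (T ⧸ Ideal.span {G}) :=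
    Algebra.FinitePresentation.quotient (Submodule.fg_span_singleton G)
  have e2 : PrimeSpectrum.comap ψ₂.toRingHom ⟨q₂, hq₂⟩ = q₁ := PrimeSpectrum.ext hq₂c
  obtain ⟨hg₂, hn₂⟩ := transfer_etale ψ₂ hψ₂ ⟨q₂, hq₂⟩
  rw [e2] at hg₂ hn₂
  have hgood := hg₂.2 (hg₁.2 hg)
  obtain ⟨Q, hQ⟩ := exists_prime_fibre (⟨q₂, hq₂⟩ : PrimeSpectrum (T ⧸ Ideal.span {G}))
    (PrimeSpectrum.comap (algebraMap R _) ⟨q₂, hq₂⟩) rfl
  obtain ⟨hgi, hH⟩ := hessian_at_node hz G q₂ (fitt_of_node _ (hn₂.2 (hn₁.2 hn))).1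
    ((good_affine_iff _ _ Q hQ).1 hgood).2.2
  let q₀ : Ideal T := q₂.comap (Ideal.Quotient.mk (Ideal.span {G}))
  obtain ⟨C, i1, i2, i3, t, E, i4, i5, ψ₃, φ, hψ₃, hφ, p, hp, hpc⟩ := exists_normal_form hz G q₀
    (by
      show Ideal.Quotient.mk _ G ∈ q₂
      rw [Ideal.Quotient.eq_zero_iff_mem.2 (Ideal.mem_span_singleton_self G)]
      exact zero_mem _) hgi hH
  refine ⟨C, i1, i2, i3, t, E, i4, i5, ψ₃.comp (ψ₂.comp ψ₁), φ,
    RingHom.Etale.stableUnderComposition _ _ (RingHom.Etale.stableUnderComposition _ _ hψ₁ hψ₂) hψ₃, hφ,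
    ⟨p, hp⟩, ?_⟩
  have h3 : p.comap ψ₃.toRingHom = q₂ :=
    Ideal.comap_injective_of_surjective _ Ideal.Quotient.mk_surjective ((Ideal.comap_comap _ _).trans hpc)
  rw [← hq₁]
  refine PrimeSpectrum.ext ?_
  show p.comap (ψ₃.toRingHom.comp (ψ₂.toRingHom.comp ψ₁.toRingHom)) = q₁.asIdeal.comap ψ₁.toRingHom
  rw [← Ideal.comap_comap, h3, ← Ideal.comap_comap, hq₂c]

end Groth.Agent.NodeFib
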