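import Groth.Agent.FittLib.OmegaFit
import Groth.Agent.S6284
import Mathlib.RingTheory.Unramified.Locus

/-!
Unramifiedness of a closed subscheme at a point of a fibre.
-/

set_option autoImplicit false
set_option linter.style.haveILetI false
set_option backward.isDefEq.respectTransparency false

universe u

open TensorProduct

attribute [local instance] Algebra.TensorProduct.rightAlgebra

namespace Groth.Agent.NodeFib

/-- unramified local quotient rings via the differentials of the quotient -/
theorem formallyUnramified_localQuot_iff (K F : Type u) [CommRing K] [CommRing F] [Algebra K F] (J Q : Ideal F)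
    [Q.IsPrime] :
    Algebra.FormallyUnramified K (Localization.AtPrime Q ⧸ J.map (algebraMap F (Localization.AtPrime Q))) ↔
      ∀ m : Ω[(F ⧸ J)⁄K], ∃ s ∉ Q, (Ideal.Quotient.mk J s) • m = 0 := by
  let G := Localization.AtPrime Q ⧸ J.map (algebraMap F (Localization.AtPrime Q))
  let M := Algebra.algebraMapSubmonoid (F ⧸ J) Q.primeCompl
  haveI : IsLocalization M G := inferInstance
  haveI : IsScalarTower K (F ⧸ J) G := IsScalarTower.of_algebraMap_eq fun c => by
    show Ideal.Quotient.mk _ (algebraMap K (Localization.AtPrime Q) c) =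
      algebraMap (F ⧸ J) G (Ideal.Quotient.mk J (algebraMap K F c))
    rw [IsScalarTower.algebraMap_apply K F (Localization.AtPrime Q)]
    rfl
  rw [Algebra.formallyUnramified_iff,
    IsLocalizedModule.subsingleton_iff M (KaehlerDifferential.map K K (F ⧸ J) G)]
  refine forall_congr' fun m => ⟨?_, ?_⟩
  · rintro ⟨_, ⟨s, hs, rfl⟩, hm⟩
    exact ⟨s, hs, hm⟩
  · rintro ⟨s, hs, hm⟩
    exact ⟨_, ⟨s, hs, rfl⟩, hm⟩

/-- transfer along an isomorphism of the quotient -/
theorem formallyUnramified_localQuot_iff' (K F G : Type u) [CommRing K] [CommRing F] [Algebra K F] [CommRing G]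
    [Algebra K G] (π : F →ₐ[K] G) (hπ : Function.Surjective π) (J Q : Ideal F) (hJ : RingHom.ker π.toRingHom = J)
    [Q.IsPrime] :
    Algebra.FormallyUnramified K (Localization.AtPrime Q ⧸ J.map (algebraMap F (Localization.AtPrime Q))) ↔
      ∀ m : Ω[G⁄K], ∃ s ∉ Q, π s • m = 0 := by
  subst hJ
  rw [formallyUnramified_localQuot_iff]
  let e : (F ⧸ RingHom.ker π.toRingHom) ≃ₐ[K] G := Ideal.quotientKerAlgEquivOfSurjective hπ
  letI : Algebra (F ⧸ RingHom.ker π.toRingHom) G := e.toRingHom.toAlgebra
  letI : Algebra G (F ⧸ RingHom.ker π.toRingHom) := e.symm.toRingHom.toAlgebra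
  haveI : IsScalarTower K (F ⧸ RingHom.ker π.toRingHom) G := IsScalarTower.of_algebraMap_eq fun c => (e.commutes c).symm
  haveI : IsScalarTower K G (F ⧸ RingHom.ker π.toRingHom) :=
    IsScalarTower.of_algebraMap_eq fun c => (e.symm.commutes c).symm
  have hsm : ∀ (A B : Type u) [CommRing A] [CommRing B] [Algebra K A] [Algebra K B] [Algebra A B]
      [IsScalarTower K A B] (a : A) (m : Ω[A⁄K]),
      KaehlerDifferential.map K K A B (a • m) = algebraMap A B a • KaehlerDifferential.map K K A B m := fun A B _ _ _ _ _ _ a m => by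
    rw [map_smul, algebraMap_smul]
  have hmk : ∀ s, algebraMap (F ⧸ RingHom.ker π.toRingHom) G (Ideal.Quotient.mk _ s) = π s := fun s => rfl
  have hmk' : ∀ s, algebraMap G (F ⧸ RingHom.ker π.toRingHom) (π s) = Ideal.Quotient.mk _ s := fun s =>
    (congrArg e.symm (hmk s).symm).trans (e.symm_apply_apply _)
  constructor
  · intro h m
    obtain ⟨m', rfl⟩ := KaehlerDifferential.map_surjective_of_surjective K K (F ⧸ RingHom.ker π.toRingHom) G
      e.surjective m
    obtain ⟨s, hs, hm⟩ := h m'
    exact ⟨s, hs, by rw [← hmk, ← hsm, hm, map_zero]⟩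
  · intro h m
    obtain ⟨m', rfl⟩ := KaehlerDifferential.map_surjective_of_surjective K K G (F ⧸ RingHom.ker π.toRingHom)
      e.symm.surjective m
    obtain ⟨s, hs, hm⟩ := h m'
    exact ⟨s, hs, by rw [← hmk', ← hsm, hm, map_zero]⟩

variable {R A : Type u} [CommRing R] [CommRing A] [Algebra R A] [Algebra.FiniteType R A]

/-- **unramifiedness of `A ⧸ J` in the fibre through `Q`** -/
theorem formallyUnramified_fibre_iff (J : Ideal A) (K : Type u) [CommRing K] [Algebra R K]
    (Q : Ideal (K ⊗[R] A)) [Q.IsPrime] (q : PrimeSpectrum A)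
    (hq : Q.comap (Algebra.TensorProduct.includeRight : A →ₐ[R] K ⊗[R] A).toRingHom = q.asIdeal) :
    Algebra.FormallyUnramified K (Localization.AtPrime Q ⧸
        (J.map (Algebra.TensorProduct.includeRight : A →ₐ[R] K ⊗[R] A).toRingHom).map
          (algebraMap (K ⊗[R] A) (Localization.AtPrime Q))) ↔
      q ∉ Module.support A Ω[(A ⧸ J)⁄R] := by
  let B := A ⧸ J
  let G := K ⊗[R] B
  let π : (K ⊗[R] A) →ₐ[K] G := Algebra.TensorProduct.map (AlgHom.id K K) (Ideal.Quotient.mkₐ R J)
  have hπ : Function.Surjective π := fun z => by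
    induction z using TensorProduct.induction_on with
    | zero => exact ⟨0, map_zero _⟩
    | tmul k b =>
      obtain ⟨a, rfl⟩ := Ideal.Quotient.mk_surjective b
      exact ⟨k ⊗ₜ a, rfl⟩
    | add x y hx hy =>
      obtain ⟨⟨x, rfl⟩, ⟨y, rfl⟩⟩ := And.intro hx hy
      exact ⟨x + y, map_add _ _ _⟩
  have hker : RingHom.ker π.toRingHom =
      J.map (Algebra.TensorProduct.includeRight : A →ₐ[R] K ⊗[R] A).toRingHom := by
    have := Algebra.TensorProduct.lTensor_ker (R := R) (A := K) (Ideal.Quotient.mkₐ R J) Ideal.Quotient.mk_surjective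
    have hk : RingHom.ker (Ideal.Quotient.mkₐ R J) = J := Ideal.mk_ker
    rw [hk] at this
    exact this
  rw [formallyUnramified_localQuot_iff' K _ G π hπ _ Q hker, Module.notMem_support_iff']
  have hmem : ∀ a, Algebra.TensorProduct.includeRight a ∈ Q ↔ a ∈ q.asIdeal := fun a => by rw [← hq]; rfl
  have hπa : ∀ a, π (Algebra.TensorProduct.includeRight a) = algebraMap B G (Ideal.Quotient.mk J a) := fun a => rfl
  let e := KaehlerDifferential.tensorKaehlerEquiv R K B G
  constructor
  · intro h m
    by_cases hJ : J.map (Algebra.TensorProduct.includeRight : A →ₐ[R] K ⊗[R] A).toRingHom ≤ Q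
    · let Q' : Ideal G := Q.map π.toRingHom
      have hQ' : Q'.comap π.toRingHom = Q := by
        rw [Ideal.comap_map_of_surjective' π.toRingHom hπ, hker, sup_eq_left]; exact hJ
      haveI : Q'.IsPrime := Ideal.map_isPrime_of_surjective hπ (hker.le.trans hJ)
      have hns : (⟨Q', inferInstance⟩ : PrimeSpectrum G) ∉ Module.support G (G ⊗[B] Ω[B⁄R]) := by
        rw [Module.notMem_support_iff']
        intro n
        obtain ⟨s, hs, hn⟩ := h (e n)
        refine ⟨π s, fun hm => hs (hQ' ▸ hm), e.injective ?_⟩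
        rw [map_smul, hn, map_zero]
      rw [S6284.result, Set.mem_preimage, Module.notMem_support_iff'] at hns
      obtain ⟨r, hr, hrm⟩ := hns m
      obtain ⟨a, rfl⟩ := Ideal.Quotient.mk_surjective r
      refine ⟨a, fun ha => hr ?_, by rw [← algebraMap_smul B a m]; exact hrm⟩
      show algebraMap B G (Ideal.Quotient.mk J a) ∈ Q'
      rw [← hπa]
      exact Ideal.mem_map_of_mem _ ((hmem a).2 ha)
    · rw [Ideal.map_le_iff_le_comap, hq, SetLike.not_le_iff_exists] at hJ
      obtain ⟨a, haJ, haq⟩ := hJ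
      refine ⟨a, haq, ?_⟩
      rw [← algebraMap_smul B a m, Ideal.Quotient.algebraMap_eq, Ideal.Quotient.eq_zero_iff_mem.2 haJ, zero_smul]
  · intro h n
    obtain ⟨t, rfl⟩ := e.surjective n
    induction t using TensorProduct.induction_on with
    | zero => exact ⟨1, fun h1 => ‹Q.IsPrime›.ne_top ((Ideal.eq_top_iff_one _).2 h1), by simp⟩
    | tmul g m =>
      obtain ⟨a, ha, ham⟩ := h m
      refine ⟨Algebra.TensorProduct.includeRight a, fun hm => ha ((hmem a).1 hm), ?_⟩
      have h0 : Ideal.Quotient.mk J a • m = 0 := by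
        rw [← Ideal.Quotient.algebraMap_eq, algebraMap_smul]; exact ham
      refine (map_smul e _ _).symm.trans ?_
      rw [hπa, TensorProduct.smul_tmul', algebraMap_smul, TensorProduct.smul_tmul, h0, TensorProduct.tmul_zero,
        map_zero]
    | add x y hx hy =>
      obtain ⟨s, hs, hsx⟩ := hx
      obtain ⟨t, ht, hty⟩ := hy
      refine ⟨s * t, fun hm => (‹Q.IsPrime›.mem_or_mem hm).elim hs ht, ?_⟩
      rw [map_add, map_mul]
      refine (smul_add (π s * π t) (e x) (e y)).trans ?_
      rw [show (π s * π t) • e y = π s • π t • e y from mul_smul (π s) (π t) (e y), hty, smul_zero, add_zero,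
        show (π s * π t) • e x = π t • π s • e x from by rw [mul_comm]; exact mul_smul (π t) (π s) (e x), hsx, smul_zero]

end Groth.Agent.NodeFib
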