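import Groth.Agent.NodeFib.Field
import Groth.Agent.NodeFib.Family
import Groth.Agent.NodeFib.UnramFib
import Groth.Agent.S9169
import Groth.Agent.S9367
import Groth.Agent.SyntLib.Hom

/-!
The locus of good points of a flat morphism of finite presentation is open.
-/

set_option autoImplicit false
set_option linter.style.haveILetI false
set_option backward.isDefEq.respectTransparency false
set_option backward.isDefEq.respectTransparency.types false

universe u

open CategoryTheory CategoryTheory.Limits AlgebraicGeometry TensorProduct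

namespace Groth.Agent.NodeFib

/-- good points of a scheme over a field -/
theorem good_field_iff {K : Type u} [Field K] {P : Scheme.{u}} (q : P ⟶ Spec (CommRingCat.of K))
    [LocallyOfFinitePresentation q] (x : P) : Good q x ↔ FlatMor.localDim P x = 1 ∧ SN q x := by
  rw [Good, CMChart.fibreDimAt_eq_localDim]
  refine and_congr_right fun _ => ?_
  have h := sn_of_isPullback (K := K) (L := (Spec (CommRingCat.of K)).residueField (q x)) q
    ((Spec (CommRingCat.of K)).fromSpecResidueField (q x)) (q.fiberι (q x)) (q.fiberToSpecResidueField (q x))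
    (IsPullback.of_hasPullback _ _) (q.asFiber x)
  rwa [q.fiberι_asFiber] at h

variable {R A : Type u} [CommRing R] [CommRing A] [Algebra R A] [Algebra.FinitePresentation R A]

/-- the structure morphism -/
noncomputable abbrev relMor (R A : Type u) [CommRing R] [CommRing A] [Algebra R A] :
    Spec (CommRingCat.of A) ⟶ Spec (CommRingCat.of R) :=
  Spec.map (CommRingCat.ofHom (algebraMap R A))

instance : LocallyOfFinitePresentation (relMor R A) :=
  (HasRingHomProperty.Spec_iff (P := @LocallyOfFinitePresentation)).mpr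
    (RingHom.finitePresentation_algebraMap.mpr inferInstance)

omit [Algebra.FinitePresentation R A] in
theorem exists_prime_fibre (q : PrimeSpectrum A) (p : PrimeSpectrum R)
    (hp : p = PrimeSpectrum.comap (algebraMap R A) q) :
    ∃ Q : PrimeSpectrum (p.asIdeal.ResidueField ⊗[R] A), Q.asIdeal.comap
      (Algebra.TensorProduct.includeRight : A →ₐ[R] p.asIdeal.ResidueField ⊗[R] A).toRingHom = q.asIdeal := by
  let κ := p.asIdeal.ResidueField
  have sq := (isPullback_SpecMap_of_isPushout _ _ _ _ (CommRingCat.isPushout_tensorProduct R κ A)).flip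
  have h0 : Spec.map (CommRingCat.ofHom (algebraMap R κ)) (IsLocalRing.closedPoint κ) = relMor R A q := by
    refine PrimeSpectrum.ext ?_
    show (IsLocalRing.maximalIdeal κ).comap (algebraMap R κ) = (q.asIdeal).comap (algebraMap R A)
    rw [IsLocalRing.maximalIdeal_eq_bot, ← RingHom.ker_eq_comap_bot, Ideal.ker_algebraMap_residueField, hp]
    rfl
  obtain ⟨z, hz, -⟩ := Scheme.exists_preimage_of_isPullback sq (q : Spec (CommRingCat.of A))
    (IsLocalRing.closedPoint κ) h0.symm
  exact ⟨z, congrArg PrimeSpectrum.asIdeal hz⟩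

/-- **good points, ring theoretically** -/
theorem good_affine_iff (q : PrimeSpectrum A) (p : PrimeSpectrum R)
    (Q : PrimeSpectrum (p.asIdeal.ResidueField ⊗[R] A))
    (hQ : Q.asIdeal.comap
      (Algebra.TensorProduct.includeRight : A →ₐ[R] p.asIdeal.ResidueField ⊗[R] A).toRingHom = q.asIdeal) :
    Good (relMor R A) q ↔ FlatMor.fibreDimAt (relMor R A) q = 1 ∧
      Synt.IsCIOver p.asIdeal.ResidueField (Localization.AtPrime Q.asIdeal) ∧
      q ∉ Module.support A Ω[(A ⧸ Fitt.ideal A Ω[A⁄R] 1)⁄R] := by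
  let κ := p.asIdeal.ResidueField
  let F := κ ⊗[R] A
  have sq := (isPullback_SpecMap_of_isPushout _ _ _ _ (CommRingCat.isPushout_tensorProduct R κ A)).flip
  haveI : LocallyOfFinitePresentation (specMor κ F) :=
    (HasRingHomProperty.Spec_iff (P := @LocallyOfFinitePresentation)).mpr
      (RingHom.finitePresentation_algebraMap.mpr inferInstance)
  have hg := good_baseChange (relMor R A) (Spec.map (CommRingCat.ofHom (algebraMap R κ)))
    (Spec.map (CommRingCat.ofHom (Algebra.TensorProduct.includeRight : A →ₐ[R] F).toRingHom)) (specMor κ F) sq Q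
  have hq : Spec.map (CommRingCat.ofHom (Algebra.TensorProduct.includeRight : A →ₐ[R] F).toRingHom)
      (Q : Spec (CommRingCat.of F)) = q := PrimeSpectrum.ext hQ
  have hdim : FlatMor.fibreDimAt (relMor R A) q = FlatMor.localDim (PrimeSpectrum F) Q := by
    rw [← hq, ← LocalDimBC.fibreDimAt_of_isPullback (relMor R A) _ _ (specMor κ F) sq Q,
      CMChart.fibreDimAt_eq_localDim]
    rfl
  rw [hq] at hg
  rw [← hg, good_field_iff, hdim]
  refine and_congr_right fun hd => ?_
  rw [sn_spec_iff Q hd, FittLib.ideal_kaehler_baseChange]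
  exact and_congr_right fun _ => formallyUnramified_fibre_iff (Fitt.ideal A Ω[A⁄R] 1) κ Q.asIdeal q hQ

/-- openness in the affine case -/
theorem isOpen_good_affine [Module.Flat R A] : IsOpen {x : Spec (CommRingCat.of A) | Good (relMor R A) x} := by
  let J := Fitt.ideal A Ω[A⁄R] 1
  haveI : Module.Finite (A ⧸ J) Ω[(A ⧸ J)⁄R] := inferInstance
  haveI : Module.Finite A Ω[(A ⧸ J)⁄R] := Module.Finite.trans (A ⧸ J) _
  have hbad : IsOpen (Module.support A Ω[(A ⧸ J)⁄R])ᶜ := by
    rw [Module.support_eq_zeroLocus]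
    exact (PrimeSpectrum.isClosed_zeroLocus _).isOpen_compl
  refine isOpen_iff_forall_mem_open.2 fun x hx => ?_
  let q : PrimeSpectrum A := x
  obtain ⟨Q, hQ⟩ := exists_prime_fibre q (PrimeSpectrum.comap (algebraMap R A) q) rfl
  obtain ⟨hd, hci, hns⟩ := (good_affine_iff q _ Q hQ).1 hx
  haveI : q.asIdeal.LiesOver (PrimeSpectrum.comap (algebraMap R A) q).asIdeal := ⟨rfl⟩
  haveI : Algebra.FinitePresentation R (Localization.Away (1 : A)) :=
    Algebra.FinitePresentation.trans R A (Localization.Away (1 : A))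
  haveI : Module.Flat A (Localization.AtPrime q.asIdeal) := IsLocalization.flat _ q.asIdeal.primeCompl
  haveI : Module.Flat R (Localization.AtPrime q.asIdeal) := Module.Flat.trans R A _
  obtain ⟨g, hgq, hsyn⟩ := (S9169.result R A (PrimeSpectrum.comap (algebraMap R A) q).asIdeal q.asIdeal Q.asIdeal
    hQ).2.2 ⟨1, fun h => q.isPrime.ne_top ((Ideal.eq_top_iff_one _).2 h), inferInstance, inferInstance, hci⟩
  let j : Spec (CommRingCat.of (Localization.Away g)) ⟶ Spec (CommRingCat.of A) :=
    Spec.map (CommRingCat.ofHom (algebraMap A (Localization.Away g)))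
  haveI : IsOpenImmersion j := IsOpenImmersion.of_isLocalization g
  have hcomp : j ≫ relMor R A = relMor R (Localization.Away g) := by
    rw [← Spec.map_comp, ← CommRingCat.ofHom_comp, ← IsScalarTower.algebraMap_eq]
  have hlc := S9367.result (relMor R (Localization.Away g)) (by
    rw [SyntLib.isSyntomicMor_iff, HasRingHomProperty.Spec_iff (P := SyntLib.SynMor.{u})]
    exact SyntLib.syn_algebraMap.mpr hsyn)
  have hj : ∀ z, FlatMor.fibreDimAt (relMor R (Localization.Away g)) z = FlatMor.fibreDimAt (relMor R A) (j z) := fun z => by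
    rw [← hcomp, LocalDimBC.fibreDimAt_openImmersion_comp]
  obtain ⟨z₀, hz₀⟩ : x ∈ Set.range j := by
    have hr : Set.range j = (PrimeSpectrum.basicOpen g : Set (PrimeSpectrum A)) :=
      PrimeSpectrum.localization_away_comap_range (Localization.Away g) g
    rw [hr]
    exact hgq
  refine ⟨j '' {z | FlatMor.fibreDimAt (relMor R (Localization.Away g)) z = 1} ∩
    (Module.support A Ω[(A ⧸ J)⁄R])ᶜ, ?_,
    (j.isOpenMap _ (hlc.isOpen_fiber _)).inter hbad, ⟨z₀, by rw [Set.mem_setOf_eq, hj, hz₀]; exact hd, hz₀⟩, hns⟩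
  rintro y ⟨⟨z, hz, hzy⟩, hns'⟩
  let q' : PrimeSpectrum A := y
  obtain ⟨Q', hQ'⟩ := exists_prime_fibre q' (PrimeSpectrum.comap (algebraMap R A) q') rfl
  refine (good_affine_iff q' _ Q' hQ').2 ⟨?_, ?_, hns'⟩
  · show FlatMor.fibreDimAt (relMor R A) y = 1
    rw [← hzy, ← hj]
    exact hz
  · have hgy : g ∉ q'.asIdeal := by
      have h1 : y ∈ Set.range j := ⟨z, hzy⟩
      have hr : Set.range j = (PrimeSpectrum.basicOpen g : Set (PrimeSpectrum A)) :=
        PrimeSpectrum.localization_away_comap_range (Localization.Away g) g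
      rw [hr] at h1
      exact h1
    haveI : q'.asIdeal.LiesOver (PrimeSpectrum.comap (algebraMap R A) q').asIdeal := ⟨rfl⟩
    obtain ⟨_, _, _, _, hci'⟩ := (S9169.result R A (PrimeSpectrum.comap (algebraMap R A) q').asIdeal q'.asIdeal
      Q'.asIdeal hQ').2.1 ⟨g, hgy, hsyn⟩
    exact hci'

/-- **the good locus is open** -/
theorem isOpen_good {X S : Scheme.{u}} (f : X ⟶ S) [Flat f] [LocallyOfFinitePresentation f] :
    IsOpen {x | Good f x} := by
  refine isOpen_iff_forall_mem_open.2 fun x hx => ?_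
  obtain ⟨_, ⟨U, hU, rfl⟩, hxU, -⟩ :=
    S.isBasis_affineOpens.exists_subset_of_mem_open (Set.mem_univ (f x)) isOpen_univ
  obtain ⟨V, hV, hxV, hVU⟩ := exists_isAffineOpen_mem_and_subset (show x ∈ f ⁻¹ᵁ U from hxU)
  algebraize [(f.appLE U V hVU).hom]
  haveI : Algebra.FinitePresentation Γ(S, U) Γ(X, V) := f.finitePresentation_appLE hU hV hVU
  haveI : Module.Flat Γ(S, U) Γ(X, V) := f.flat_appLE hU hV hVU
  have he : relMor Γ(S, U) Γ(X, V) ≫ hU.fromSpec = hV.fromSpec ≫ f :=
    IsAffineOpen.SpecMap_appLE_fromSpec f hU hV hVU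
  have key : ∀ z, Good (relMor Γ(S, U) Γ(X, V)) z ↔ Good f (hV.fromSpec z) := fun z => by
    rw [← good_etale_comp hV.fromSpec f z, ← good_comp_etale (relMor Γ(S, U) Γ(X, V)) hU.fromSpec z]
    simp only [he]
  obtain ⟨z, hz⟩ : x ∈ Set.range hV.fromSpec := hV.range_fromSpec.ge hxV
  refine ⟨hV.fromSpec '' {z | Good (relMor Γ(S, U) Γ(X, V)) z}, ?_,
    hV.fromSpec.isOpenMap _ isOpen_good_affine, ⟨z, (key z).2 (hz ▸ hx), hz⟩⟩
  rintro _ ⟨w, hw, rfl⟩
  exact (key w).1 hw

end Groth.Agent.NodeFib
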