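import Groth.Agent.NodeFib.Fitt
import Groth.Agent.SyntLib.CIMor
import Groth.Agent.Cohen.Structure

/-!
Quadratic local rings are complete intersections with maximal first Fitting ideal of the differentials.
-/

set_option autoImplicit false
set_option linter.style.haveILetI false

universe u

open IsLocalRing TensorProduct RingTheory.Sequence

namespace Groth.Agent.NodeFib

open NodeChar

variable {k O : Type u} [Field k] [CommRing O] [IsLocalRing O] [IsNoetherianRing O] [Algebra k O]
  [Algebra.EssFiniteType k O] [Algebra.IsSeparable k (ResidueField O)]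

/-- the Fitting ideal of a quadratic point is the maximal ideal -/
theorem fitt_of_isQuadLocal (h : IsQuadLocal O) : Fitt.ideal O Ω[O⁄k] 1 = maximalIdeal O := by
  have he : (maximalIdeal O).spanFinrank = 2 := by
    rw [IsLocalRing.spanFinrank_maximalIdeal_eq_finrank_cotangentSpace_of_fg (IsNoetherian.noetherian _),
      finrank_cotangent_of_isQuadLocal h]
  obtain ⟨x, y, a, b, c, hd, -⟩ := h
  let f : Fin 2 → O := ![x, y]
  have hs : Ideal.span (Set.range f) = maximalIdeal O := by
    rw [hd.span]; congr 1; simp [f, Set.pair_comm]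
  let Df : Fin 2 → Ω[O⁄k] := fun i => KaehlerDifferential.D k O (f i)
  have hsp : Submodule.span O (Set.range Df) = ⊤ := span_D (k := k) f hs
  rw [FittLib.ideal_eq_minors_fin _ hsp]
  refine le_antisymm (FittLib.minors_le fun z e hz => ?_) ?_
  · rw [show FittLib.minor z e = z 0 (e 0) from Matrix.det_fin_one _]
    exact coeff_mem_of_sum_D (k := k) f hs he _ (FittLib.mem_rel.1 (hz 0)) _
  set m := maximalIdeal O
  set D := KaehlerDifferential.D k O
  set J := FittLib.minors O Df 1
  have hxm : x ∈ m := hd.mem_x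
  have hym : y ∈ m := hd.mem_y
  let L : Fin 2 → O := ![2 * a * x + b * y, b * x + 2 * c * y]
  have hL : ∑ i, L i • Df i ∈ m ^ 2 • (⊤ : Submodule O Ω[O⁄k]) := by
    have h1 : D (qf a b c x y) ∈ m ^ 2 • (⊤ : Submodule O Ω[O⁄k]) := D_mem_pow_smul hd.mem
    have h2 : (x ^ 2) • D a + (x * y) • D b + (y ^ 2) • D c ∈ m ^ 2 • (⊤ : Submodule O Ω[O⁄k]) := by
      refine add_mem (add_mem ?_ ?_) ?_ <;> refine Submodule.smul_mem_smul ?_ Submodule.mem_top
      · exact Ideal.pow_mem_pow hxm 2
      · rw [pow_two]; exact Ideal.mul_mem_mul hxm hym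
      · exact Ideal.pow_mem_pow hym 2
    have h3 := sub_mem h1 h2
    convert! h3 using 1
    simp only [Fin.sum_univ_two, L, Df, f, Matrix.cons_val_zero, Matrix.cons_val_one, qf, map_add, Derivation.leibniz,
      Derivation.leibniz_pow, D]
    module
  rw [← hsp] at hL
  obtain ⟨u, hu, hus⟩ := (Submodule.mem_ideal_smul_span_iff_exists_sum _ _ _).1 hL
  rw [Finsupp.sum_fintype u (fun i c => c • Df i) (fun i => zero_smul _ _)] at hus
  have hz : (fun i => L i - u i) ∈ FittLib.rel O Df := by
    rw [FittLib.mem_rel]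
    simp only [sub_smul, Finset.sum_sub_distrib, hus, sub_self]
  have hmem : ∀ i, L i ∈ J ⊔ m ^ 2 := fun i => by
    have h1 : L i - u i ∈ J := by
      have := FittLib.minor_mem_minors (x := Df) (z := fun _ : Fin 1 => fun i => L i - u i) (fun _ => hz)
        (fun _ => i)
      rwa [show FittLib.minor (fun _ : Fin 1 => fun i => L i - u i) (fun _ => i) = L i - u i from
        Matrix.det_fin_one _] at this
    rw [show L i = (L i - u i) + u i by ring]
    exact Submodule.add_mem_sup h1 (hu i)
  have hd' : IsUnit (4 * a * c - b ^ 2) := by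
    rw [show 4 * a * c - b ^ 2 = -disc a b c by simp [disc]]; exact hd.isUnit_disc.neg
  obtain ⟨v, hv⟩ := hd'.exists_left_inv
  refine Submodule.le_of_le_smul_of_le_jacobson_bot (IsNoetherian.noetherian _) (maximalIdeal_le_jacobson _) ?_
  rw [smul_eq_mul, ← pow_two]
  refine hd.span.le.trans (Ideal.span_le.2 ?_)
  rintro z hzm
  rcases hzm with hzx | hzy
  · rw [hzx]
    have hx2 : v * (2 * c * L 0 - b * L 1) ∈ J ⊔ m ^ 2 :=
      Ideal.mul_mem_left _ _ (sub_mem (Ideal.mul_mem_left _ _ (hmem 0)) (Ideal.mul_mem_left _ _ (hmem 1)))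
    have e : v * (2 * c * L 0 - b * L 1) = x := by
      simp only [L, Matrix.cons_val_zero, Matrix.cons_val_one]
      linear_combination x * hv
    rwa [e] at hx2
  · rw [show z = y from hzy]
    have hy2 : v * (2 * a * L 1 - b * L 0) ∈ J ⊔ m ^ 2 :=
      Ideal.mul_mem_left _ _ (sub_mem (Ideal.mul_mem_left _ _ (hmem 1)) (Ideal.mul_mem_left _ _ (hmem 0)))
    have e : v * (2 * a * L 1 - b * L 0) = y := by
      simp only [L, Matrix.cons_val_zero, Matrix.cons_val_one]
      linear_combination y * hv
    rwa [e] at hy2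

/-- a quadratic point is a complete intersection -/
theorem ci_of_isQuadLocal (h : IsQuadLocal O) : Synt.IsCIOver k O := by
  rw [SyntLib.isCIOver_iff_isCompleteIntersection]
  obtain ⟨a, b, c, hd, e, -⟩ := exists_model_completion k h
  let P := MvPowerSeries (Fin 2) (ResidueField O)
  haveI : IsRegularLocalRing P := Cohen.isRegularLocalRing_mvPowerSeries (ResidueField O) 2
  have hq : qPS a b c ∈ maximalIdeal P := span_qPS_le a b c (Ideal.subset_span rfl)
  have hne : qPS a b c ≠ 0 := by
    intro h0
    classical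
    have he : qPS a b c = MvPowerSeries.monomial (Finsupp.single (0 : Fin 2) 2) a +
        MvPowerSeries.monomial (Finsupp.single (0 : Fin 2) 1 + Finsupp.single 1 1) b +
        MvPowerSeries.monomial (Finsupp.single (1 : Fin 2) 2) c := by
      rw [qPS, MvPowerSeries.X_pow_eq, MvPowerSeries.X_pow_eq]
      simp only [← MvPowerSeries.monomial_zero_eq_C_apply, MvPowerSeries.X_def,
        MvPowerSeries.monomial_mul_monomial, zero_add, mul_one]
    have h1 := congrArg (MvPowerSeries.coeff (Finsupp.single (0 : Fin 2) 2)) (he.symm.trans h0)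
    have h2 := congrArg (MvPowerSeries.coeff (Finsupp.single (1 : Fin 2) 2)) (he.symm.trans h0)
    have h3 := congrArg (MvPowerSeries.coeff (Finsupp.single (0 : Fin 2) 1 + Finsupp.single 1 1)) (he.symm.trans h0)
    simp [MvPowerSeries.coeff_monomial, Finsupp.ext_iff, Fin.forall_fin_two] at h1 h2 h3
    simp [disc, h1, h2, h3] at hd
  refine ⟨P, inferInstance, inferInstance, [qPS a b c],
    fun r hr => List.mem_singleton.1 hr ▸ hq, ?_, ⟨e.trans (Ideal.quotEquivOfEq ?_)⟩⟩
  · refine (isRegular_iff_isWeaklyRegular_of_subset_maximalIdeal fun r hr => List.mem_singleton.1 hr ▸ hq).2 ?_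
    refine (isWeaklyRegular_cons_iff _ _ _).2 ⟨?_, IsWeaklyRegular.nil _ _⟩
    exact fun x y hxy => mul_left_cancel₀ hne hxy
  · congr 1; simp

end Groth.Agent.NodeFib
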