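import Groth.Agent.NodeFib.NormalChart

/-!
Smooth points of flat families of curves: one étale coordinate; with the nodes this covers all good points.
-/

set_option autoImplicit false
set_option linter.style.haveILetI false
set_option backward.isDefEq.respectTransparency false
set_option backward.isDefEq.respectTransparency.types false

universe u

open CategoryTheory CategoryTheory.Limits AlgebraicGeometry TensorProduct

namespace Groth.Agent.NodeFib

variable {R A : Type u} [CommRing R] [CommRing A] [Algebra R A] [Algebra.FinitePresentation R A]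

/-- good points in the critical locus are nodes -/
theorem node_of_fitt_le (q : PrimeSpectrum A) (hg : Good (relMor R A) q)
    (hF : Fitt.ideal A Ω[A⁄R] 1 ≤ q.asIdeal) : Node (relMor R A) q := by
  let p := PrimeSpectrum.comap (algebraMap R A) q
  obtain ⟨Q, hQ⟩ := exists_prime_fibre q p rfl
  let κ := p.asIdeal.ResidueField
  let F := κ ⊗[R] A
  have sq := (isPullback_SpecMap_of_isPushout _ _ _ _ (CommRingCat.isPushout_tensorProduct R κ A)).flip
  haveI : LocallyOfFinitePresentation (specMor κ F) :=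
    (HasRingHomProperty.Spec_iff (P := @LocallyOfFinitePresentation)).mpr
      (RingHom.finitePresentation_algebraMap.mpr inferInstance)
  have hgood := good_baseChange (relMor R A) (Spec.map (CommRingCat.ofHom (algebraMap R κ)))
    (Spec.map (CommRingCat.ofHom (Algebra.TensorProduct.includeRight : A →ₐ[R] F).toRingHom)) (specMor κ F) sq Q
  have hnode := node_baseChange (relMor R A) (Spec.map (CommRingCat.ofHom (algebraMap R κ)))
    (Spec.map (CommRingCat.ofHom (Algebra.TensorProduct.includeRight : A →ₐ[R] F).toRingHom)) (specMor κ F) sq Q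
  have hq : Spec.map (CommRingCat.ofHom (Algebra.TensorProduct.includeRight : A →ₐ[R] F).toRingHom)
      (Q : Spec (CommRingCat.of F)) = q := PrimeSpectrum.ext hQ
  rw [hq] at hgood hnode
  obtain ⟨hd, hsn⟩ := (good_field_iff (specMor κ F) (Q : Spec (CommRingCat.of F))).1 (hgood.2 hg)
  refine hnode.1 ((node_field_iff (specMor κ F) _).2 ?_)
  rcases hsn with hs | hn
  · rw [smooth_iff_mem, mem_smoothLocus_spec_iff, isSmoothAt_iff_not_le Q hd] at hs
    refine absurd ?_ hs
    rw [FittLib.ideal_kaehler_baseChange, Ideal.map_le_iff_le_comap, hQ]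
    exact hF
  · exact hn

omit [Algebra.FinitePresentation R A] in
/-- outside the first Fitting ideal some partial derivative of the equation is invertible -/
theorem exists_pd_not_mem {T : Type u} [CommRing T] [Algebra R T] {z : Fin 2 → T} (h : IsChart R z) (G : T)
    (q : Ideal (T ⧸ Ideal.span {G})) [q.IsPrime]
    (hF : ¬Fitt.ideal (T ⧸ Ideal.span {G}) Ω[(T ⧸ Ideal.span {G})⁄R] 1 ≤ q) :
    ∃ i, Ideal.Quotient.mk (Ideal.span {G}) (h.pd i G) ∉ q := by
  classical
  by_contra hne
  simp only [not_exists, not_not] at hne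
  haveI := h.finitePresentation
  haveI : Algebra.FinitePresentation R (T ⧸ Ideal.span {G}) :=
    Algebra.FinitePresentation.quotient (Submodule.fg_span_singleton G)
  let B := T ⧸ Ideal.span {G}
  let κ := q.ResidueField
  let π : T →ₐ[R] B := Ideal.Quotient.mkₐ R _
  let r : T →+* κ := (algebraMap B κ).comp π.toRingHom
  have hr : ∀ i, r (h.pd i G) = 0 := fun i =>
    RingHom.mem_ker.1 ((Ideal.ker_algebraMap_residueField q).ge (hne i))
  have hrG : r G = 0 := by
    show algebraMap B κ (π G) = 0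
    rw [show π G = 0 from Ideal.Quotient.eq_zero_iff_mem.2 (Ideal.mem_span_singleton_self G), map_zero]
  haveI : IsScalarTower R B (Fin 2 → κ) := ⟨fun a x v => funext fun i => smul_assoc a x (v i)⟩
  obtain ⟨D', hD'⟩ := exists_der π Ideal.Quotient.mk_surjective (M := Fin 2 → κ)
    { toFun := fun t i => r (h.pd i t)
      map_add' := fun a b => funext fun i => by simp
      map_smul' := fun a t => funext fun i => by
        show (IsScalarTower.toAlgHom R B κ) (π (h.pd i (a • t))) = a • (IsScalarTower.toAlgHom R B κ) (π (h.pd i t))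
        rw [Derivation.map_smul, map_smul, map_smul] }
    (fun a b => funext fun i => by
      show r (h.pd i (a * b)) = π a • r (h.pd i b) + π b • r (h.pd i a)
      rw [Derivation.leibniz, smul_eq_mul, smul_eq_mul, map_add, map_mul, map_mul, Algebra.smul_def, Algebra.smul_def]
      rfl)
    (fun t ht => funext fun i => by
      obtain ⟨a, rfl⟩ := Ideal.mem_span_singleton'.1 (Ideal.Quotient.eq_zero_iff_mem.1 ht)
      show r (h.pd i (a * G)) = 0
      rw [Derivation.leibniz, smul_eq_mul, smul_eq_mul, map_add, map_mul, map_mul, hr, hrG, mul_zero, zero_mul,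
        add_zero])
  let L := D'.liftKaehlerDifferential.liftBaseChange κ
  have hL : Function.Surjective L := by
    rw [← LinearMap.range_eq_top, eq_top_iff, ← (Pi.basisFun κ (Fin 2)).span_eq, Submodule.span_le]
    rintro _ ⟨i, rfl⟩
    refine ⟨(1 : κ) ⊗ₜ KaehlerDifferential.D R B (π (z i)), ?_⟩
    rw [LinearMap.liftBaseChange_tmul, one_smul, Derivation.liftKaehlerDifferential_comp_D, hD', Pi.basisFun_apply]
    funext j
    show r (h.pd j (z i)) = (Pi.single i 1 : Fin 2 → κ) j
    rw [h.pd_z]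
    rcases eq_or_ne i j with rfl | hij
    · simp
    · simp [hij, hij.symm]
  have h1 := L.finrank_range_le
  rw [LinearMap.range_eq_top.2 hL, finrank_top, Module.finrank_fin_fun] at h1
  have h2 : Module.finrank κ (κ ⊗[B] Ω[B⁄R]) ≤ 1 := finrank_le_of_not_le q hF
  omega

/-- **smooth points have an étale coordinate, invertible at the point** -/
theorem exists_line_chart [Module.Flat R A] (q : PrimeSpectrum A) (hg : Good (relMor R A) q)
    (hn : ¬Node (relMor R A) q) :
    ∃ (E : Type u) (_ : CommRing E) (_ : Algebra R E) (ψ : A →ₐ[R] E) (z : Fin 1 → E),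
      ψ.toRingHom.Etale ∧ IsChart R z ∧ IsUnit (z 0) ∧
        ∃ p : PrimeSpectrum E, PrimeSpectrum.comap ψ.toRingHom p = q := by
  classical
  -- it suffices to find a chart
  suffices h : ∃ (E : Type u) (_ : CommRing E) (_ : Algebra R E) (ψ : A →ₐ[R] E) (z : Fin 1 → E),
      ψ.toRingHom.Etale ∧ IsChart R z ∧ ∃ p : PrimeSpectrum E, PrimeSpectrum.comap ψ.toRingHom p = q by
    obtain ⟨E, i1, i2, ψ, z, hψ, hz, p, hp⟩ := h
    obtain ⟨s, hs⟩ : ∃ s : E, s ∉ p.asIdeal ∧ ∃ c : R, s = z 0 + algebraMap R E c := by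
      by_cases h0 : z 0 ∈ p.asIdeal
      · refine ⟨z 0 + algebraMap R E 1, fun h1 => p.isPrime.ne_top ((Ideal.eq_top_iff_one _).2 ?_), 1, rfl⟩
        simpa using sub_mem h1 h0
      · exact ⟨z 0, h0, 0, by simp⟩
    obtain ⟨hsp, c, rfl⟩ := hs
    let s := z 0 + algebraMap R E c
    have hz' : IsChart R (fun _ : Fin 1 => s) := hz.jac _ (by
      rw [Matrix.det_fin_one]
      show IsUnit (hz.pd 0 (z 0 + algebraMap R E c))
      rw [map_add, Derivation.map_algebraMap, add_zero, hz.pd_z, if_pos rfl]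
      exact isUnit_one)
    obtain ⟨p', hp'⟩ : p ∈ Set.range (PrimeSpectrum.comap (algebraMap E (Localization.Away s))) := by
      rw [PrimeSpectrum.localization_away_comap_range (Localization.Away s) s]
      exact hsp
    refine ⟨Localization.Away s, inferInstance, inferInstance, (IsScalarTower.toAlgHom R E _).comp ψ, _,
      RingHom.Etale.stableUnderComposition _ _ hψ
        (RingHom.etale_algebraMap.2 (inferInstanceAs (Algebra.Etale E (Localization.Away s)))),
      hz'.away s, IsLocalization.Away.algebraMap_isUnit s, p', ?_⟩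
    rw [← hp, ← hp']
    rfl
  obtain ⟨n, c, F, hF, hnc, ψ₁, hψ₁, q₁, hq₁⟩ := exists_curve_presentation q hg
  haveI : Algebra.FinitePresentation R (Synt.RelGCIRing R n c F) := (SyntLib.isSyntomic_relGCI hF).2.1
  rcases Nat.eq_zero_or_pos c with hc | hc
  · subst hc
    obtain rfl : n = 1 := hnc
    let π : MvPolynomial (Fin 1) R →ₐ[R] Synt.RelGCIRing R 1 0 F := Ideal.Quotient.mkₐ R _
    have hπ : Function.Bijective π.toRingHom :=
      ⟨(injective_iff_map_eq_zero _).2 fun x hx => by
        have h1 : x ∈ Ideal.span (Set.range F) := Ideal.Quotient.eq_zero_iff_mem.1 hx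
        rwa [Set.range_eq_empty F, Ideal.span_empty, Ideal.mem_bot] at h1, Ideal.Quotient.mk_surjective⟩
    exact ⟨_, inferInstance, inferInstance, ψ₁, π ∘ MvPolynomial.X, hψ₁,
      (isChart_poly R R 1).comp π (RingHom.Etale.of_bijective hπ), q₁, hq₁⟩
  obtain ⟨l, rfl⟩ : ∃ l, c = l + 1 := ⟨c - 1, by omega⟩
  obtain rfl : n = 2 + l := by omega
  obtain ⟨hg₁, hn₁⟩ := transfer_etale ψ₁ hψ₁ q₁
  rw [hq₁] at hg₁ hn₁
  have h1 : ¬Fitt.ideal _ Ω[Synt.RelGCIRing R (2 + l) (l + 1) F⁄R] 1 ≤ q₁.asIdeal := fun h =>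
    hn (hn₁.1 (node_of_fitt_le q₁ (hg₁.2 hg) h))
  have h2 : ¬Fitt.ideal _ Ω[Synt.RelGCIRing R (2 + l) (l + 1) F⁄R] 2 ≤ q₁.asIdeal := fun h => by
    refine h1 (le_trans ?_ h)
    rw [FittLib.ideal_eq_minors_fin _ (span_D_mk (Ideal.span (Set.range F))) 1,
      FittLib.ideal_eq_minors_fin _ (span_D_mk (Ideal.span (Set.range F))) 2]
    exact FittLib.minors_antitone _ (by omega)
  obtain ⟨T, _, _, z, hz, G, ψ₂, hψ₂, q₂, hq₂, hq₂c⟩ := exists_hypersurface F q₁.asIdeal h2
  haveI := hz.finitePresentation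
  haveI : Algebra.FinitePresentation R (T ⧸ Ideal.span {G}) :=
    Algebra.FinitePresentation.quotient (Submodule.fg_span_singleton G)
  have e2 : PrimeSpectrum.comap ψ₂.toRingHom ⟨q₂, hq₂⟩ = q₁ := PrimeSpectrum.ext hq₂c
  obtain ⟨hg₂, hn₂⟩ := transfer_etale ψ₂ hψ₂ ⟨q₂, hq₂⟩
  rw [e2] at hg₂ hn₂
  obtain ⟨i, hi⟩ := exists_pd_not_mem hz G q₂ fun h =>
    hn (hn₁.1 (hn₂.1 (node_of_fitt_le _ (hg₂.2 (hg₁.2 hg)) h)))
  let T' := Localization.Away (hz.pd i G)
  let a : T →ₐ[R] T' := IsScalarTower.toAlgHom R T T'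
  have h' : IsChart R (a ∘ z) := hz.away _
  have hpd : ∀ k t, h'.pd k (a t) = a (hz.pd k t) := fun k t => pd_map hz h' a k (fun j => h'.pd_z k j) t
  let g : Fin 2 → T' := ![a (z (1 - i)), a G]
  have hgc : IsChart R g := h'.jac g (by
    rw [Matrix.det_fin_two]
    simp only [g, Matrix.of_apply, Matrix.cons_val_zero, Matrix.cons_val_one, hpd, hz.pd_z]
    have hu : IsUnit (a (hz.pd i G)) := IsLocalization.Away.algebraMap_isUnit _
    fin_cases i
    · simpa using hu.neg
    · simpa using hu)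
  let K : Ideal T' := Ideal.span (Set.range (g ∘ Fin.natAdd 1 : Fin 1 → T'))
  have hK : K = (Ideal.span {G}).map a.toRingHom := by
    rw [Ideal.map_span, Set.image_singleton]
    refine congrArg Ideal.span ?_
    ext x
    simp [g, eq_comm]
  let ψ₃ : (T ⧸ Ideal.span {G}) →ₐ[R] T' ⧸ K :=
    Ideal.Quotient.liftₐ _ ((Ideal.Quotient.mkₐ R K).comp a) fun x hx => by
      show Ideal.Quotient.mk K (a x) = 0
      rw [Ideal.Quotient.eq_zero_iff_mem, hK]
      exact Ideal.mem_map_of_mem a.toRingHom hx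
  have hψ₃ : ψ₃.toRingHom.Etale := by
    have h3 := quot_etale a.toRingHom (RingHom.etale_algebraMap.2 (inferInstanceAs (Algebra.Etale T T')))
      (Ideal.span {G}) K hK
    refine Eq.subst (motive := fun f => RingHom.Etale f) ?_ h3
    exact Ideal.Quotient.ringHom_ext rfl
  let q₀ : Ideal T := q₂.comap (Ideal.Quotient.mk (Ideal.span {G}))
  have hd : Disjoint ((Submonoid.powers (hz.pd i G) : Submonoid T) : Set T) q₀ := by
    rw [Set.disjoint_left]
    rintro _ ⟨k, rfl⟩ hk
    exact hi (Ideal.IsPrime.mem_of_pow_mem (I := q₀) inferInstance k hk)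
  let q' : Ideal T' := q₀.map (algebraMap T T')
  haveI : q'.IsPrime := IsLocalization.isPrime_of_isPrime_disjoint _ T' q₀ inferInstance hd
  have hKq : RingHom.ker (Ideal.Quotient.mk K) ≤ q' := by
    rw [Ideal.mk_ker, hK]
    refine Ideal.map_mono (Ideal.span_le.2 (Set.singleton_subset_iff.2 ?_))
    show Ideal.Quotient.mk _ G ∈ q₂
    rw [Ideal.Quotient.eq_zero_iff_mem.2 (Ideal.mem_span_singleton_self G)]
    exact zero_mem _
  refine ⟨T' ⧸ K, inferInstance, inferInstance, ψ₃.comp (ψ₂.comp ψ₁), _,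
    RingHom.Etale.stableUnderComposition _ _ (RingHom.Etale.stableUnderComposition _ _ hψ₁ hψ₂) hψ₃,
    IsChart.quot (m := 1) (l := 1) hgc,
    ⟨q'.map (Ideal.Quotient.mk K), Ideal.map_isPrime_of_surjective Ideal.Quotient.mk_surjective hKq⟩, ?_⟩
  have h3 : (q'.map (Ideal.Quotient.mk K)).comap ψ₃.toRingHom = q₂ := by
    refine Ideal.comap_injective_of_surjective (Ideal.Quotient.mk (Ideal.span {G})) Ideal.Quotient.mk_surjective ?_
    rw [Ideal.comap_comap, show ψ₃.toRingHom.comp (Ideal.Quotient.mk (Ideal.span {G})) =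
      (Ideal.Quotient.mk K).comp (algebraMap T T') from rfl, ← Ideal.comap_comap,
      Ideal.comap_map_of_surjective _ Ideal.Quotient.mk_surjective, ← RingHom.ker_eq_comap_bot,
      sup_eq_left.2 hKq]
    exact IsLocalization.under_map_of_isPrime_disjoint (Submonoid.powers (hz.pd i G)) T' inferInstance hd
  rw [← hq₁]
  refine PrimeSpectrum.ext ?_
  show (q'.map (Ideal.Quotient.mk K)).comap (ψ₃.toRingHom.comp (ψ₂.toRingHom.comp ψ₁.toRingHom)) =
    q₁.asIdeal.comap ψ₁.toRingHom
  rw [← Ideal.comap_comap, h3, ← Ideal.comap_comap, hq₂c]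

end Groth.Agent.NodeFib
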