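import Groth.Agent.NodeFib.Chart
import Mathlib.RingTheory.Ideal.IdempotentFG

/-!
A point of a chart with values in an étale algebra, and the second order expansion at it.
-/

set_option autoImplicit false
set_option linter.style.haveILetI false
set_option backward.isDefEq.respectTransparency false
set_option backward.isDefEq.respectTransparency.types false

universe u

open MvPolynomial TensorProduct

namespace Groth.Agent.NodeFib

/-- partial derivatives commute with maps of charts -/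
theorem pd_map {R C T B : Type u} [CommRing R] [CommRing C] [CommRing T] [CommRing B] [Algebra R C] [Algebra R T]
    [Algebra R B] [Algebra C B] [IsScalarTower R C B] {n : ℕ} {z w : Fin n → _} (h : IsChart R (z : Fin n → T))
    (hB : IsChart C (w : Fin n → B)) (φ : T →ₐ[R] B) (i : Fin n)
    (hz : ∀ j, hB.pd i (φ (z j)) = if i = j then 1 else 0) (t : T) :
    hB.pd i (φ t) = φ (h.pd i t) := by
  letI : Algebra T B := φ.toRingHom.toAlgebra
  haveI : IsScalarTower R T B := IsScalarTower.of_algebraMap_eq fun r => (φ.commutes r).symm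
  let D₁ : Derivation R T B := ((hB.pd i).restrictScalars R).compAlgebraMap T
  let D₂ : Derivation R T B := (Algebra.linearMap T B).compDer (h.pd i)
  refine DFunLike.congr_fun (show D₁ = D₂ from h.der_ext D₁ D₂ fun j => ?_) t
  show hB.pd i (φ (z j)) = φ (h.pd i (z j))
  rw [hz, h.pd_z]
  split_ifs <;> simp

/-- a section of an algebra with an empty quotient chart is cut out by the coordinates, near the section -/
theorem exists_idem {C P : Type u} [CommRing C] [CommRing P] [Algebra C P] {u : Fin 2 → P} (hu : IsChart C u)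
    (σ : P →ₐ[C] C) (hσu : ∀ i, σ (u i) = 0) :
    ∃ e : P, σ e = 1 ∧ ∀ x, σ x = 0 → e * x ∈ Ideal.span (Set.range u) := by
  have hsub : Ideal.span (Set.range (u ∘ Fin.natAdd 0 : Fin 2 → P)) = Ideal.span (Set.range u) := by
    refine congrArg (fun v : Fin 2 → P => Ideal.span (Set.range v)) (funext fun i => congrArg u (Fin.ext ?_))
    simp
  let I : Ideal P := Ideal.span (Set.range (u ∘ Fin.natAdd 0 : Fin 2 → P))
  haveI : Algebra.Etale C (P ⧸ I) := (IsChart.quot (m := 0) (l := 2) hu).etale_of_zero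
  let σ' : (P ⧸ I) →ₐ[C] C := Ideal.Quotient.liftₐ I σ fun x hx => by
    refine RingHom.mem_ker.1 ((Ideal.span_le.2 ?_) hx)
    rintro _ ⟨i, rfl⟩
    exact hσu _
  let K := RingHom.ker σ'.toRingHom
  have hs : Function.Surjective σ' := fun c => ⟨algebraMap C _ c, σ'.commutes c⟩
  have hKfg : K.FG := Algebra.FinitePresentation.ker_fG_of_surjective σ' hs
  have hKK : IsIdempotentElem K := by
    refine le_antisymm Ideal.mul_le_right fun x hx => ?_
    let f₁ : (P ⧸ I) →ₐ[C] (P ⧸ I) ⧸ (K * K) := Ideal.Quotient.mkₐ C _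
    let f₂ : (P ⧸ I) →ₐ[C] (P ⧸ I) ⧸ (K * K) := (Algebra.ofId C _).comp σ'
    have hN : (K.map (Ideal.Quotient.mk (K * K))) ^ 2 = ⊥ := by
      rw [pow_two, ← Ideal.map_mul, Ideal.map_quotient_self]
    have heq : f₁ = f₂ := by
      refine Algebra.FormallyUnramified.comp_injective _ hN (AlgHom.ext fun y => ?_)
      refine Ideal.Quotient.eq.2 ?_
      show Ideal.Quotient.mk (K * K) y - algebraMap C _ (σ' y) ∈ K.map (Ideal.Quotient.mk (K * K))
      rw [IsScalarTower.algebraMap_apply C (P ⧸ I) ((P ⧸ I) ⧸ (K * K)), Ideal.Quotient.algebraMap_eq, ← map_sub]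
      refine Ideal.mem_map_of_mem _ (RingHom.mem_ker.2 ?_)
      show σ' (y - algebraMap C _ (σ' y)) = 0
      rw [map_sub, σ'.commutes]
      simp
    have h1 := AlgHom.congr_fun heq x
    rw [← Ideal.Quotient.eq_zero_iff_mem]
    refine h1.trans ?_
    show algebraMap C _ (σ' x) = 0
    rw [show σ' x = 0 from hx, map_zero]
  obtain ⟨ε, hε, hK⟩ := (Ideal.isIdempotentElem_iff_of_fg K hKfg).1 hKK
  obtain ⟨e, he⟩ := Ideal.Quotient.mk_surjective (1 - ε)
  have hεK : σ' ε = 0 := RingHom.mem_ker.1 (show ε ∈ K from hK ▸ Submodule.mem_span_singleton_self ε)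
  refine ⟨e, ?_, fun x hx => ?_⟩
  · show σ' (Ideal.Quotient.mk I e) = 1
    rw [he, map_sub, map_one, hεK, sub_zero]
  · rw [← hsub]
    refine Ideal.Quotient.eq_zero_iff_mem.1 ?_
    have hxK : Ideal.Quotient.mk I x ∈ K := RingHom.mem_ker.2 hx
    rw [hK, Submodule.mem_span_singleton] at hxK
    obtain ⟨c, hc⟩ := hxK
    rw [map_mul, he, ← hc, smul_eq_mul]
    linear_combination (-c) * hε.eq

/-- an empty family is a chart of an étale algebra -/
theorem isChart_empty (R C : Type u) [CommRing R] [CommRing C] [Algebra R C] [Algebra.Etale R C] :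
    IsChart R (Fin.elim0 : Fin 0 → C) := by
  have hb : Function.Bijective (algebraMap R (MvPolynomial (Fin 0) R)) := ⟨C_injective _ _, C_surjective _⟩
  let e := RingEquiv.ofBijective _ hb
  have := RingHom.Etale.respectsIso.2 (algebraMap R C) e.symm (RingHom.etale_algebraMap.2 inferInstance)
  unfold IsChart
  refine Eq.subst (motive := fun f => RingHom.Etale f) ?_ this
  refine MvPolynomial.ringHom_ext (fun r => ?_) (fun i => i.elim0)
  show algebraMap R C (e.symm (MvPolynomial.C r)) = aeval _ (MvPolynomial.C r)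
  rw [aeval_C, show e.symm (MvPolynomial.C r) = r from e.symm_apply_apply r]

/-- translated coordinates -/
theorem isChart_translate (R C : Type u) [CommRing R] [CommRing C] [Algebra R C] [Algebra.Etale R C] {n : ℕ}
    (c : Fin n → C) : IsChart R (fun i => (X i + MvPolynomial.C (c i) : MvPolynomial (Fin n) C)) := by
  classical
  have hX := isChart_poly R C n
  have hC0 := isChart_empty R C
  have hdC : ∀ (D : Derivation R (MvPolynomial (Fin n) C) (MvPolynomial (Fin n) C)) (a : C),
      D (MvPolynomial.C a) = 0 := fun D a =>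
    DFunLike.congr_fun (hC0.der_ext (D.compAlgebraMap C) 0 fun i => i.elim0) a
  refine hX.jac _ ?_
  rw [show (Matrix.of fun i j => hX.pd i (X j + MvPolynomial.C (c j) : MvPolynomial (Fin n) C)) = 1 from
    Matrix.ext fun i j => by rw [Matrix.of_apply, map_add, hdC, add_zero, hX.pd_z, Matrix.one_apply],
    Matrix.det_one]
  exact isUnit_one

variable {R C T : Type u} [CommRing R] [CommRing C] [CommRing T] [Algebra R C] [Algebra R T]

/-- base change of an étale algebra along an étale map, with a section -/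
theorem exists_pushout {Z Q : Type u} [CommRing Z] [CommRing Q] [Algebra R Z] [Algebra Z T] [Algebra Z Q]
    [Algebra R Q] [Algebra C Q] [IsScalarTower R C Q] [IsScalarTower R Z T] [IsScalarTower R Z Q]
    [Algebra.Etale Z T] [Algebra.Etale Z Q] (γ : T →ₐ[R] C) (α : Q →ₐ[C] C)
    (hcomp : ∀ p, α (algebraMap Z Q p) = γ (algebraMap Z T p)) :
    ∃ (P : Type u) (_ : CommRing P) (_ : Algebra R P) (_ : Algebra C P) (_ : IsScalarTower R C P)
      (ι : T →ₐ[R] P) (j : Q →ₐ[C] P) (σ : P →ₐ[C] C),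
      ι.toRingHom.Etale ∧ j.toRingHom.Etale ∧ (∀ t, σ (ι t) = γ t) ∧ (∀ q, σ (j q) = α q) ∧
        ∀ p, ι (algebraMap Z T p) = j (algebraMap Z Q p) := by
  letI : Algebra T (Q ⊗[Z] T) := Algebra.TensorProduct.rightAlgebra
  letI : Algebra Z C := (γ.toRingHom.comp (algebraMap Z T)).toAlgebra
  let α' : Q →ₐ[Z] C := { α.toRingHom with commutes' := hcomp }
  let β : T →ₐ[Z] C := { γ.toRingHom with commutes' := fun p => rfl }
  let σ₁ : Q ⊗[Z] T →ₐ[Z] C := Algebra.TensorProduct.lift α' β fun _ _ => Commute.all _ _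
  have hq : ∀ q : Q, σ₁ (q ⊗ₜ 1) = α q := fun q => by
    rw [Algebra.TensorProduct.lift_tmul, map_one, mul_one]
    rfl
  let σ₀ : Q ⊗[Z] T →ₐ[C] C :=
    { σ₁.toRingHom with
      commutes' := fun c => by
        show σ₁ (algebraMap C Q c ⊗ₜ 1) = c
        rw [hq, AlgHom.commutes]
        rfl }
  refine ⟨Q ⊗[Z] T, inferInstance, inferInstance, inferInstance, inferInstance,
    (Algebra.TensorProduct.includeRight : T →ₐ[Z] Q ⊗[Z] T).restrictScalars R,
    IsScalarTower.toAlgHom C Q (Q ⊗[Z] T), σ₀, ?_, ?_, fun t => ?_, fun q => hq q, fun p => ?_⟩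
  · exact RingHom.Etale.isStableUnderBaseChange Z Q T (Q ⊗[Z] T) (RingHom.etale_algebraMap.2 inferInstance)
  · exact RingHom.etale_algebraMap.2 (inferInstanceAs (Algebra.Etale Q (Q ⊗[Z] T)))
  · show σ₁ (1 ⊗ₜ t) = γ t
    rw [Algebra.TensorProduct.lift_tmul, map_one, one_mul]
    rfl
  · show (1 : Q) ⊗ₜ[Z] algebraMap Z T p = algebraMap Z Q p ⊗ₜ[Z] 1
    rw [Algebra.algebraMap_eq_smul_one, Algebra.algebraMap_eq_smul_one, TensorProduct.tmul_smul,
      TensorProduct.smul_tmul']

variable [Algebra.Etale R C] {z : Fin 2 → T}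

/-- **the split chart**: coordinates over `C` centred at a `C`-valued point -/
theorem exists_split (h : IsChart R z) (γ : T →ₐ[R] C) :
    ∃ (P : Type u) (_ : CommRing P) (_ : Algebra R P) (_ : Algebra C P) (_ : IsScalarTower R C P)
      (ι : T →ₐ[R] P) (u : Fin 2 → P) (_ : IsChart C u) (σ : P →ₐ[C] C),
      ι.toRingHom.Etale ∧ (∀ t, σ (ι t) = γ t) ∧ (∀ i, ι (z i) = u i + algebraMap C P (γ (z i))) ∧
        ∀ x, σ x = 0 ↔ x ∈ Ideal.span (Set.range u) := by
  classical
  let w : Fin 2 → MvPolynomial (Fin 2) C := fun i => X i + MvPolynomial.C (γ (z i))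
  have hw : IsChart R w := isChart_translate R C fun i => γ (z i)
  letI : Algebra (MvPolynomial (Fin 2) R) T := (aeval z : _ →ₐ[R] T).toRingHom.toAlgebra
  haveI : IsScalarTower R (MvPolynomial (Fin 2) R) T :=
    IsScalarTower.of_algebraMap_eq fun r => ((aeval z : _ →ₐ[R] T).commutes r).symm
  haveI : Algebra.Etale (MvPolynomial (Fin 2) R) T := h
  letI : Algebra (MvPolynomial (Fin 2) R) (MvPolynomial (Fin 2) C) := (aeval w : _ →ₐ[R] _).toRingHom.toAlgebra
  haveI : IsScalarTower R (MvPolynomial (Fin 2) R) (MvPolynomial (Fin 2) C) :=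
    IsScalarTower.of_algebraMap_eq fun r => ((aeval w : _ →ₐ[R] _).commutes r).symm
  haveI : Algebra.Etale (MvPolynomial (Fin 2) R) (MvPolynomial (Fin 2) C) := hw
  have hcomp : ∀ p : MvPolynomial (Fin 2) R,
      (aeval (fun _ => (0 : C)) : MvPolynomial (Fin 2) C →ₐ[C] C) (aeval w p) = γ (aeval z p) := fun p =>
    AlgHom.congr_fun (show ((aeval (fun _ => (0 : C)) : MvPolynomial (Fin 2) C →ₐ[C] C).restrictScalars R).comp
        (aeval w) = γ.comp (aeval z) from MvPolynomial.algHom_ext fun i => by simp [w]) p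
  obtain ⟨P₀, _, _, _, _, ι₀, j, σ₀, hι₀, hj, hσι, hσj, hcomm⟩ :=
    exists_pushout (Z := MvPolynomial (Fin 2) R) (Q := MvPolynomial (Fin 2) C) γ (aeval fun _ => (0 : C)) hcomp
  let u₀ : Fin 2 → P₀ := fun i => j (X i)
  have hu₀ : IsChart C u₀ := by
    unfold IsChart
    rw [show (aeval u₀ : MvPolynomial (Fin 2) C →ₐ[C] P₀) = j from
      MvPolynomial.algHom_ext fun i => by rw [aeval_X]]
    exact hj
  have hιz : ∀ i, ι₀ (z i) = u₀ i + algebraMap C P₀ (γ (z i)) := fun i => by
    have h1 := hcomm (X i)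
    rw [show algebraMap (MvPolynomial (Fin 2) R) T (X i) = z i from aeval_X z i,
      show algebraMap (MvPolynomial (Fin 2) R) (MvPolynomial (Fin 2) C) (X i) = w i from aeval_X w i] at h1
    rw [h1, map_add, ← MvPolynomial.algebraMap_eq, AlgHom.commutes]
  have hσu : ∀ i, σ₀ (u₀ i) = 0 := fun i => by rw [hσj, aeval_X]
  obtain ⟨e, he1, he2⟩ := exists_idem hu₀ σ₀ hσu
  let P := Localization.Away e
  have heu : IsUnit (σ₀ e) := by rw [he1]; exact isUnit_one
  let σ : P →ₐ[C] C := IsLocalization.Away.liftAlgHom (f := σ₀) e heu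
  have hσ : ∀ x, σ (algebraMap P₀ P x) = σ₀ x := fun x =>
    IsLocalization.Away.lift_eq (g := σ₀.toRingHom) e heu x
  refine ⟨P, inferInstance, inferInstance, inferInstance, inferInstance,
    (IsScalarTower.toAlgHom R P₀ P).comp ι₀, algebraMap P₀ P ∘ u₀, hu₀.away e, σ, ?_,
    fun t => (hσ _).trans (hσι t), fun i => ?_, fun x => ⟨fun hx => ?_, fun hx => ?_⟩⟩
  · exact RingHom.Etale.stableUnderComposition _ _ hι₀
      (RingHom.etale_algebraMap.2 (inferInstanceAs (Algebra.Etale P₀ (Localization.Away e))))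
  · show algebraMap P₀ P (ι₀ (z i)) = _
    rw [hιz, map_add, ← IsScalarTower.algebraMap_apply]
    rfl
  · obtain ⟨k, a, ha⟩ := IsLocalization.Away.surj (S := P) e x
    have h0 : σ₀ a = 0 := by
      rw [← hσ, ← ha, map_mul, hx, zero_mul]
    have hu := IsLocalization.Away.algebraMap_isUnit (S := P) e
    rw [Set.range_comp, ← Ideal.map_span]
    refine (Ideal.mul_unit_mem_iff_mem _ (hu.pow (k + 1))).1 ?_
    rw [pow_succ, ← mul_assoc, ha, ← map_mul, mul_comm]
    exact Ideal.mem_map_of_mem _ (he2 a h0)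
  · refine RingHom.mem_ker.1 ((Ideal.span_le.2 ?_) hx : x ∈ RingHom.ker σ.toRingHom)
    rintro _ ⟨i, rfl⟩
    exact (hσ _).trans (hσu i)

omit [Algebra.Etale R C] in
/-- **the second order expansion** -/
theorem exists_expansion {P : Type u} [CommRing P] [Algebra C P] {u : Fin 2 → P} (hu : IsChart C u)
    (σ : P →ₐ[C] C) (hσ : ∀ x, σ x = 0 ↔ x ∈ Ideal.span (Set.range u)) (G : P)
    (hG : ∀ i, σ (hu.pd i G) = 0) :
    ∃ a b c : P, G = algebraMap C P (σ G) + (a * u 0 ^ 2 + b * (u 0 * u 1) + c * u 1 ^ 2) ∧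
      σ (b ^ 2 - 4 * a * c) = -σ (Matrix.of fun i j => hu.pd i (hu.pd j G)).det := by
  have hmem : ∀ x, σ x = 0 → ∃ α β, x = α * u 0 + β * u 1 := fun x hx => by
    obtain ⟨c, hc⟩ := Ideal.mem_span_range_iff_exists_fun.1 ((hσ x).1 hx)
    exact ⟨c 0, c 1, by rw [← hc, Fin.sum_univ_two]⟩
  have hσu : ∀ i, σ (u i) = 0 := fun i => (hσ _).2 (Ideal.subset_span ⟨i, rfl⟩)
  have hC : ∀ i c, hu.pd i (algebraMap C P c) = 0 := fun i c => Derivation.map_algebraMap _ c
  obtain ⟨α, β, hαβ⟩ := hmem (G - algebraMap C P (σ G)) (by rw [map_sub, AlgHom.commutes]; simp)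
  have hd : ∀ i, σ (hu.pd i G) = σ α * (if i = 0 then 1 else 0) + σ β * (if i = 1 then 1 else 0) := fun i => by
    rw [show G = algebraMap C P (σ G) + (α * u 0 + β * u 1) by rw [← hαβ]; ring]
    simp only [map_add, hC, Derivation.leibniz, smul_eq_mul, hu.pd_z, map_mul, hσu, zero_mul, add_zero, zero_add]
    split_ifs <;> simp_all
  have hα : σ α = 0 := by simpa [hG] using (hd 0).symm
  have hβ : σ β = 0 := by simpa [hG] using (hd 1).symm
  obtain ⟨a, b₁, ha⟩ := hmem α hα
  obtain ⟨b₂, c, hc⟩ := hmem β hβ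
  have key : G = algebraMap C P (σ G) + (a * u 0 ^ 2 + (b₁ + b₂) * (u 0 * u 1) + c * u 1 ^ 2) := by
    rw [show G = algebraMap C P (σ G) + (α * u 0 + β * u 1) by rw [← hαβ]; ring, ha, hc]
    simp [hσu]
    ring
  refine ⟨a, b₁ + b₂, c, key, ?_⟩
  have H : ∀ i j, σ (hu.pd i (hu.pd j G)) = (Matrix.of ![![2 * σ a, σ (b₁ + b₂)], ![σ (b₁ + b₂), 2 * σ c]]) i j := by
    intro i j
    rw [key]
    fin_cases i <;> fin_cases j <;>
      simp [pow_two, Derivation.leibniz, smul_eq_mul, hu.pd_z, hC, hσu] <;> ring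
  rw [AlgHom.map_det, Matrix.det_fin_two]
  simp only [AlgHom.mapMatrix_apply, Matrix.map_apply, Matrix.of_apply, H]
  simp [pow_two]
  rw [map_ofNat]
  ring

end Groth.Agent.NodeFib
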